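import Mathlib.GroupTheory.PGroup
import Mathlib.Algebra.BigOperators.Group.Finset.Basic
import Mathlib.FieldTheory.Finite.Basic
import Mathlib.NumberTheory.Basic

/-!
Lifting an eigenvector of an automorphism from a section of a finite abelian `p`-group: after replacing
the automorphism by a power, an eigenvector of order `p` appears in the subgroup itself.
-/

set_option autoImplicit false
set_option linter.style.haveILetI false

namespace Cfsg.Agent.Lib.GlaubermanGlobal

variable {A : Type*} [CommGroup A] {p : ℕ}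

theorem pow_act_modW (α : MulAut A) (W : Subgroup A) (hW : ∀ w ∈ W, α w ∈ W) {u : A} {m : ℕ}
    (hact : (α u : A ⧸ W) = (u : A ⧸ W) ^ m) (j : ℕ) :
    (((α ^ j) u : A) : A ⧸ W) = (u : A ⧸ W) ^ m ^ j := by
  induction j with
  | zero => simp
  | succ j ih =>
    rw [← QuotientGroup.mk_pow, QuotientGroup.eq] at ih
    have h1 : ((α ((α ^ j) u) : A) : A ⧸ W) = ((α (u ^ m ^ j) : A) : A ⧸ W) := by
      rw [QuotientGroup.eq, ← map_inv, ← map_mul]
      exact hW _ ih
    rw [pow_succ', MulAut.mul_apply, h1, map_pow, QuotientGroup.mk_pow, hact, ← pow_mul,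
      ← pow_succ']

/-- An eigenvalue `m` on a section of exponent `p` is attained by an element of order `p`, for some
power of the automorphism. -/
theorem exists_eigen_lift [Finite A] [hp : Fact p.Prime] (hA : IsPGroup p A) (α : MulAut A)
    (U W : Subgroup A) (hU : ∀ u ∈ U, α u ∈ U) (hW : ∀ w ∈ W, α w ∈ W) {u : A} (hu : u ∈ U)
    (huW : u ∉ W) (hup : u ^ p ∈ W) {m : ℕ} (hact : (α u : A ⧸ W) = (u : A ⧸ W) ^ m) :
    ∃ k : ℕ, ∃ y ∈ U, y ≠ 1 ∧ y ^ p = 1 ∧ (α ^ k) y = y ^ m := by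
  classical
  haveI : Finite (MulAut A) := Finite.of_injective (fun f => (f : A → A)) DFunLike.coe_injective
  obtain ⟨a, n, hn, hord⟩ :=
    Nat.exists_eq_pow_mul_and_not_dvd (orderOf_pos α).ne' p hp.out.ne_one
  set β := α ^ p ^ a with hβ
  set q : A ⧸ W := (u : A ⧸ W) with hq
  have hq1 : q ≠ 1 := fun h => huW ((QuotientGroup.eq_one_iff u).1 h)
  have hqp : orderOf q = p :=
    orderOf_eq_prime (by rw [hq, ← QuotientGroup.mk_pow]; exact (QuotientGroup.eq_one_iff _).2 hup) hq1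
  have hmod : ∀ {i j : ℕ}, (i : ZMod p) = j → q ^ i = q ^ j := fun h =>
    pow_eq_pow_iff_modEq.2 (hqp.symm ▸ (ZMod.natCast_eq_natCast_iff' _ _ _).1 h)
  have hpa : ((m ^ p ^ a : ℕ) : ZMod p) = (m : ZMod p) := by
    rw [Nat.cast_pow, ZMod.pow_card_pow]
  have hWβ : ∀ j : ℕ, ∀ w ∈ W, (α ^ j) w ∈ W := by
    intro j
    induction j with
    | zero => intro w hw; simpa using hw
    | succ j ih => intro w hw; rw [pow_succ', MulAut.mul_apply]; exact hW _ (ih w hw)
  have hUβ : ∀ j : ℕ, ∀ w ∈ U, (α ^ j) w ∈ U := by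
    intro j
    induction j with
    | zero => intro w hw; simpa using hw
    | succ j ih => intro w hw; rw [pow_succ', MulAut.mul_apply]; exact hU _ (ih w hw)
  have hβact : ∀ i : ℕ, (((β ^ i) u : A) : A ⧸ W) = q ^ m ^ i := by
    refine fun i => pow_act_modW β W (hWβ _) ?_ i
    rw [hβ, pow_act_modW α W hW hact]
    exact hmod hpa
  have hβn : β ^ n = 1 := by rw [hβ, ← pow_mul, ← hord, pow_orderOf_eq_one]
  have hmn : ((m : ZMod p)) ^ n = 1 := by
    have h := hβact n
    rw [hβn, MulAut.one_apply] at h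
    have h2 : q ^ 1 = q ^ m ^ n := by rw [pow_one]; exact h
    rw [pow_eq_pow_iff_modEq, hqp, ← ZMod.natCast_eq_natCast_iff] at h2
    simpa using h2.symm
  obtain ⟨e, he⟩ := IsPGroup.iff_card.1 hA
  set μ := m ^ p ^ e with hμ
  have hμm : (μ : ZMod p) = (m : ZMod p) := by rw [hμ, Nat.cast_pow, ZMod.pow_card_pow]
  have hexp : ∀ x : A, x ^ μ ^ n = x := by
    intro x
    have hdvd : (p : ℤ) ∣ ((m : ℤ) ^ n - 1) := by
      rw [← ZMod.intCast_zmod_eq_zero_iff_dvd]
      push_cast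
      rw [hmn, sub_self]
    have h2 := dvd_sub_pow_of_dvd_sub hdvd e
    rw [one_pow, ← pow_mul, Nat.mul_comm, pow_mul] at h2
    conv_rhs => rw [← pow_one x]
    rw [pow_eq_pow_iff_modEq]
    refine Nat.ModEq.of_dvd ((orderOf_dvd_natCard x).trans (he ▸ pow_dvd_pow p e.le_succ)) ?_
    refine Nat.ModEq.symm ?_
    rw [Nat.modEq_iff_dvd]
    push_cast [hμ]
    exact h2
  let f : ℕ → A := fun i => ((β ^ i) u) ^ μ ^ (n + 1 - i)
  set y₀ := ∏ i ∈ Finset.range n, ((β ^ i) u) ^ μ ^ (n - i) with hy₀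
  have hy : β y₀ = y₀ ^ μ := by
    have h1 : β y₀ = ∏ i ∈ Finset.range n, f (i + 1) := by
      rw [hy₀, map_prod]
      refine Finset.prod_congr rfl fun i hi => ?_
      simp only [f]
      rw [map_pow, pow_succ', MulAut.mul_apply, Nat.add_sub_add_right]
    have h2 : y₀ ^ μ = ∏ i ∈ Finset.range n, f i := by
      rw [hy₀, ← Finset.prod_pow]
      refine Finset.prod_congr rfl fun i hi => ?_
      simp only [f]
      rw [← pow_mul, ← pow_succ, Nat.succ_sub (Finset.mem_range.1 hi).le]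
    have h0 : f 0 = f n := by
      simp only [f]
      rw [hβn, pow_zero, MulAut.one_apply, Nat.sub_zero, Nat.add_sub_cancel_left, pow_one,
        pow_succ, pow_mul, hexp]
    have h3 := (Finset.prod_range_succ' f n).symm.trans (Finset.prod_range_succ f n)
    rw [h0, ← h1, ← h2] at h3
    exact mul_right_cancel h3
  have hy₀U : y₀ ∈ U := U.prod_mem fun i _ => U.pow_mem (by rw [hβ, ← pow_mul]; exact hUβ _ u hu) _
  have hy₀1 : y₀ ≠ 1 := by
    intro h
    have him : (y₀ : A ⧸ W) = q ^ n := by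
      rw [hy₀, QuotientGroup.mk_prod]
      conv_rhs => rw [← Finset.card_range n, ← Finset.prod_const]
      refine Finset.prod_congr rfl fun i hi => ?_
      rw [QuotientGroup.mk_pow, hβact, ← pow_mul]
      conv_rhs => rw [← pow_one q]
      apply hmod
      push_cast
      rw [hμm, ← pow_add, Nat.add_sub_cancel' (Finset.mem_range.1 hi).le, hmn]
    rw [h, QuotientGroup.mk_one] at him
    exact hn (hqp ▸ orderOf_dvd_of_pow_eq_one him.symm)
  obtain ⟨j, hj⟩ := IsPGroup.iff_orderOf.1 hA y₀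
  cases j with
  | zero => exact absurd (orderOf_eq_one_iff.1 (by simpa using hj)) hy₀1
  | succ j =>
    have hyp : (y₀ ^ p ^ j) ^ p = 1 := by rw [← pow_mul, ← pow_succ, ← hj, pow_orderOf_eq_one]
    refine ⟨p ^ a, y₀ ^ p ^ j, U.pow_mem hy₀U _, ?_, hyp, ?_⟩
    · intro h
      have h2 := orderOf_dvd_of_pow_eq_one h
      rw [hj, Nat.pow_dvd_pow_iff_le_right hp.out.one_lt] at h2
      omega
    · rw [← hβ, map_pow, hy, ← pow_mul, Nat.mul_comm, pow_mul]
      refine pow_eq_pow_iff_modEq.2 ?_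
      exact ((ZMod.natCast_eq_natCast_iff _ _ _).1 hμm).of_dvd (orderOf_dvd_of_pow_eq_one hyp)

end Cfsg.Agent.Lib.GlaubermanGlobal
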