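import Cfsg.Agent.Lib.GlaubermanGlobal.FModule
import Cfsg.Agent.Lib.Coprime.Glauberman
import Cfsg.Prelude.Def_LocalEven

/-!
The section `F(p)`: a group of order `(p - 1) p ^ 3` of triangular affine matrices is involved as soon
as `h` and `x`, with `h ^ j` centralizing `x`, act on a two-dimensional quotient of a subgroup as a
torus element with `-1 = μ ^ j` and as a transvection.
-/

set_option autoImplicit false
set_option linter.style.haveILetI false
set_option linter.unusedSectionVars false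
set_option maxHeartbeats 1000000

namespace Cfsg.Agent.Lib.GlaubermanGlobal

open Matrix
open Cfsg.Agent.Lib.Quadratic (InPRad affine affine_mul affine_one)
open Cfsg.Agent.Lib.ConjFunctor.Basic Cfsg.Agent.Lib.Fusion.Alperin
open Cfsg.Agent.Lib.PLocal.SLTwo (up up_add up_zero val_mul up_natCast)

variable {p : ℕ} [hp : Fact p.Prime]

/-- `g` normalizes `Y` and acts on its image under `π` by the matrix `A`. -/
def GActs {G : Type*} [Group G] {Y : Subgroup G}
    (π : Y →* Multiplicative (Fin 2 → ZMod p)) (g : G)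
    (A : Matrix.SpecialLinearGroup (Fin 2) (ZMod p)) : Prop :=
  ∀ u : Y, ∃ w : Y, (w : G) = g * u * g⁻¹ ∧ (π w).toAdd = A.1 *ᵥ (π u).toAdd

section GActs

variable {G : Type*} [Group G] {Y : Subgroup G} {π : Y →* Multiplicative (Fin 2 → ZMod p)}

theorem GActs.one : GActs π 1 1 := fun u => ⟨u, by simp, by simp⟩

theorem GActs.mul {g g' : G} {A B : Matrix.SpecialLinearGroup (Fin 2) (ZMod p)}
    (h : GActs π g A) (h' : GActs π g' B) : GActs π (g * g') (A * B) := by
  intro v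
  obtain ⟨w, hw, hw'⟩ := h' v
  obtain ⟨u, hu, hu'⟩ := h w
  exact ⟨u, by rw [hu, hw]; group, by rw [hu', hw', val_mul, Matrix.mulVec_mulVec]⟩

theorem GActs.pow {g : G} {A : Matrix.SpecialLinearGroup (Fin 2) (ZMod p)} (h : GActs π g A) :
    ∀ n : ℕ, GActs π (g ^ n) (A ^ n) := by
  intro n
  induction n with
  | zero => rw [pow_zero, pow_zero]; exact GActs.one
  | succ n ih => rw [pow_succ, pow_succ]; exact ih.mul h

theorem GActs.unique (hπ : Function.Surjective π) {g : G}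
    {A B : Matrix.SpecialLinearGroup (Fin 2) (ZMod p)} (h : GActs π g A) (h' : GActs π g B) :
    A = B := by
  apply Subtype.ext
  apply Matrix.toLin'.injective
  refine LinearMap.ext fun x => ?_
  obtain ⟨v, hv⟩ := hπ (Multiplicative.ofAdd x)
  obtain ⟨w, hw, hw'⟩ := h v
  obtain ⟨w', hu, hu'⟩ := h' v
  rw [hv, toAdd_ofAdd] at hw' hu'
  rw [Matrix.toLin'_apply, Matrix.toLin'_apply, ← hw', ← hu', Subtype.ext (hw.trans hu.symm)]

theorem GActs.inv [Finite G] (hπ : Function.Surjective π) {g : G}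
    {A : Matrix.SpecialLinearGroup (Fin 2) (ZMod p)} (h : GActs π g A) :
    GActs π g⁻¹ A⁻¹ := by
  have hn := orderOf_pos g
  have h1 : A ^ orderOf g = 1 :=
    GActs.unique hπ (pow_orderOf_eq_one g ▸ h.pow (orderOf g)) GActs.one
  have e1 : g ^ (orderOf g - 1) = g⁻¹ :=
    eq_inv_of_mul_eq_one_left (by rw [← pow_succ, Nat.sub_add_cancel hn, pow_orderOf_eq_one])
  have e2 : A ^ (orderOf g - 1) = A⁻¹ :=
    eq_inv_of_mul_eq_one_left (by rw [← pow_succ, Nat.sub_add_cancel hn, h1])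
  have h2 := h.pow (orderOf g - 1)
  rwa [e1, e2] at h2

theorem GActs.mem_normalizer [Finite G] {g : G}
    {A : Matrix.SpecialLinearGroup (Fin 2) (ZMod p)} (h : GActs π g A) :
    g ∈ Subgroup.normalizer (Y : Set G) :=
  mem_normalizer_of_forall fun u hu => by
    obtain ⟨w, hw, -⟩ := h ⟨u, hu⟩
    exact (hw : (w : G) = g * u * g⁻¹) ▸ w.2

end GActs

theorem diaHom_neg_one : diaHom p (-1) = Dickson.negI := by
  apply Subtype.ext
  rw [coe_diaHom, Dickson.coe_negI]
  ext i j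
  fin_cases i <;> fin_cases j <;> simp

/-- **The section `F(p)`.** -/
theorem involves_fOver (hp2 : p ≠ 2) {G : Type*} [Group G] [Finite G] {Y : Subgroup G}
    (π : Y →* Multiplicative (Fin 2 → ZMod p)) (hπ : Function.Surjective π) {x h : G}
    {μ : (ZMod p)ˣ} (hμ : IsGen μ) {j : ℕ} (hj : μ ^ j = -1) (hx : GActs π x (up 1))
    (hh : GActs π h (diaHom p μ)) (hcomm : h ^ j * x = x * h ^ j) :
    Cfsg.Involves ↥(Cfsg.fOver (ZMod p)) G := by
  classical
  set N := Subgroup.closure ({x, h} : Set G) with hN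
  have hxN : x ∈ N := Subgroup.subset_closure (Or.inl rfl)
  have hhN : h ∈ N := Subgroup.subset_closure (Or.inr rfl)
  -- the triangular action of `N`
  let Tri : Subgroup (Matrix.SpecialLinearGroup (Fin 2) (ZMod p)) :=
    { carrier := {A | A.1 1 0 = 0}
      one_mem' := by simp
      mul_mem' := fun {A B} hA hB => by
        simp only [Set.mem_setOf_eq, val_mul] at *
        simp [Matrix.mul_apply, Fin.sum_univ_two, hA, hB]
      inv_mem' := fun {A} hA => by
        simp only [Set.mem_setOf_eq, Matrix.SpecialLinearGroup.coe_inv, Matrix.adjugate_fin_two] at *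
        simp [hA] }
  have hτ : ∀ n ∈ N, ∃ A ∈ Tri, GActs π n A := by
    intro n hn
    induction hn using Subgroup.closure_induction with
    | mem y hy =>
      rcases hy with rfl | rfl
      · exact ⟨up 1, by show (up (1 : ZMod p)).1 1 0 = 0; simp [Dickson.coe_up], hx⟩
      · exact ⟨diaHom p μ, by show (diaHom p μ).1 1 0 = 0; simp [coe_diaHom, -Units.val_inv_eq_inv_val], hh⟩
    | one => exact ⟨1, Tri.one_mem, GActs.one⟩
    | mul y z _ _ ihy ihz =>
      obtain ⟨A, hA, hA'⟩ := ihy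
      obtain ⟨B, hB, hB'⟩ := ihz
      exact ⟨A * B, Tri.mul_mem hA hB, hA'.mul hB'⟩
    | inv y _ ih =>
      obtain ⟨A, hA, hA'⟩ := ih
      exact ⟨A⁻¹, Tri.inv_mem hA, hA'.inv hπ⟩
  choose τ hτTri hτ using hτ
  set t := h ^ j with ht
  have htY : GActs π t Dickson.negI := by
    have := hh.pow j
    rwa [← map_pow, hj, diaHom_neg_one] at this
  have hcen : N ≤ Subgroup.centralizer ({t} : Set G) := by
    rw [hN, Subgroup.closure_le]
    intro y hy
    rcases hy with rfl | rfl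
    · exact Subgroup.mem_centralizer_singleton_iff.2 hcomm.symm
    · exact Subgroup.mem_centralizer_singleton_iff.2 (Commute.self_pow _ j)
  have hint : ∀ y : Y, (y : G) ∈ N → (π y).toAdd = 0 ∧ GActs π (y : G) 1 := by
    intro y hy
    have hc : (y : G) * t = t * y := Subgroup.mem_centralizer_singleton_iff.1 (hcen hy)
    have h0 : (π y).toAdd = 0 := by
      obtain ⟨w, hw, hw'⟩ := htY y
      have hwy : w = y := Subtype.ext (by rw [hw, ← hc, mul_inv_cancel_right])
      rw [hwy, Dickson.coe_negI, Matrix.neg_mulVec, Matrix.one_mulVec, eq_neg_iff_add_eq_zero,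
        ← two_smul (ZMod p)] at hw'
      exact (smul_eq_zero.1 hw').resolve_left (Dickson.two_ne_zero_char hp2)
    refine ⟨h0, fun u => ⟨y * u * y⁻¹, rfl, ?_⟩⟩
    rw [MonoidHom.map_mul, MonoidHom.map_mul, MonoidHom.map_inv,
      Matrix.SpecialLinearGroup.coe_one, Matrix.one_mulVec, mul_inv_cancel_comm]
  have hNY : N ≤ Subgroup.normalizer (Y : Set G) := fun n hn => (hτ n hn).mem_normalizer
  -- the product `Y N`
  let K : Subgroup G :=
    { carrier := {g | ∃ u : Y, ∃ n ∈ N, g = (u : G) * n}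
      one_mem' := ⟨1, 1, one_mem _, by simp⟩
      mul_mem' := by
        rintro _ _ ⟨u, n, hn, rfl⟩ ⟨u', n', hn', rfl⟩
        obtain ⟨w, hw, -⟩ := hτ n hn u'
        exact ⟨u * w, n * n', mul_mem hn hn', by rw [Subgroup.coe_mul, hw]; group⟩
      inv_mem' := by
        rintro _ ⟨u, n, hn, rfl⟩
        obtain ⟨w, hw, -⟩ := hτ n⁻¹ (inv_mem hn) u⁻¹
        exact ⟨w, n⁻¹, inv_mem hn, by rw [hw, Subgroup.coe_inv]; group⟩ }
  have hK : ∀ g : K, ∃ u : Y, ∃ n, n ∈ N ∧ (g : G) = (u : G) * n := fun g => by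
    obtain ⟨u, n, hn, he⟩ := g.2
    exact ⟨u, n, hn, he⟩
  choose u n hn hun using hK
  let Φ : K → Matrix.SpecialLinearGroup (Fin 3) (ZMod p) :=
    fun g => affine (τ (n g) (hn g)) (π (u g)).toAdd
  have huniq : ∀ (g : K) (v : Y) (m : G) (hm : m ∈ N), (g : G) = (v : G) * m →
      Φ g = affine (τ m hm) (π v).toAdd := by
    intro g v m hm hgm
    have h1 : ((v⁻¹ * u g : Y) : G) = m * (n g)⁻¹ := by
      rw [Subgroup.coe_mul, Subgroup.coe_inv, eq_mul_inv_iff_mul_eq, mul_assoc, ← hun g, hgm,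
        inv_mul_cancel_left]
    obtain ⟨h0, h2⟩ := hint (v⁻¹ * u g) (h1 ▸ mul_mem hm (inv_mem (hn g)))
    have hv : (π (u g)).toAdd = (π v).toAdd := by
      rw [map_mul, map_inv, toAdd_mul, toAdd_inv, neg_add_eq_zero] at h0
      exact h0.symm
    have hm' : τ m hm = τ (n g) (hn g) := by
      refine GActs.unique hπ (hτ m hm) ?_
      have h3 := h2.mul (hτ (n g) (hn g))
      rwa [h1, inv_mul_cancel_right, one_mul] at h3
    show affine _ _ = _
    rw [hv, hm']
  let f : K →* Matrix.SpecialLinearGroup (Fin 3) (ZMod p) := MonoidHom.mk' Φ (by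
    intro a b
    obtain ⟨w, hw, hw'⟩ := hτ (n a) (hn a) (u b)
    rw [huniq (a * b) (u a * w) (n a * n b) (mul_mem (hn a) (hn b))
      (by rw [Subgroup.coe_mul, Subgroup.coe_mul, hun a, hun b, hw]; group)]
    show _ = affine _ _ * affine _ _
    rw [affine_mul, map_mul, toAdd_mul, hw', GActs.unique hπ (hτ _ (mul_mem (hn a) (hn b)))
      ((hτ _ (hn a)).mul (hτ _ (hn b)))])
  have hfmem : ∀ g, f g ∈ Cfsg.fOver (ZMod p) := fun g => by
    refine Subgroup.subset_closure ⟨?_, ?_, ?_, ?_⟩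
    · show (affine _ _).1 1 0 = 0
      rw [Quadratic.coe_affine]
      have h10 : (τ (n g) (hn g)).1 1 0 = 0 := hτTri _ (hn g)
      simp [h10]
    all_goals
      first
      | (show (affine _ _).1 2 0 = 0; simp [Quadratic.coe_affine])
      | (show (affine _ _).1 2 1 = 0; simp [Quadratic.coe_affine])
      | (show (affine _ _).1 2 2 = 1; simp [Quadratic.coe_affine])
  refine Quadratic.involves_of_surjective (f.codRestrict _ hfmem) ?_
  -- every triangular matrix is attained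
  have hBorel : ∀ B : Matrix.SpecialLinearGroup (Fin 2) (ZMod p), B.1 1 0 = 0 →
      ∃ m, ∃ hm : m ∈ N, τ m hm = B := by
    intro B hB
    have hdet : B.1 0 0 * B.1 1 1 = 1 := by
      have h2 := B.2
      rw [Matrix.det_fin_two, hB, mul_zero, sub_zero] at h2
      exact h2
    let c : (ZMod p)ˣ := Units.mk0 (B.1 0 0) (left_ne_zero_of_mul_eq_one hdet)
    obtain ⟨i, hi⟩ := hμ c
    set k := (B.1 0 1 * B.1 1 1).val with hk
    refine ⟨h ^ i * x ^ k, mul_mem (pow_mem hhN i) (pow_mem hxN k), ?_⟩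
    refine GActs.unique hπ (hτ _ _) ?_
    have h1 := (hh.pow i).mul (hx.pow k)
    rw [← map_pow, hi, ← up_natCast, hk, ZMod.natCast_zmod_val] at h1
    convert h1 using 1
    apply Subtype.ext
    rw [val_mul]
    ext a b
    have hc : ((c⁻¹ : (ZMod p)ˣ) : ZMod p) = B.1 1 1 :=
      left_inv_eq_right_inv (Units.inv_mul c) hdet
    fin_cases a <;> fin_cases b
    · simp [coe_diaHom, Dickson.coe_up, Matrix.mul_apply, Fin.sum_univ_two, c,
        -Units.val_inv_eq_inv_val]
    · simp [coe_diaHom, Dickson.coe_up, Matrix.mul_apply, Fin.sum_univ_two, c,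
        -Units.val_inv_eq_inv_val]
      linear_combination (-(B.1 0 1)) * hdet
    · simp [coe_diaHom, Dickson.coe_up, Matrix.mul_apply, Fin.sum_univ_two, hB,
        -Units.val_inv_eq_inv_val]
    · simp only [coe_diaHom, Dickson.coe_up, Matrix.mul_apply, Fin.sum_univ_two]
      simp [hc, -Units.val_inv_eq_inv_val]
  have hle : Cfsg.fOver (ZMod p) ≤ f.range := by
    unfold Cfsg.fOver
    rw [Subgroup.closure_le]
    rintro A ⟨h10, h20, h21, h22⟩
    obtain ⟨B, v, rfl⟩ := Quadratic.exists_affine_of_last_row h20 h21 h22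
    obtain ⟨m, hm, hmB⟩ := hBorel B (by simpa [Quadratic.coe_affine] using h10)
    obtain ⟨w, hw⟩ := hπ (Multiplicative.ofAdd v)
    refine ⟨⟨(w : G) * m, w, m, hm, rfl⟩, ?_⟩
    show Φ _ = _
    rw [huniq _ w m hm rfl, hmB, hw, toAdd_ofAdd]
  rintro ⟨A, hA⟩
  obtain ⟨g, hg⟩ := hle hA
  exact ⟨g, Subtype.ext hg⟩

/-- Involvement passes along an injective homomorphism. -/
theorem involves_of_injective {S G H : Type*} [Group S] [Group G] [Group H] (f : H →* G)
    (hf : Function.Injective f) (h : Cfsg.Involves S H) : Cfsg.Involves S G := by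
  obtain ⟨K, φ, hφ⟩ := Quadratic.exists_surjective_of_involves h
  let e := (K.equivMapOfInjective f hf).symm
  exact Quadratic.involves_of_surjective (φ.comp e.toMonoidHom) (hφ.comp e.surjective)

/-- The data for `F(p)`: a torus configuration whose torus element lies in a proper subgroup
containing `R`. -/
def HasFData {M : Type*} [Group M] (p : ℕ) [Fact p.Prime] (R : Subgroup M) : Prop :=
  ∃ (L₀ Y R₁ : Subgroup M) (π : Y →* Multiplicative (Fin 2 → ZMod p)) (x h : M)
    (μ : (ZMod p)ˣ) (j : ℕ),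
    Function.Surjective π ∧ R ≤ L₀ ∧ L₀ ≠ ⊤ ∧ Y ≤ R ∧ R₁ ≤ R ∧ x ∈ R₁ ∧ h ∈ L₀ ∧
      h ∈ Subgroup.normalizer (R₁ : Set M) ∧ IsGen μ ∧ μ ^ j = -1 ∧
      GActs π x (up 1) ∧ GActs π h (diaHom p μ) ∧ h ^ j * x = x * h ^ j

/-- Existence of the data. -/
theorem exists_fData (hp2 : p ≠ 2) {M : Type*} [Group M] [Finite M] (R : Sylow p M)
    {W : Type*} [CommGroup W] [Finite W] (hWp : ∀ w : W, w ^ p = 1) (α : M →* MulAut W)
    (ι : W →* M) (hι : Function.Injective ι) (hιR : ∀ w, ι w ∈ (R : Subgroup M))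
    (hια : ∀ g w, ι (α g w) = g * ι w * g⁻¹) {a : M} (haR : a ∈ (R : Subgroup M))
    (hq : ∀ w, α a (α a w / w) = α a w / w) (hrad : ¬ InPRad p α.ker a) :
    HasFData p (R : Subgroup M) := by
  classical
  obtain ⟨μ, hμ⟩ := exists_isGen (p := p)
  haveI : Module (ZMod p) (Additive W) :=
    AddCommGroup.zmodModule fun x => Additive.toMul.injective (by simpa using hWp x.toMul)
  let σ : M →* Module.End (ZMod p) (Additive W) :=
    { toFun := fun g =>
        { toFun := fun x => Additive.ofMul (α g x.toMul)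
          map_add' := fun x y => by simp
          map_smul' := fun c x => ZMod.map_smul (MonoidHom.toAdditive (α g).toMonoidHom) c x }
      map_one' := LinearMap.ext fun x => by simp
      map_mul' := fun g h => LinearMap.ext fun x => by simp; rfl }
  have hσ : ∀ g (x : Additive W), σ g x = Additive.ofMul (α g x.toMul) := fun g x => rfl
  have hkerσ : ∀ g, g ∈ σ.ker ↔ g ∈ α.ker := fun g => by
    rw [MonoidHom.mem_ker, MonoidHom.mem_ker]
    constructor
    · intro hg
      refine MulEquiv.ext fun w => ?_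
      exact congrArg (fun f : Module.End (ZMod p) (Additive W) => (f (Additive.ofMul w)).toMul) hg
    · intro hg
      refine LinearMap.ext fun x => ?_
      rw [hσ, hg]
      rfl
  set C := σ.ker with hC
  have hquadσ : (σ a - 1) * (σ a - 1) = 0 := by
    refine LinearMap.ext fun x => ?_
    show σ a (σ a x - x) - (σ a x - x) = 0
    rw [sub_eq_zero]
    exact congrArg Additive.ofMul (hq x.toMul)
  -- a smallest overgroup of `R` with a bad quadratic element
  obtain ⟨L, ⟨hRL, x₀, hx₀R, hx₀q, hx₀rad⟩, hLmin⟩ := Set.exists_min_image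
    {L : Subgroup M | ∃ _ : (R : Subgroup M) ≤ L, ∃ x ∈ (R : Subgroup M),
      (σ x - 1) * (σ x - 1) = 0 ∧ ∀ D : Subgroup M, D ≤ L → L ≤ Subgroup.normalizer (D : Set M) →
        (∀ d ∈ D, ∃ k : ℕ, d ^ p ^ k ∈ C) → x ∉ D}
    (fun L => Nat.card L) (Set.toFinite _)
    ⟨⊤, le_top, a, haR, hquadσ, fun D _ hD hpow haD => hrad ⟨D,
      Subgroup.normalizer_eq_top_iff.1 (top_le_iff.1 hD), haD,
      fun d hd => (hpow d hd).imp fun k hk => (hkerσ _).1 hk⟩⟩
  set Qs := {r : M | r ∈ (R : Subgroup M) ∧ (σ r - 1) * (σ r - 1) = 0} with hQs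
  set E₁ := Subgroup.closure Qs ⊔ C with hE₁
  set H₁ := L ⊓ Subgroup.normalizer (E₁ : Set M) with hH₁
  have hQR : Subgroup.closure Qs ≤ (R : Subgroup M) := (Subgroup.closure_le _).2 fun r hr => hr.1
  have hconjq : ∀ r d : M, (σ r - 1) * (σ r - 1) = 0 →
      (σ (d * r * d⁻¹) - 1) * (σ (d * r * d⁻¹) - 1) = 0 := by
    intro r d hr
    have h1 : σ (d * r * d⁻¹) - 1 = σ d * (σ r - 1) * σ d⁻¹ := by
      rw [mul_sub, sub_mul, mul_one, ← map_mul, ← map_mul, ← map_mul, mul_inv_cancel, map_one]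
    have h2 : σ d⁻¹ * σ d = 1 := by rw [← map_mul, inv_mul_cancel, map_one]
    rw [h1]
    calc σ d * (σ r - 1) * σ d⁻¹ * (σ d * (σ r - 1) * σ d⁻¹)
        = σ d * ((σ r - 1) * (σ d⁻¹ * σ d) * (σ r - 1)) * σ d⁻¹ := by noncomm_ring
      _ = 0 := by rw [h2, mul_one, hr, mul_zero, zero_mul]
  have hnormE : ∀ d : M, (∀ r ∈ Qs, d * r * d⁻¹ ∈ E₁) → d ∈ Subgroup.normalizer (E₁ : Set M) := by
    intro d hd
    refine mem_normalizer_of_forall fun g hg => ?_
    have : E₁.map (MulAut.conj d).toMonoidHom ≤ E₁ := by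
      rw [hE₁, Subgroup.map_sup]
      refine sup_le ?_ ?_
      · rw [MonoidHom.map_closure, Subgroup.closure_le]
        rintro _ ⟨r, hr, rfl⟩
        exact hd r hr
      · rintro _ ⟨c, hc, rfl⟩
        exact le_sup_right (a := Subgroup.closure Qs) ((inferInstance : C.Normal).conj_mem c hc d)
    exact this ⟨g, hg, rfl⟩
  have hRH₁ : (R : Subgroup M) ≤ H₁ := fun r hr => ⟨hRL hr, hnormE r fun s hs =>
    le_sup_left (b := C) (Subgroup.subset_closure
      ⟨(R : Subgroup M).mul_mem ((R : Subgroup M).mul_mem hr hs.1) ((R : Subgroup M).inv_mem hr),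
        hconjq s r hs.2⟩)⟩
  have hH₁L : H₁ ≠ L := by
    intro he
    refine hx₀rad (L ⊓ E₁) inf_le_left
      (fun l hl => mem_normalizer_of_forall fun g hg =>
        ⟨L.mul_mem (L.mul_mem hl hg.1) (L.inv_mem hl),
          (Subgroup.mem_normalizer_iff.1 (he.ge hl : l ∈ H₁).2 g).1 hg.2⟩)
      (fun d hd => ?_)
      ⟨hRL hx₀R, le_sup_left (b := C) (Subgroup.subset_closure ⟨hx₀R, hx₀q⟩)⟩
    have hd' : d ∈ ((Subgroup.closure Qs ⊔ C : Subgroup M) : Set M) := hd.2
    rw [Subgroup.mul_normal _ C] at hd'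
    obtain ⟨r, hr, c, hc, rfl⟩ := hd'
    obtain ⟨k, hk⟩ := R.2 ⟨r, hQR hr⟩
    refine ⟨k, MonoidHom.mem_ker.2 ?_⟩
    rw [map_pow, map_mul, MonoidHom.mem_ker.1 hc, mul_one, ← map_pow,
      show r ^ p ^ k = 1 by simpa using congrArg Subtype.val hk, map_one]
  have hover : ∀ L' : Subgroup M, (R : Subgroup M) ≤ L' → L' ≤ L → L' ≠ L → L' ≤ H₁ := by
    intro L' hRL' hL'L hne g hg
    refine ⟨hL'L hg, hnormE g fun r hr => ?_⟩
    have hsmall : ¬ ∀ D : Subgroup M, D ≤ L' → L' ≤ Subgroup.normalizer (D : Set M) →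
        (∀ d ∈ D, ∃ k : ℕ, d ^ p ^ k ∈ C) → r ∉ D := fun hall =>
      hne (Subgroup.eq_of_le_of_card_ge hL'L (hLmin L' ⟨hRL', r, hr.1, hr.2, hall⟩))
    push Not at hsmall
    obtain ⟨D, hDL, hDn, hpow, hrD⟩ := hsmall
    have h1 : IsSyl p ((R : Subgroup M) ⊓ D) D := by
      have := ((isSyl_top R).mono hRL' le_top).inf_normal hDn
      rwa [inf_eq_right.2 hDL] at this
    have hDC : D ≤ Subgroup.normalizer ((D ⊓ C : Subgroup M) : Set M) := fun y hy =>
      mem_normalizer_of_forall fun w hw => ⟨D.mul_mem (D.mul_mem hy hw.1) (D.inv_mem hy),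
        (inferInstance : C.Normal).conj_mem w hw.2 y⟩
    have h2 : D ≤ (D ⊓ C) ⊔ ((R : Subgroup M) ⊓ D) :=
      le_sup_of_pPower inf_le_left hDC h1 fun d hd => by
        obtain ⟨k, hk⟩ := hpow d hd
        exact ⟨k, D.pow_mem hd _, hk⟩
    have h3 : g * r * g⁻¹ ∈ ((R : Subgroup M) ⊓ D ⊔ C : Subgroup M) :=
      (h2.trans (sup_le (inf_le_right.trans le_sup_right) le_sup_left))
        ((Subgroup.mem_normalizer_iff.1 (hDn hg) r).1 hrD)
    have h3' : g * r * g⁻¹ ∈ (((R : Subgroup M) ⊓ D ⊔ C : Subgroup M) : Set M) := h3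
    rw [Subgroup.mul_normal _ C] at h3'
    obtain ⟨t, ht, c, hc, htc⟩ := h3'
    rw [← htc]
    refine E₁.mul_mem (le_sup_left (b := C) (Subgroup.subset_closure ⟨ht.1, ?_⟩))
      (le_sup_right (a := Subgroup.closure Qs) hc)
    have h4 := hconjq r g hr.2
    rwa [← htc, map_mul, MonoidHom.mem_ker.1 hc, mul_one] at h4
  -- the module theorem in `L`
  have hsylL : IsSyl p (R : Subgroup M) L := (isSyl_top R).mono hRL le_top
  obtain ⟨R₁, x, h, Y₀, π₀, hπ₀, hR₁, hxR₁, hhH, hhn, hract, hxact, hhact⟩ :=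
    torusHyp hp2 _ L le_rfl (Additive W) (σ.comp L.subtype) hsylL.toSylowOf (H₁.subgroupOf L)
      (fun h => hH₁L (le_antisymm inf_le_left (Subgroup.subgroupOf_eq_top.1 h)))
      (fun L' hL' hne' g hg => by
        refine Subgroup.mem_subgroupOf.2 (hover (L'.map L.subtype) (fun r hr => ?_)
          (Subgroup.map_subtype_le L') (fun he => hne' ?_) ⟨g, hg, rfl⟩)
        · exact ⟨⟨r, hRL hr⟩, hL' (show (⟨r, hRL hr⟩ : L) ∈ _ from hr), rfl⟩
        · apply Subgroup.map_injective L.subtype_injective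
          rw [← MonoidHom.range_eq_map, Subgroup.range_subtype]
          exact he)
      ⟨x₀, hRL hx₀R⟩ (show x₀ ∈ (R : Subgroup M) from hx₀R) hx₀q
      (fun ⟨D, hD, hxD, hpow⟩ => hx₀rad (D.map L.subtype) (Subgroup.map_subtype_le D)
        (fun l hl => mem_normalizer_of_forall fun g hg => by
          obtain ⟨y, hy, rfl⟩ := hg
          exact ⟨⟨l, hl⟩ * y * ⟨l, hl⟩⁻¹, hD.conj_mem y hy _, rfl⟩)
        (by rintro _ ⟨d, hd, rfl⟩; exact hpow d hd) ⟨_, hxD, rfl⟩) μ hμ
  -- the subgroup of `M` with its quotient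
  set YW : Subgroup W := AddSubgroup.toSubgroup' Y₀.toAddSubgroup with hYW
  set Y := YW.map ι with hY
  let e := (YW.equivMapOfInjective ι hι).symm
  let π : Y →* Multiplicative (Fin 2 → ZMod p) := MonoidHom.mk'
    (fun u => Multiplicative.ofAdd (π₀ ⟨Additive.ofMul ((e u : YW) : W), (e u).2⟩)) (fun u v => by
      rw [← ofAdd_add, ← map_add]
      congr 2
      apply Subtype.ext
      show Additive.ofMul _ = Additive.ofMul _ + Additive.ofMul _
      rw [map_mul, Subgroup.coe_mul, ofMul_mul])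
  have heι : ∀ u : Y, ι ((e u : YW) : W) = (u : M) := fun u =>
    congrArg Subtype.val ((YW.equivMapOfInjective ι hι).apply_symm_apply u)
  have hπ : Function.Surjective π := by
    intro v
    obtain ⟨⟨y, hy⟩, hyv⟩ := hπ₀ v.toAdd
    refine ⟨⟨ι y.toMul, y.toMul, hy, rfl⟩, ?_⟩
    show Multiplicative.ofAdd _ = _
    have he : e ⟨ι y.toMul, y.toMul, hy, rfl⟩ = ⟨y.toMul, hy⟩ :=
      Subtype.ext (hι (heι _))
    simp only [he]
    exact congrArg Multiplicative.ofAdd hyv
  have htrans : ∀ (g : L) (A : Matrix.SpecialLinearGroup (Fin 2) (ZMod p)),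
      Acts (σ.comp L.subtype) π₀ g A → GActs π (g : M) A := by
    intro g A hg u
    obtain ⟨w, hw, hw'⟩ := hg ⟨Additive.ofMul ((e u : YW) : W), (e u).2⟩
    have hwα : (w : Additive W).toMul = α (g : M) ((e u : YW) : W) := by rw [hw]; rfl
    have hmem : (g : M) * (u : M) * (g : M)⁻¹ ∈ Y := by
      rw [← heι u, ← hια, ← hwα]
      exact ⟨_, w.2, rfl⟩
    refine ⟨⟨_, hmem⟩, rfl, ?_⟩
    show π₀ _ = A.1 *ᵥ π₀ _
    rw [← hw']
    congr 1
    apply Subtype.ext
    show Additive.ofMul _ = (w : Additive W)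
    apply Additive.toMul.injective
    show ((e ⟨_, hmem⟩ : YW) : W) = _
    apply hι
    rw [heι, hwα, hια, heι]
  -- make the torus element of order prime to `p`
  obtain ⟨k, m, hm, hord⟩ :=
    Nat.exists_eq_pow_mul_and_not_dvd (orderOf_pos (h : M)).ne' p hp.out.ne_one
  set h' := (h : M) ^ p ^ k with hh'
  have hho : orderOf h' = m := by
    rw [hh', orderOf_pow_of_dvd (pow_ne_zero _ hp.out.ne_zero) (Dvd.intro m hord.symm), hord,
      Nat.mul_div_cancel_left _ (pow_pos hp.out.pos k)]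
  have hh'act : GActs π h' (diaHom p μ) := by
    have := (htrans h _ hhact).pow (p ^ k)
    rwa [← map_pow, show μ ^ p ^ k = μ from Units.ext (by rw [Units.val_pow_eq_pow_val,
      ZMod.pow_card_pow])] at this
  set R₂ := R₁.map L.subtype with hR₂
  have hR₂R : R₂ ≤ (R : Subgroup M) := by
    rintro _ ⟨r, hr, rfl⟩
    exact hR₁ hr
  have hh'n : h' ∈ Subgroup.normalizer (R₂ : Set M) :=
    pow_mem (Subgroup.le_normalizer_map L.subtype ⟨h, hhn, rfl⟩) _
  have hR₂act : ∀ r ∈ R₂, ∃ b : ZMod p, GActs π r (up b) := by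
    rintro _ ⟨r, hr, rfl⟩
    exact (hract r hr).imp fun b hb => htrans r _ hb
  -- move `x` to be centralized by `t`
  obtain ⟨j, hj⟩ := hμ (-1)
  set t := h' ^ j with ht
  have htn : t ∈ Subgroup.normalizer (R₂ : Set M) := pow_mem hh'n j
  have htact : GActs π t Dickson.negI := by
    have := hh'act.pow j
    rwa [← map_pow, hj, diaHom_neg_one] at this
  let N₁ : Subgroup M :=
    { carrier := {r | r ∈ R₂ ∧ GActs π r 1}
      one_mem' := ⟨R₂.one_mem, GActs.one⟩
      mul_mem' := fun {r s} hr hs => ⟨R₂.mul_mem hr.1 hs.1, by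
        have := hr.2.mul hs.2; rwa [one_mul] at this⟩
      inv_mem' := fun {r} hr => ⟨R₂.inv_mem hr.1, by
        have := hr.2.inv hπ; rwa [inv_one] at this⟩ }
  have htN : Subgroup.zpowers t ≤ Subgroup.normalizer (N₁ : Set M) :=
    Subgroup.zpowers_le.2 (mem_normalizer_of_forall fun r hr =>
      ⟨(Subgroup.mem_normalizer_iff.1 htn r).1 hr.1, by
        have := (htact.mul hr.2).mul (htact.inv hπ)
        rwa [mul_one, mul_inv_cancel] at this⟩)
  have hxR₂ : (x : M) ∈ R₂ := ⟨x, hxR₁, rfl⟩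
  have hxA : GActs π (x : M) (up 1) := htrans x _ hxact
  have htc : t ∈ Subgroup.normalizer (R₂ : Set M) := htn
  have hcop : (Nat.card (Subgroup.zpowers t)).Coprime (Nat.card N₁) := by
    obtain ⟨i, hi⟩ := IsPGroup.iff_card.1 (R.2.to_le ((fun r hr => hR₂R hr.1) : N₁ ≤ _))
    rw [hi, Nat.card_zpowers]
    refine Nat.Coprime.pow_right i ?_
    refine (hp.out.coprime_iff_not_dvd.2 fun hd => hm ?_).symm
    exact hd.trans (hho ▸ orderOf_pow_dvd j)
  have hk : ∀ y ∈ Subgroup.zpowers t, y * (x : M) * y⁻¹ * (x : M)⁻¹ ∈ N₁ := by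
    intro y hy
    rw [← mem_powers_iff_mem_zpowers] at hy
    obtain ⟨i, rfl⟩ := hy
    refine ⟨R₂.mul_mem ((Subgroup.mem_normalizer_iff.1 (pow_mem htc i) _).1 hxR₂) (R₂.inv_mem hxR₂),
      ?_⟩
    have h1 := (((htact.pow i).mul hxA).mul ((htact.pow i).inv hπ)).mul (hxA.inv hπ)
    have hc : Commute (Dickson.negI : Matrix.SpecialLinearGroup (Fin 2) (ZMod p)) (up 1) :=
      Dickson.negI_comm _
    rwa [(hc.pow_left i).eq, mul_inv_cancel_right, mul_inv_cancel] at h1
  obtain ⟨n, hn, hnc⟩ := Coprime.exists_fixed_mul (A := Subgroup.zpowers t) (N := N₁) htN hcop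
    (Or.inl (Coprime.isSolvable_zpowers t)) (k := (x : M)) hk
  refine ⟨H₁, Y, R₂, π, n * x, h', μ, j, hπ, hRH₁,
    fun hT => hH₁L (le_antisymm inf_le_left (hT ▸ le_top)), ?_, hR₂R,
    R₂.mul_mem hn.1 hxR₂, H₁.pow_mem (Subgroup.mem_subgroupOf.1 hhH) _, hh'n, hμ, hj, ?_, hh'act,
    Subgroup.mem_centralizer_iff.1 hnc t (Subgroup.mem_zpowers t)⟩
  · rintro _ ⟨w, -, rfl⟩
    exact hιR w
  · have := hn.2.mul hxA
    rwa [one_mul] at this

end Cfsg.Agent.Lib.GlaubermanGlobal
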