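import Cfsg.Agent.Lib.GlaubermanGlobal.Module
import Cfsg.Agent.Lib.Quadratic.PStable

/-!
The torus configuration: if a quadratic element of a Sylow subgroup `R` is outside `O_p` of a linear
group and `H₀` is a proper subgroup containing every proper overgroup of `R`, then some `h ∈ H₀`
normalizes a subgroup of `R` and, with an element `x` of it, acts on a subquotient of dimension two as
`diag(μ, μ⁻¹)` and a transvection.
-/

set_option autoImplicit false
set_option linter.style.haveILetI false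
set_option linter.unusedSectionVars false
set_option maxHeartbeats 1000000

namespace Cfsg.Agent.Lib.GlaubermanGlobal

open Matrix
open Cfsg.Agent.Lib.Quadratic (InPRad)
open Cfsg.Agent.Lib.ConjFunctor.Basic Cfsg.Agent.Lib.Fusion.Alperin
open Cfsg.Agent.Lib.PLocal.SLTwo (up up_add up_zero val_mul up_natCast)

universe u v

variable {p : ℕ} [hp : Fact p.Prime]

section Acts

variable {M : Type*} [Group M] {V : Type*} [AddCommGroup V] [Module (ZMod p) V]

/-- `g` preserves `Y` and acts on its image under `π` by the matrix `A`. -/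
def Acts (σ : M →* Module.End (ZMod p) V) {Y : Submodule (ZMod p) V}
    (π : Y →ₗ[ZMod p] (Fin 2 → ZMod p)) (g : M)
    (A : Matrix.SpecialLinearGroup (Fin 2) (ZMod p)) : Prop :=
  ∀ v : Y, ∃ w : Y, (w : V) = σ g v ∧ π w = A.1 *ᵥ π v

variable {σ : M →* Module.End (ZMod p) V} {Y : Submodule (ZMod p) V}
  {π : Y →ₗ[ZMod p] (Fin 2 → ZMod p)}

theorem Acts.one : Acts σ π 1 1 := fun v => ⟨v, by simp, by simp⟩

theorem Acts.mul {g g' : M} {A B : Matrix.SpecialLinearGroup (Fin 2) (ZMod p)}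
    (h : Acts σ π g A) (h' : Acts σ π g' B) : Acts σ π (g * g') (A * B) := by
  intro v
  obtain ⟨w, hw, hw'⟩ := h' v
  obtain ⟨u, hu, hu'⟩ := h w
  exact ⟨u, by rw [hu, hw, map_mul, Module.End.mul_apply],
    by rw [hu', hw', val_mul, Matrix.mulVec_mulVec]⟩

theorem Acts.pow {g : M} {A : Matrix.SpecialLinearGroup (Fin 2) (ZMod p)} (h : Acts σ π g A) :
    ∀ n : ℕ, Acts σ π (g ^ n) (A ^ n) := by
  intro n
  induction n with
  | zero => rw [pow_zero, pow_zero]; exact Acts.one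
  | succ n ih => rw [pow_succ, pow_succ]; exact ih.mul h

theorem Acts.unique (hπ : Function.Surjective π) {g : M}
    {A B : Matrix.SpecialLinearGroup (Fin 2) (ZMod p)} (h : Acts σ π g A) (h' : Acts σ π g B) :
    A = B := by
  apply Subtype.ext
  apply Matrix.toLin'.injective
  refine LinearMap.ext fun x => ?_
  obtain ⟨v, rfl⟩ := hπ x
  obtain ⟨w, hw, hw'⟩ := h v
  obtain ⟨w', hu, hu'⟩ := h' v
  rw [Matrix.toLin'_apply, Matrix.toLin'_apply, ← hw', ← hu', Subtype.ext (hw.trans hu.symm)]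

theorem Acts.inv [Finite M] (hπ : Function.Surjective π) {g : M}
    {A : Matrix.SpecialLinearGroup (Fin 2) (ZMod p)} (h : Acts σ π g A) :
    Acts σ π g⁻¹ A⁻¹ := by
  have hn := orderOf_pos g
  have h1 : A ^ orderOf g = 1 :=
    Acts.unique hπ (pow_orderOf_eq_one g ▸ h.pow (orderOf g)) Acts.one
  have e1 : g ^ (orderOf g - 1) = g⁻¹ :=
    eq_inv_of_mul_eq_one_left (by rw [← pow_succ, Nat.sub_add_cancel hn, pow_orderOf_eq_one])
  have e2 : A ^ (orderOf g - 1) = A⁻¹ :=
    eq_inv_of_mul_eq_one_left (by rw [← pow_succ, Nat.sub_add_cancel hn, h1])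
  have h2 := h.pow (orderOf g - 1)
  rwa [e1, e2] at h2

/-- A torus configuration for `σ` below `T`, with the torus element in `H₀`. -/
def HasTorus (σ : M →* Module.End (ZMod p) V) (T H₀ : Subgroup M) (μ : (ZMod p)ˣ) : Prop :=
  ∃ (R₁ : Subgroup M) (x h : M) (Y : Submodule (ZMod p) V)
    (π : Y →ₗ[ZMod p] (Fin 2 → ZMod p)),
    Function.Surjective π ∧ R₁ ≤ T ∧ x ∈ R₁ ∧ h ∈ H₀ ∧
      h ∈ Subgroup.normalizer (R₁ : Set M) ∧ (∀ r ∈ R₁, ∃ b : ZMod p, Acts σ π r (up b)) ∧
      Acts σ π x (up 1) ∧ Acts σ π h (diaHom p μ)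

/-- The action on an invariant submodule. -/
def resHom (σ : M →* Module.End (ZMod p) V) (W : Submodule (ZMod p) V)
    (hW : ∀ g, ∀ v ∈ W, σ g v ∈ W) : M →* Module.End (ZMod p) W where
  toFun g := (σ g).restrict (hW g)
  map_one' := LinearMap.ext fun v => Subtype.ext (by simp [LinearMap.restrict_apply])
  map_mul' g g' := LinearMap.ext fun v => Subtype.ext (by
    simp [LinearMap.restrict_apply, Module.End.mul_apply])

theorem resHom_apply (σ : M →* Module.End (ZMod p) V) (W : Submodule (ZMod p) V)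
    (hW : ∀ g, ∀ v ∈ W, σ g v ∈ W) (g : M) (v : W) : ((resHom σ W hW g v : W) : V) = σ g v := rfl

/-- The action on a quotient. -/
def quotHom (σ : M →* Module.End (ZMod p) V) (W : Submodule (ZMod p) V)
    (hW : ∀ g, ∀ v ∈ W, σ g v ∈ W) : M →* Module.End (ZMod p) (V ⧸ W) where
  toFun g := W.mapQ W (σ g) fun v hv => hW g v hv
  map_one' := Submodule.linearMap_qext _ (LinearMap.ext fun v => by simp)
  map_mul' g g' := Submodule.linearMap_qext _ (LinearMap.ext fun v => by simp [Module.End.mul_apply])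

theorem quotHom_apply (σ : M →* Module.End (ZMod p) V) (W : Submodule (ZMod p) V)
    (hW : ∀ g, ∀ v ∈ W, σ g v ∈ W) (g : M) (v : V) :
    quotHom σ W hW g (W.mkQ v) = W.mkQ (σ g v) := rfl

end Acts

/-- What the torus theorem asserts for the groups of order at most `N`. -/
def TorusHyp (p : ℕ) [Fact p.Prime] (N : ℕ) : Prop :=
  ∀ (M : Type u) [Group M] [Finite M], Nat.card M ≤ N →
    ∀ (V : Type v) [AddCommGroup V] [Module (ZMod p) V] [Finite V]
      (σ : M →* Module.End (ZMod p) V) (R : Sylow p M) (H₀ : Subgroup M), H₀ ≠ ⊤ →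
      (∀ L : Subgroup M, (R : Subgroup M) ≤ L → L ≠ ⊤ → L ≤ H₀) →
      ∀ a ∈ (R : Subgroup M), (σ a - 1) * (σ a - 1) = 0 → ¬ InPRad p σ.ker a →
      ∀ μ : (ZMod p)ˣ, IsGen μ → HasTorus σ (R : Subgroup M) H₀ μ

/-- The irreducible case. -/
theorem torus_irreducible (hp2 : p ≠ 2) {N : ℕ} (ih : TorusHyp.{u, v} p N) {M : Type u} [Group M]
    [Finite M] (hM : Nat.card M ≤ N + 1) {V : Type v} [AddCommGroup V] [Module (ZMod p) V]
    [Finite V] (σ : M →* Module.End (ZMod p) V) (R : Sylow p M) (H₀ : Subgroup M) (hH₀ : H₀ ≠ ⊤)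
    (hover : ∀ L : Subgroup M, (R : Subgroup M) ≤ L → L ≠ ⊤ → L ≤ H₀)
    (hirrV : ∀ S : Submodule (ZMod p) V, S ≠ ⊥ → (∀ g, ∀ v ∈ S, σ g v ∈ S) → S = ⊤) {a : M}
    (haR : a ∈ (R : Subgroup M)) (hq : (σ a - 1) * (σ a - 1) = 0)
    (hrad : ¬ InPRad p σ.ker a) (μ : (ZMod p)ˣ) (hμ : IsGen μ) :
    HasTorus σ (R : Subgroup M) H₀ μ := by
  classical
  have hmul : ∀ (g g' : M) (v : V), σ (g * g') v = σ g (σ g' v) := fun g g' v => by
    rw [map_mul, Module.End.mul_apply]
  set C := σ.ker with hC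
  have hmemC : ∀ {g : M}, g ∈ C ↔ σ g = 1 := fun {g} => MonoidHom.mem_ker
  have haC : a ∉ C := fun h => hrad ⟨C, inferInstance, h, fun d hd => ⟨0, by simpa using hd⟩⟩
  have hV0 : ∃ v : V, v ≠ 0 := by
    by_contra hall
    push Not at hall
    exact haC (hmemC.2 (LinearMap.ext fun v => by rw [hall v, map_zero, map_zero]))
  have hOp : ∀ D : Subgroup M, D.Normal → (∀ d ∈ D, ∃ k : ℕ, d ^ p ^ k ∈ C) → D ≤ C := by
    intro D hD hpow
    haveI := hD
    set T := (R : Subgroup M) ⊓ D with hT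
    have h1 : IsSyl p T D := by
      simpa using (isSyl_top R).inf_normal (N := D) Subgroup.le_normalizer_of_normal
    have h2 : D ≤ (D ⊓ C) ⊔ T :=
      le_sup_of_pPower inf_le_left Subgroup.le_normalizer_of_normal h1 fun d hd => by
        obtain ⟨k, hk⟩ := hpow d hd
        exact ⟨k, D.pow_mem hd _, hk⟩
    letI : MulAction T V :=
      { smul := fun t v => σ t v
        one_smul := fun v => by show σ ((1 : T) : M) v = v; simp
        mul_smul := fun s t v => hmul s t v }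
    obtain ⟨v₀, hv₀⟩ := hV0
    have hdvd : p ∣ Nat.card V := by
      have : addOrderOf v₀ = p := addOrderOf_eq_prime
        (by rw [← Nat.cast_smul_eq_nsmul (ZMod p), ZMod.natCast_self, zero_smul]) hv₀
      exact this ▸ addOrderOf_dvd_natCard v₀
    obtain ⟨w, hw, hw0⟩ := h1.isP.exists_fixed_point_of_prime_dvd_card_of_fixed_point V hdvd
      (a := (0 : V)) (fun t => map_zero (σ (t : M)))
    let F : Submodule (ZMod p) V :=
      { carrier := {v | ∀ d ∈ D, σ d v = v}
        zero_mem' := fun d _ => map_zero _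
        add_mem' := fun {x y} hx hy d hd => by rw [map_add, hx d hd, hy d hd]
        smul_mem' := fun c x hx d hd => by rw [map_smul, hx d hd] }
    have hwF : w ∈ F := by
      intro d hd
      have hd' : d ∈ ((T ⊔ (D ⊓ C) : Subgroup M) : Set M) := by rw [sup_comm]; exact h2 hd
      rw [Subgroup.mul_normal T (D ⊓ C)] at hd'
      obtain ⟨t, ht, c, hc, rfl⟩ := hd'
      show σ (t * c) w = w
      rw [hmul, hmemC.1 hc.2, Module.End.one_apply]
      exact hw ⟨t, ht⟩
    have hF : F = ⊤ := hirrV F (fun h => hw0 ((Submodule.mem_bot (ZMod p)).1 (h ▸ hwF)).symm)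
      fun g v hv d hd => by
        have := hv _ (hD.conj_mem' d hd g)
        rw [← hmul, show d * g = g * (g⁻¹ * d * g) by group, hmul, this]
    exact fun d hd => hmemC.2 (LinearMap.ext fun v => (hF ▸ Submodule.mem_top : v ∈ F) d hd)
  have hCR : C ⊔ (R : Subgroup M) ≠ ⊤ := by
    intro h
    refine hrad ⟨⊤, inferInstance, Subgroup.mem_top a, fun d _ => ?_⟩
    obtain ⟨k, m, hm, hord⟩ :=
      Nat.exists_eq_pow_mul_and_not_dvd (orderOf_pos d).ne' p hp.out.ne_one
    refine ⟨k, mem_of_sup_eq_top R.2 h ?_⟩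
    rw [orderOf_pow_of_dvd (pow_ne_zero _ hp.out.ne_zero) (Dvd.intro m hord.symm), hord,
      Nat.mul_div_cancel_left _ (pow_pos hp.out.pos k)]
    exact hm
  have hRH : (R : Subgroup M) ≤ H₀ := hover _ le_rfl fun hR => hCR (by rw [hR, sup_top_eq])
  obtain ⟨d, hd⟩ : ∃ d, d * a * d⁻¹ ∉ H₀ := by
    by_contra hall
    push Not at hall
    set A₀ := Subgroup.normalClosure ({a} : Set M) with hA₀
    have hle : A₀ ≤ H₀ := by
      rw [hA₀, Subgroup.normalClosure, Subgroup.closure_le]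
      intro g hg
      obtain ⟨a', ha', hc⟩ := Group.mem_conjugatesOfSet_iff.1 hg
      rw [Set.mem_singleton_iff] at ha'
      obtain ⟨e, rfl⟩ := isConj_iff.1 hc
      exact ha' ▸ hall e
    set D := (R : Subgroup M) ⊓ A₀ with hD
    have hRn : (R : Subgroup M) ≤ Subgroup.normalizer (D : Set M) := fun r hr =>
      mem_normalizer_of_forall fun x hx =>
        ⟨(R : Subgroup M).mul_mem ((R : Subgroup M).mul_mem hr hx.1)
          ((R : Subgroup M).inv_mem hr), Subgroup.Normal.conj_mem inferInstance x hx.2 r⟩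
    by_cases hn : Subgroup.normalizer (D : Set M) = ⊤
    · refine haC (hOp D (Subgroup.normalizer_eq_top_iff.1 hn) (fun y hy => ?_)
        ⟨haR, Subgroup.subset_normalClosure rfl⟩)
      obtain ⟨k, hk⟩ := R.2 ⟨y, hy.1⟩
      exact ⟨k, by rw [show y ^ p ^ k = 1 by simpa using congrArg Subtype.val hk]; exact one_mem _⟩
    · refine hH₀ (eq_top_iff.2 fun x _ => ?_)
      obtain ⟨c, hc, m, hm, rfl⟩ := (isSyl_top R).frattini (N := A₀) le_top
        Subgroup.le_normalizer_of_normal (Subgroup.mem_top x)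
      exact mul_mem (hle hc) (hover _ hRn hn hm.2)
  -- the quadratic elements outside `C`
  let Q₀ : Set M := {g | (σ g - 1) * (σ g - 1) = 0 ∧ g ∉ C}
  have hQconj : ∀ g ∈ Q₀, ∀ d, d * g * d⁻¹ ∈ Q₀ := by
    intro g hg d
    refine ⟨?_, fun h => hg.2 (by
      have := (inferInstance : C.Normal).conj_mem' _ h d
      simpa [mul_assoc] using this)⟩
    have h1 : σ (d * g * d⁻¹) - 1 = σ d * (σ g - 1) * σ d⁻¹ := by
      rw [mul_sub, sub_mul, mul_one, ← map_mul, ← map_mul, ← map_mul, mul_inv_cancel, map_one]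
    have h2 : σ d⁻¹ * σ d = 1 := by rw [← map_mul, inv_mul_cancel, map_one]
    rw [h1]
    calc σ d * (σ g - 1) * σ d⁻¹ * (σ d * (σ g - 1) * σ d⁻¹)
        = σ d * ((σ g - 1) * (σ d⁻¹ * σ d) * (σ g - 1)) * σ d⁻¹ := by noncomm_ring
      _ = 0 := by rw [h2, mul_one, hg.1, mul_zero, zero_mul]
  let 𝓛 : Set (Subgroup M) :=
    {L | L ≠ ⊤ ∧ ¬ L ≤ H₀ ∧ ∃ x ∈ (R : Subgroup M) ⊓ L, x ∈ Q₀}
  rcases 𝓛.eq_empty_or_nonempty with hempty | hne
  swap
  · -- recursion
    obtain ⟨L₁, hL₁, hL₁max⟩ := Set.exists_max_image 𝓛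
      (fun L => Nat.card ((R : Subgroup M) ⊓ L : Subgroup M)) (Set.toFinite _) hne
    obtain ⟨L, ⟨hL, hLeq⟩, hLmin⟩ := Set.exists_min_image
      {L | L ∈ 𝓛 ∧ Nat.card ((R : Subgroup M) ⊓ L : Subgroup M) =
        Nat.card ((R : Subgroup M) ⊓ L₁ : Subgroup M)}
      (fun L => Nat.card L) (Set.toFinite _) ⟨L₁, hL₁, rfl⟩
    obtain ⟨hLtop, hLH, x₀, hx₀, hx₀Q⟩ := hL
    set T := (R : Subgroup M) ⊓ L with hT
    set D₀ := Subgroup.closure ((T : Set M) ∩ Q₀) with hD₀
    set D := D₀ ⊔ C with hD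
    have hD₀T : D₀ ≤ T := (Subgroup.closure_le _).2 Set.inter_subset_left
    have hND : Subgroup.normalizer (D : Set M) ≠ ⊤ := fun h => by
      refine hx₀Q.2 (hOp D (Subgroup.normalizer_eq_top_iff.1 h) (fun y hy => ?_)
        (le_sup_left (b := C) (Subgroup.subset_closure ⟨hx₀, hx₀Q⟩)))
      have hy' : y ∈ ((D₀ ⊔ C : Subgroup M) : Set M) := hy
      rw [Subgroup.mul_normal D₀ C] at hy'
      obtain ⟨t, ht, c, hc, rfl⟩ := hy'
      obtain ⟨k, hk⟩ := R.2 ⟨t, (hD₀T ht).1⟩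
      refine ⟨k, hmemC.2 ?_⟩
      rw [map_pow, map_mul, hmemC.1 hc, mul_one, ← map_pow,
        show t ^ p ^ k = 1 by simpa using congrArg Subtype.val hk, map_one]
    have hnormD : ∀ d : M, (∀ g ∈ (T : Set M) ∩ Q₀, d * g * d⁻¹ ∈ D) →
        d ∈ Subgroup.normalizer (D : Set M) := by
      intro d hd
      refine mem_normalizer_of_forall fun g hg => ?_
      have : D.map (MulAut.conj d).toMonoidHom ≤ D := by
        rw [hD, Subgroup.map_sup]
        refine sup_le ?_ ?_
        · rw [hD₀, MonoidHom.map_closure, Subgroup.closure_le]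
          rintro _ ⟨g, hg, rfl⟩
          exact hd g hg
        · rintro _ ⟨c, hc, rfl⟩
          exact le_sup_right (a := D₀) ((inferInstance : C.Normal).conj_mem c hc d)
      exact this ⟨g, hg, rfl⟩
    have hnormT : ∀ d ∈ Subgroup.normalizer (T : Set M), d ∈ Subgroup.normalizer (D : Set M) :=
      fun d hd => hnormD d fun g hg => le_sup_left (b := C) (Subgroup.subset_closure
        ⟨(Subgroup.mem_normalizer_iff.1 hd g).1 hg.1, hQconj g hg.2 d⟩)
    have hTlt : T < (R : Subgroup M) := lt_of_le_of_ne inf_le_left fun h =>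
      hLH (hover L (inf_eq_left.1 h) hLtop)
    have hM1H : Subgroup.normalizer (D : Set M) ≤ H₀ := by
      by_contra hM1
      have hmem : Subgroup.normalizer (D : Set M) ∈ 𝓛 :=
        ⟨hND, hM1, x₀, ⟨hx₀.1, Subgroup.le_normalizer
          (le_sup_left (b := C) (Subgroup.subset_closure ⟨hx₀, hx₀Q⟩))⟩, hx₀Q⟩
      have hlt := lt_inf_normalizer R.2 hTlt
      have hle : (R : Subgroup M) ⊓ Subgroup.normalizer (T : Set M) ≤
          (R : Subgroup M) ⊓ Subgroup.normalizer (D : Set M) :=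
        le_inf inf_le_left fun d hd => hnormT d hd.2
      have h1 := hL₁max _ hmem
      have h2 : Nat.card T < Nat.card ((R : Subgroup M) ⊓ Subgroup.normalizer (D : Set M) :
          Subgroup M) := by
        refine lt_of_le_of_ne (Subgroup.card_le_of_le (hlt.le.trans hle)) fun he => ?_
        exact (hlt.trans_le hle).ne (Subgroup.eq_of_le_of_card_ge (hlt.le.trans hle) he.ge)
      rw [hLeq] at h2
      exact (h2.trans_le h1).false
    have hTH : IsSyl p T (L ⊓ H₀) := by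
      refine isSyl_of_maximal (R.2.to_le inf_le_left) (le_inf inf_le_right (inf_le_left.trans hRH))
        fun W hW hWL hTW => ?_
      obtain ⟨c, hc, hcW⟩ := ((isSyl_top R).mono hRH le_top).exists_conj_le hW
        (hWL.trans inf_le_right)
      have hcmem : conjS c L ∈ 𝓛 := by
        refine ⟨fun h => hLtop ?_, fun h => hLH ?_, c * x₀ * c⁻¹, ⟨?_, conj_mem_conjS hx₀.2⟩,
          hQconj _ hx₀Q c⟩
        · rw [← conjS_inv_conjS c L, h, conjS_top]
        · intro g hg
          have h1 := H₀.mul_mem (H₀.mul_mem (H₀.inv_mem hc) (h (conj_mem_conjS (g := c) hg))) hc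
          simpa [mul_assoc] using h1
        · exact hcW (conj_mem_conjS (hTW hx₀))
      have h1 := hL₁max _ hcmem
      rw [← hLeq] at h1
      have h2 : conjS c W ≤ (R : Subgroup M) ⊓ conjS c L :=
        le_inf hcW (conjS_mono (hWL.trans inf_le_left))
      exact (Subgroup.eq_of_le_of_card_ge hTW
        ((card_conjS c W).symm.le.trans ((Subgroup.card_le_of_le h2).trans h1))).symm
    have hTL : IsSyl p T L := by
      refine isSyl_of_maximal (R.2.to_le inf_le_left) inf_le_right fun W hW hWL hTW => ?_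
      by_contra hne'
      have hlt := lt_inf_normalizer hW (lt_of_le_of_ne hTW (Ne.symm hne'))
      have hN : W ⊓ Subgroup.normalizer (T : Set M) ≤ L ⊓ H₀ :=
        le_inf (inf_le_left.trans hWL) fun d hd => hM1H (hnormT d hd.2)
      exact hlt.ne (hTH.eq_of_le (hW.to_le inf_le_left) hN hlt.le).symm
    have hcard : Nat.card L ≤ N := by
      have : Nat.card L < Nat.card M := lt_of_le_of_ne (Subgroup.card_le_card_group L)
        fun h => hLtop (Subgroup.eq_top_of_card_eq _ h)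
      omega
    obtain ⟨x, hxT, hxQ, hxP⟩ : ∃ (x : M) (hx : x ∈ T), x ∈ Q₀ ∧
        ¬ InPRad p (σ.comp L.subtype).ker (⟨x, hx.2⟩ : L) := by
      by_contra hall
      push Not at hall
      refine hLH fun d hd => hM1H (hnormD d fun g hg => ?_)
      obtain ⟨DL, hDL, hgDL, hpow⟩ := hall g hg.1 hg.2
      haveI := hDL
      have h1 : IsSyl p ((hTL.toSylowOf : Subgroup L) ⊓ DL) DL := by
        simpa using (isSyl_top hTL.toSylowOf).inf_normal (N := DL) Subgroup.le_normalizer_of_normal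
      have h2 : DL ≤ (DL ⊓ (σ.comp L.subtype).ker) ⊔ ((hTL.toSylowOf : Subgroup L) ⊓ DL) :=
        le_sup_of_pPower inf_le_left Subgroup.le_normalizer_of_normal h1 fun y hy => by
          obtain ⟨k, hk⟩ := hpow y hy
          exact ⟨k, DL.pow_mem hy _, hk⟩
      have h3 : (⟨d, hd⟩ : L) * ⟨g, hg.1.2⟩ * ⟨d, hd⟩⁻¹ ∈
          (((hTL.toSylowOf : Subgroup L) ⊓ DL) ⊔ (DL ⊓ (σ.comp L.subtype).ker) : Subgroup L) := by
        rw [sup_comm]; exact h2 (hDL.conj_mem _ hgDL _)
      have h3' : (⟨d, hd⟩ : L) * ⟨g, hg.1.2⟩ * ⟨d, hd⟩⁻¹ ∈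
          ((((hTL.toSylowOf : Subgroup L) ⊓ DL) ⊔ (DL ⊓ (σ.comp L.subtype).ker) : Subgroup L) :
            Set L) := h3
      rw [Subgroup.mul_normal _ (DL ⊓ (σ.comp L.subtype).ker)] at h3'
      obtain ⟨t, ht, c, hc, htc⟩ := h3'
      have htc' : (t : M) * (c : M) = d * g * d⁻¹ := congrArg Subtype.val htc
      have hcC : (c : M) ∈ C := hmemC.2 hc.2
      rw [← htc']
      refine D.mul_mem (le_sup_left (b := C) (Subgroup.subset_closure ⟨ht.1, ?_, fun htC => ?_⟩))
        (le_sup_right (a := D₀) hcC)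
      · have h4 := (hQconj g hg.2 d).1
        rwa [← htc', map_mul, hmemC.1 hcC, mul_one] at h4
      · exact (hQconj g hg.2 d).2 (htc' ▸ C.mul_mem htC hcC)
    obtain ⟨R₁, x', h', Y, π, hπ, hR₁, hx', hh', hhn, hR₁act, hxact, hhact⟩ :=
      ih L hcard V (σ.comp L.subtype) hTL.toSylowOf (H₀.subgroupOf L)
      (fun h => hLH (Subgroup.subgroupOf_eq_top.1 h))
      (fun L' hTL' hL'top => by
        by_contra hL'H
        set L'' : Subgroup M := L'.map L.subtype with hL''
        have hle : L'' ≤ L := Subgroup.map_subtype_le L'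
        have hne' : L'' ≠ L := fun h => hL'top (by
          have h1 : L'.map L.subtype = (⊤ : Subgroup L).map L.subtype := by
            rw [← MonoidHom.range_eq_map, Subgroup.range_subtype]; exact h
          exact Subgroup.map_injective L.subtype_injective h1)
        have hT'' : T ≤ L'' := fun t ht => ⟨⟨t, ht.2⟩, hTL' (show (⟨t, ht.2⟩ : L) ∈ _ from ht), rfl⟩
        have hmem : L'' ∈ 𝓛 := by
          refine ⟨fun h => hLtop (top_le_iff.1 (h ▸ hle)), fun h => hL'H ?_, x₀,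
            ⟨hx₀.1, hT'' hx₀⟩, hx₀Q⟩
          exact fun g hg => Subgroup.mem_subgroupOf.2 (h ⟨g, hg, rfl⟩)
        have heq : (R : Subgroup M) ⊓ L'' = T :=
          le_antisymm (inf_le_inf_left _ hle) (le_inf inf_le_left hT'')
        have := hLmin L'' ⟨hmem, by rw [heq]; exact hLeq⟩
        exact hne' (Subgroup.eq_of_le_of_card_ge hle this))
      ⟨x, hxT.2⟩ (show x ∈ T from hxT) hxQ.1 hxP μ hμ
    refine ⟨R₁.map L.subtype, x', h', Y, π, hπ, ?_, ⟨x', hx', rfl⟩, hh', ?_, ?_, hxact, hhact⟩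
    · rintro _ ⟨r, hr, rfl⟩
      exact (show (r : M) ∈ T from hR₁ hr).1
    · exact Subgroup.le_normalizer_map L.subtype ⟨h', hhn, rfl⟩
    · rintro _ ⟨r, hr, rfl⟩
      exact hR₁act r hr
  -- the minimal case
  have hsmall : ∀ L : Subgroup M, L ≠ ⊤ → ∀ x ∈ (R : Subgroup M), x ∈ L → x ∈ Q₀ → L ≤ H₀ := by
    intro L hL x hxR hxL hxQ
    by_contra hLH
    have : L ∈ 𝓛 := ⟨hL, hLH, x, ⟨hxR, hxL⟩, hxQ⟩
    rw [hempty] at this
    exact this
  set b := d * a * d⁻¹ with hb
  have hgenM : Subgroup.closure ({a, b} : Set M) = ⊤ := by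
    by_contra h
    exact hd (hsmall _ h a haR (Subgroup.subset_closure (Or.inl rfl)) ⟨hq, haC⟩
      (Subgroup.subset_closure (Or.inr rfl)))
  haveI : Module.Finite (ZMod p) V := Module.Finite.of_finite
  let bas := Module.finBasis (ZMod p) V
  let E := LinearMap.toMatrixAlgEquiv bas
  let ρ₀ : M →* Matrix (Fin (Module.finrank (ZMod p) V)) (Fin (Module.finrank (ZMod p) V))
      (ZMod p) := E.toMonoidHom.comp σ
  have hker : ∀ g, ρ₀ g = 1 ↔ g ∈ C := by
    intro g
    show E (σ g) = 1 ↔ _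
    rw [← map_one E, E.injective.eq_iff, hmemC]
  let ρ := QuotientGroup.lift C ρ₀ fun g hg => (hker g).2 hg
  let q := QuotientGroup.mk' C
  have hρinj : Function.Injective ρ := by
    rw [injective_iff_map_eq_one]
    intro y hy
    obtain ⟨g, rfl⟩ := QuotientGroup.mk'_surjective C y
    exact (QuotientGroup.eq_one_iff g).2 ((hker g).1 hy)
  have hEval : ∀ g (w : Fin (Module.finrank (ZMod p) V) → ZMod p),
      bas.equivFun.symm (ρ₀ g *ᵥ w) = σ g (bas.equivFun.symm w) := by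
    intro g w
    apply bas.equivFun.injective
    rw [LinearEquiv.apply_symm_apply]
    have hk := LinearMap.toMatrix_mulVec_repr bas bas (σ g) (bas.equivFun.symm w)
    simp only [← Module.Basis.equivFun_apply, LinearEquiv.apply_symm_apply] at hk
    exact hk
  have hirr : Irred ρ := by
    intro S hS hinvS
    have h1 : S.map bas.equivFun.symm.toLinearMap = ⊤ := by
      refine hirrV _ (fun h => hS ?_) ?_
      · exact Submodule.map_injective_of_injective bas.equivFun.symm.injective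
          (by rw [h, Submodule.map_bot])
      · rintro g _ ⟨w, hw, rfl⟩
        exact ⟨ρ (q g) *ᵥ w, hinvS _ w hw, hEval g w⟩
    refine eq_top_iff.2 fun w _ => ?_
    obtain ⟨w', hw', he⟩ := (h1 ▸ Submodule.mem_top :
      bas.equivFun.symm w ∈ S.map bas.equivFun.symm.toLinearMap)
    exact bas.equivFun.symm.injective he ▸ hw'
  have hquadρ : ∀ g, (σ g - 1) * (σ g - 1) = 0 → (ρ (q g) - 1) * (ρ (q g) - 1) = 0 := by
    intro g hg
    show (E (σ g) - 1) * (E (σ g) - 1) = 0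
    rw [← map_one E, ← map_sub, ← map_mul, hg, map_zero]
  have hgenΓ : Subgroup.closure ({q a, q b} : Set (M ⧸ C)) = ⊤ := by
    rw [← Set.image_pair, ← MonoidHom.map_closure, hgenM,
      Subgroup.map_top_of_surjective q (QuotientGroup.mk'_surjective C)]
  have hnpΓ : ¬ IsPGroup p (M ⧸ C) := fun h => haC (hOp ⊤ inferInstance (fun g _ => by
    obtain ⟨k, hk⟩ := h (q g)
    exact ⟨k, (QuotientGroup.eq_one_iff _).1 (by rw [QuotientGroup.mk_pow]; exact hk)⟩)
    (Subgroup.mem_top a))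
  obtain ⟨K, x', h', hxT, hxK, hx1, hhK, hxq, hhn, hKtop, -, -, P₀, hPx, hPh, hPinj⟩ :=
    exists_torus hp2 ρ hρinj hirr hgenΓ (hquadρ a hq) (hquadρ b (hQconj a ⟨hq, haC⟩ d).1) hnpΓ
      (R.mapSurjective (QuotientGroup.mk'_surjective C)) μ hμ
  obtain ⟨x, hxR, rfl⟩ : x' ∈ (R : Subgroup M).map q := hxT
  obtain ⟨h, rfl⟩ := QuotientGroup.mk'_surjective C h'
  have hxQ : x ∈ Q₀ := by
    refine ⟨?_, fun hx => hx1 ((QuotientGroup.eq_one_iff x).2 hx)⟩
    apply E.injective
    rw [map_mul, map_sub, map_one, map_zero]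
    exact hxq
  -- the part of `H₀` we need
  set Px := (Subgroup.zpowers (q x)).comap q with hPxdef
  have hkey : ∀ g : M, q g ∈ K → q g ∈ Subgroup.normalizer (Subgroup.zpowers (q x) : Set (M ⧸ C)) →
      g ∈ H₀ := by
    intro g hgK hgn
    by_cases hK : K.comap q = ⊤
    · have hKt : K = ⊤ := top_le_iff.1 fun y _ => by
        obtain ⟨g, rfl⟩ := QuotientGroup.mk'_surjective C y
        exact (show g ∈ K.comap q from hK ▸ Subgroup.mem_top g)
      have hTR : (R : Subgroup M).map q = Subgroup.zpowers (q x) := hKtop hKt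
      refine hover ((Subgroup.normalizer (Subgroup.zpowers (q x) : Set (M ⧸ C))).comap q) ?_ ?_ hgn
      · intro r hr
        exact Subgroup.le_normalizer (hTR ▸ Subgroup.mem_map_of_mem q hr)
      · intro htop
        haveI hzn : (Subgroup.zpowers (q x)).Normal := by
          rw [← Subgroup.normalizer_eq_top_iff, eq_top_iff]
          intro y _
          obtain ⟨g, rfl⟩ := QuotientGroup.mk'_surjective C y
          exact (show g ∈ (Subgroup.normalizer (Subgroup.zpowers (q x) : Set (M ⧸ C))).comap q from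
            htop ▸ Subgroup.mem_top g)
        refine hxQ.2 (hOp Px (hzn.comap q) (fun g hg => ?_) (Subgroup.mem_zpowers (q x)))
        have hp' : IsPGroup p (Subgroup.zpowers (q x)) := hTR ▸ R.2.map q
        obtain ⟨k, hk⟩ := hp' ⟨q g, hg⟩
        exact ⟨k, (QuotientGroup.eq_one_iff _).1 (by
          have := congrArg Subtype.val hk
          rw [SubmonoidClass.coe_pow, OneMemClass.coe_one, ← map_pow] at this
          exact this)⟩
    · exact hsmall _ hK x hxR hxK hxQ hgK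
  set R₁ := (R : Subgroup M) ⊓ Px with hR₁
  have hxR₁ : x ∈ R₁ := ⟨hxR, Subgroup.mem_zpowers (q x)⟩
  have hCPx : C ≤ Px := fun c hc => by
    show q c ∈ Subgroup.zpowers (q x)
    rw [show q c = 1 from (QuotientGroup.eq_one_iff c).2 hc]
    exact one_mem _
  have hpow_x : ∀ g ∈ Px, ∃ i : ℕ, q g = q x ^ i := by
    intro g hg
    have hg' : q g ∈ Subgroup.zpowers (q x) := hg
    rw [← mem_powers_iff_mem_zpowers] at hg'
    obtain ⟨i, hi⟩ := hg'
    exact ⟨i, hi.symm⟩
  have hR₁syl : IsSyl p R₁ Px := by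
    refine isSyl_of_maximal (R.2.to_le inf_le_left) inf_le_right fun W hW hWP hRW => ?_
    refine le_antisymm (fun w hw => ?_) hRW
    obtain ⟨i, hi⟩ := hpow_x w (hWP hw)
    have hxi : x ^ i ∈ W := W.pow_mem (hRW hxR₁) i
    have hc : (x ^ i)⁻¹ * w ∈ W ⊓ C :=
      ⟨W.mul_mem (W.inv_mem hxi) hw, (QuotientGroup.eq_one_iff _).1 (by
        show q ((x ^ i)⁻¹ * w) = 1
        rw [map_mul, map_inv, map_pow, hi, inv_mul_cancel])⟩
    have hsC : IsSyl p ((R : Subgroup M) ⊓ C) C := by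
      simpa using (isSyl_top R).inf_normal (N := C) Subgroup.le_normalizer_of_normal
    have he := hsC.eq_of_le (hW.to_le inf_le_left) inf_le_right
      (le_inf ((inf_le_inf_left _ hCPx).trans hRW) inf_le_right)
    rw [he] at hc
    have := R₁.mul_mem (R₁.pow_mem hxR₁ i) (⟨hc.1, hCPx hc.2⟩ : (x ^ i)⁻¹ * w ∈ R₁)
    rwa [mul_inv_cancel_left] at this
  have hhPx : conjS h Px = Px := by
    refine Subgroup.eq_of_le_of_card_ge ?_ (card_conjS h Px).ge
    rintro _ ⟨g, hg, rfl⟩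
    show q (h * g * h⁻¹) ∈ Subgroup.zpowers (q x)
    rw [map_mul, map_mul, map_inv]
    exact (Subgroup.mem_normalizer_iff.1 hhn _).1 hg
  obtain ⟨c, hc, hcR⟩ := (hhPx ▸ hR₁syl.conj h : IsSyl p (conjS h R₁) Px).exists_conj hR₁syl
  obtain ⟨i, hi⟩ := hpow_x c hc
  set h₁ := (x ^ i)⁻¹ * (c * h) with hh₁
  have hqh₁ : q h₁ = q h := by
    rw [hh₁, map_mul, map_mul, map_inv, map_pow, hi, inv_mul_cancel_left]
  have hh₁n : h₁ ∈ Subgroup.normalizer (R₁ : Set M) :=
    mul_mem (inv_mem (Subgroup.le_normalizer (R₁.pow_mem hxR₁ i)))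
      (mem_normalizer_of_conjS_eq (by rw [conjS_mul]; exact hcR))
  -- the plane
  let e : (Fin 2 → ZMod p) →ₗ[ZMod p] V :=
    bas.equivFun.symm.toLinearMap.comp (Matrix.mulVecLin P₀)
  have he : Function.Injective e := by
    rw [← LinearMap.ker_eq_bot, LinearMap.ker_eq_bot']
    intro v hv
    exact hPinj v (bas.equivFun.symm.injective (hv.trans (map_zero _).symm))
  let eY := LinearEquiv.ofInjective e he
  have hacts : ∀ (g : M) (A : Matrix.SpecialLinearGroup (Fin 2) (ZMod p)),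
      ρ (q g) * P₀ = P₀ * A.1 → Acts σ eY.symm.toLinearMap g A := by
    intro g A hgA v
    obtain ⟨u, rfl⟩ := eY.surjective v
    refine ⟨eY (A.1 *ᵥ u), ?_, ?_⟩
    · show e (A.1 *ᵥ u) = σ g (e u)
      show bas.equivFun.symm (P₀ *ᵥ (A.1 *ᵥ u)) = σ g (bas.equivFun.symm (P₀ *ᵥ u))
      rw [← hEval, Matrix.mulVec_mulVec, ← hgA, ← Matrix.mulVec_mulVec]
      rfl
    · simp
  have hxact : Acts σ eY.symm.toLinearMap x (up 1) := hacts x _ hPx
  refine ⟨R₁, x, h₁, _, eY.symm.toLinearMap, eY.symm.surjective, inf_le_left, hxR₁,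
    hkey h₁ (hqh₁ ▸ hhK) (hqh₁ ▸ hhn), hh₁n, fun r hr => ?_, hxact, hacts h₁ _ (hqh₁ ▸ hPh)⟩
  obtain ⟨j, hj⟩ := hpow_x r hr.2
  refine ⟨(j : ZMod p), ?_⟩
  rw [up_natCast]
  have hρx : ∀ n : ℕ, ρ (q x) ^ n * P₀ = P₀ * ((up (1 : ZMod p)) ^ n).1 := by
    intro n
    induction n with
    | zero => simp
    | succ n ih' =>
      rw [pow_succ, Matrix.mul_assoc, hPx, ← Matrix.mul_assoc, ih', Matrix.mul_assoc, pow_succ,
        ← val_mul]
  exact hacts r _ (by rw [hj, map_pow]; exact hρx j)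

/-- The torus theorem. -/
theorem torusHyp (hp2 : p ≠ 2) : ∀ N : ℕ, TorusHyp.{u, v} p N := by
  intro N
  induction N with
  | zero => exact fun M _ _ hM => absurd hM (Nat.not_le.2 Nat.card_pos)
  | succ N ih =>
  intro M _ _ hM V _ _ _ σ R H₀ hH₀ hover a haR hq hrad μ hμ
  classical
  -- a smallest invariant subspace with `a` outside the radical
  obtain ⟨W', ⟨hW', hW'rad⟩, hW'min⟩ := Set.exists_min_image
    {S : Submodule (ZMod p) V | ∃ hS : ∀ g, ∀ v ∈ S, σ g v ∈ S,
      ¬ InPRad p (resHom σ S hS).ker a}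
    (fun S => Nat.card S) (Set.toFinite _) ⟨⊤, fun g v _ => trivial, fun hr => hrad (by
      obtain ⟨D, hD, haD, hpow⟩ := hr
      refine ⟨D, hD, haD, fun d hd => ?_⟩
      obtain ⟨k, hk⟩ := hpow d hd
      refine ⟨k, MonoidHom.mem_ker.2 (LinearMap.ext fun v => ?_)⟩
      exact congrArg (fun f : Module.End (ZMod p) (⊤ : Submodule (ZMod p) V) =>
        ((f ⟨v, trivial⟩ : (⊤ : Submodule (ZMod p) V)) : V)) (MonoidHom.mem_ker.1 hk))⟩
  set σ' := resHom σ W' hW' with hσ'
  have hproper : ∀ W : Submodule (ZMod p) W', W ≠ ⊤ → ∀ hW : ∀ g, ∀ v ∈ W, σ' g v ∈ W,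
      InPRad p (resHom σ' W hW).ker a := by
    intro W hW hWinv
    by_contra hr
    set W'' := W.map W'.subtype with hW''
    have hinv'' : ∀ g, ∀ v ∈ W'', σ g v ∈ W'' := by
      rintro g _ ⟨v, hv, rfl⟩
      exact ⟨σ' g v, hWinv g v hv, rfl⟩
    have hle : W'' ≤ W' := Submodule.map_subtype_le W' W
    have hlt : Nat.card W'' < Nat.card W' := by
      refine lt_of_le_of_ne (Nat.card_mono (Set.toFinite _) hle) fun he => hW ?_
      have hWeq : (W'' : Set V) = W' :=
        Set.Finite.eq_of_subset_of_card_le (Set.toFinite _) hle he.ge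
      refine eq_top_iff.2 fun v _ => ?_
      obtain ⟨w, hw, hwv⟩ := (hWeq.ge v.2 : (v : V) ∈ W'')
      rwa [← Subtype.ext hwv]
    refine not_le.2 hlt (hW'min W'' ⟨hinv'', fun hr' => hr ?_⟩)
    obtain ⟨D, hD, haD, hpow⟩ := hr'
    refine ⟨D, hD, haD, fun d hd => ?_⟩
    obtain ⟨k, hk⟩ := hpow d hd
    refine ⟨k, MonoidHom.mem_ker.2 (LinearMap.ext fun v => Subtype.ext (Subtype.ext ?_))⟩
    exact congrArg (fun f : Module.End (ZMod p) W'' =>
      ((f ⟨((v : W') : V), ⟨(v : W'), v.2, rfl⟩⟩ : W'') : V)) (MonoidHom.mem_ker.1 hk)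
  have hne : ∃ W : Submodule (ZMod p) W', W ≠ ⊤ ∧ ∀ g, ∀ v ∈ W, σ' g v ∈ W := by
    refine ⟨⊥, fun h => hW'rad ⟨⊤, inferInstance, Subgroup.mem_top a, fun d _ => ⟨0, ?_⟩⟩,
      fun g v hv => by rw [Submodule.mem_bot] at hv ⊢; rw [hv, map_zero]⟩
    refine MonoidHom.mem_ker.2 (LinearMap.ext fun v => ?_)
    have hv : v = 0 := (Submodule.mem_bot (ZMod p)).1 (h ▸ Submodule.mem_top)
    rw [hv, map_zero, map_zero]
  obtain ⟨W, hWmax⟩ := Set.Finite.exists_maximal
    (s := {W : Submodule (ZMod p) W' | W ≠ ⊤ ∧ ∀ g, ∀ v ∈ W, σ' g v ∈ W}) (Set.toFinite _) hne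
  obtain ⟨hWtop, hWinv⟩ := hWmax.1
  haveI : Finite (W' ⧸ W) := Finite.of_surjective _ W.mkQ_surjective
  set σ₁ := quotHom σ' W hWinv with hσ₁
  have hq₁ : (σ₁ a - 1) * (σ₁ a - 1) = 0 := Submodule.linearMap_qext _ (LinearMap.ext fun v => by
    show (σ₁ a - 1) ((σ₁ a - 1) (W.mkQ v)) = 0
    have h1 : ∀ v, (σ₁ a - 1) (W.mkQ v) = W.mkQ ((σ' a - 1) v) := fun v => by
      rw [LinearMap.sub_apply, LinearMap.sub_apply, Module.End.one_apply, Module.End.one_apply,
        map_sub, hσ₁, quotHom_apply]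
    rw [h1, h1]
    have h2 : (σ' a - 1) ((σ' a - 1) v) = 0 :=
      Subtype.ext (congrArg (fun f : Module.End (ZMod p) V => f v) hq)
    rw [h2, map_zero])
  have hrad₁ : ¬ InPRad p σ₁.ker a := by
    intro hr₁
    obtain ⟨D₁, hD₁, haD₁, hpow₁⟩ := hr₁
    obtain ⟨D₂, hD₂, haD₂, hpow₂⟩ := hproper W hWtop hWinv
    haveI := hD₁
    haveI := hD₂
    refine hW'rad ⟨D₁ ⊓ D₂, inferInstance, ⟨haD₁, haD₂⟩, fun d hd => ?_⟩
    obtain ⟨i, hi⟩ := hpow₁ d hd.1
    obtain ⟨j, hj⟩ := hpow₂ d hd.2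
    set g := d ^ p ^ (i + j) with hg
    have hg1 : g ∈ σ₁.ker := by rw [hg, pow_add, pow_mul]; exact Subgroup.pow_mem _ hi _
    have hg2 : g ∈ (resHom σ' W hWinv).ker := by
      rw [hg, add_comm, pow_add, pow_mul]; exact Subgroup.pow_mem _ hj _
    refine ⟨i + j + 1, ?_⟩
    rw [pow_succ, pow_mul, ← hg, MonoidHom.mem_ker]
    refine LinearMap.ext fun v => ?_
    have hw : σ' g v - v ∈ W := by
      have h1 := congrArg (fun f : Module.End (ZMod p) (W' ⧸ W) => f (W.mkQ v))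
        (MonoidHom.mem_ker.1 hg1)
      simp only [hσ₁, quotHom_apply, Module.End.one_apply] at h1
      exact (Submodule.Quotient.eq W).1 h1
    have hgw : σ' g (σ' g v - v) = σ' g v - v :=
      congrArg (fun f : Module.End (ZMod p) W => ((f ⟨_, hw⟩ : W) : W'))
        (MonoidHom.mem_ker.1 hg2)
    have hiter : ∀ n : ℕ, σ' (g ^ n) v = v + n • (σ' g v - v) := by
      intro n
      induction n with
      | zero => simp
      | succ n ih' =>
        rw [pow_succ', map_mul, Module.End.mul_apply, ih', map_add, map_nsmul, hgw, succ_nsmul]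
        abel
    rw [hiter p, ← Nat.cast_smul_eq_nsmul (ZMod p), ZMod.natCast_self, zero_smul, add_zero,
      Module.End.one_apply]
  obtain ⟨R₁, x, h, Y, π, hπ, hR₁, hx, hh, hhn, hr, hxact, hhact⟩ :=
    torus_irreducible hp2 ih hM σ₁ R H₀ hH₀ hover (fun S hS hSinv => by
      by_contra hStop
      have hle : W ≤ S.comap W.mkQ := fun v hv => by
        rw [Submodule.mem_comap, Submodule.mkQ_apply, (Submodule.Quotient.mk_eq_zero W).2 hv]
        exact S.zero_mem
      have hmem : S.comap W.mkQ ≠ ⊤ ∧ ∀ g, ∀ v ∈ S.comap W.mkQ, σ' g v ∈ S.comap W.mkQ := by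
        refine ⟨fun h => hStop (eq_top_iff.2 fun w _ => ?_), fun g v hv => ?_⟩
        · obtain ⟨v, rfl⟩ := W.mkQ_surjective w
          exact (h ▸ Submodule.mem_top : v ∈ S.comap W.mkQ)
        · rw [Submodule.mem_comap, ← quotHom_apply σ' W hWinv]
          exact hSinv g _ hv
      have heq : S.comap W.mkQ ≤ W := hWmax.2 hmem hle
      refine hS (eq_bot_iff.2 fun w hw => ?_)
      obtain ⟨v, rfl⟩ := W.mkQ_surjective w
      rw [Submodule.mem_bot, Submodule.mkQ_apply, Submodule.Quotient.mk_eq_zero]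
      exact heq hw) haR hq₁ hrad₁ μ hμ
  -- back to `V`
  set Y₁ := Y.comap W.mkQ with hY₁
  let eY := Submodule.equivMapOfInjective W'.subtype W'.injective_subtype Y₁
  let r : Y₁ →ₗ[ZMod p] Y := (W.mkQ.comp Y₁.subtype).codRestrict Y fun v => v.2
  let π' : Y₁.map W'.subtype →ₗ[ZMod p] (Fin 2 → ZMod p) := π.comp (r.comp eY.symm.toLinearMap)
  have hπ' : Function.Surjective π' := by
    intro u
    obtain ⟨⟨y, hy⟩, rfl⟩ := hπ u
    obtain ⟨v, rfl⟩ := W.mkQ_surjective y
    refine ⟨eY ⟨v, hy⟩, ?_⟩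
    simp only [π', LinearMap.comp_apply, LinearEquiv.coe_coe, LinearEquiv.symm_apply_apply]
    rfl
  have htrans : ∀ (g : M) (A : Matrix.SpecialLinearGroup (Fin 2) (ZMod p)),
      Acts σ₁ π g A → Acts σ π' g A := by
    intro g A hg v
    obtain ⟨v, rfl⟩ := eY.surjective v
    obtain ⟨w, hw, hw'⟩ := hg (r v)
    have hwm : σ' g (v : W') ∈ Y₁ := by
      show W.mkQ (σ' g v) ∈ Y
      rw [← quotHom_apply σ' W hWinv]
      exact (show σ₁ g (W.mkQ (v : W')) ∈ Y from hw ▸ w.2)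
    refine ⟨eY ⟨_, hwm⟩, rfl, ?_⟩
    simp only [π', LinearMap.comp_apply, LinearEquiv.coe_coe, LinearEquiv.symm_apply_apply]
    rw [← hw']
    congr 1
    exact Subtype.ext hw.symm
  exact ⟨R₁, x, h, _, π', hπ', hR₁, hx, hh, hhn,
    fun t ht => (hr t ht).imp fun b hb => htrans t _ hb, htrans x _ hxact, htrans h _ hhact⟩

end Cfsg.Agent.Lib.GlaubermanGlobal
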