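import Cfsg.Agent.Lib.LAEven57.GlaubermanCenter
import Cfsg.Agent.Lib.ZJ.Replacement
import Cfsg.Agent.Lib.ZJ.AbelianJ

/-!
Quadratic elements from the Thompson subgroup: `exists_quadratic_of_centralizes` is Glauberman's lemma
for an abelian subgroup centralized by the members of largest order that lie inside `Q`.
-/

set_option autoImplicit false
set_option linter.unusedSectionVars false
set_option linter.style.haveILetI false

open Cfsg
open Cfsg.Agent.Lib
open Cfsg.Agent.Lib.Fusion.Alperin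
open Cfsg.Agent.Lib.FusionP3.TG
open Cfsg.Agent.Lib.FusionP3
open Cfsg.Agent.Lib.FS Cfsg.Agent.Lib.FusionP3.GT
open scoped commutatorElement

namespace Cfsg.Agent.Lib.GlaubermanGlobal

variable {Ω : Type*} [Group Ω]

/-- A quadratic element outside `Q` on an abelian subgroup centralized by the largest abelian
subgroups inside `Q`. -/
theorem exists_quadratic_of_centralizes {p : ℕ} [Fact p.Prime] {T Q V : Subgroup Ω} [Finite T]
    (hT : IsPGroup p T) (hVT : V ≤ T) (hVc : ∀ x ∈ V, ∀ y ∈ V, x * y = y * x)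
    (hVn : ∀ t ∈ T, ∀ v ∈ V, t * v * t⁻¹ ∈ V)
    (hcen : ∀ B ∈ maxAbelIn T, B ≤ Q → V ≤ Subgroup.centralizer (B : Set Ω))
    (hJ : ¬ thompJ T ≤ Q) :
    ∃ a ∈ T, a ∉ Q ∧ ∀ v ∈ V, Commute a (a * v * a⁻¹ * v⁻¹) := by
  haveI := finite_sub (S := T) hVT
  -- a member outside `Q` with the largest intersection with `V`
  obtain ⟨A, ⟨hA, hAQ⟩, hmax⟩ : ∃ A, (A ∈ maxAbelIn T ∧ ¬ A ≤ Q) ∧
      ∀ B, B ∈ maxAbelIn T → ¬ B ≤ Q → Nat.card (B ⊓ V : Subgroup Ω) ≤ Nat.card (A ⊓ V : Subgroup Ω) := by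
    have hfin : {B : Subgroup Ω | B ∈ maxAbelIn T ∧ ¬ B ≤ Q}.Finite :=
      ((Set.finite_range fun K : Subgroup T => K.map T.subtype).subset fun B hB =>
        ⟨B.subgroupOf T, Subgroup.map_subgroupOf_eq_of_le hB.1.1⟩)
    obtain ⟨A, hA, hmax⟩ := Set.exists_max_image _ (fun B : Subgroup Ω => Nat.card (B ⊓ V : Subgroup Ω)) hfin
      (by
        by_contra hne
        refine hJ (iSup₂_le fun B hB => ?_)
        by_contra hBQ
        exact hne ⟨B, hB, hBQ⟩)
    exact ⟨A, hA, fun B h1 h2 => hmax B ⟨h1, h2⟩⟩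
  haveI := finite_sub (S := T) hA.1
  -- `V` moves `A` inside itself
  have key : ∀ v ∈ V, ∀ a ∈ A, a * v * a⁻¹ * v⁻¹ ∈ A := by
    intro v hv
    let f : Ω → Ω := fun a => a * v * a⁻¹ * v⁻¹
    have hfV : ∀ a ∈ A, f a ∈ V := fun a ha => mul_mem (hVn a (hA.1 ha) v hv) (Subgroup.inv_mem _ hv)
    set M := Subgroup.closure (f '' A) with hM
    have hMV : M ≤ V := (Subgroup.closure_le _).2 (by rintro _ ⟨a, ha, rfl⟩; exact hfV a ha)
    set C := A ⊓ Subgroup.centralizer (M : Set Ω) with hCdef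
    set A' := M ⊔ C with hA'
    have hA'T : A' ≤ T := sup_le (hMV.trans hVT) (inf_le_left.trans hA.1)
    have hA'c : ∀ x ∈ A', ∀ y ∈ A', x * y = y * x := by
      have hcomm : ∀ s ∈ (M : Set Ω) ∪ C, ∀ t ∈ (M : Set Ω) ∪ C, s * t = t * s := by
        rintro s (hs | hs) t (ht | ht)
        · exact hVc _ (hMV hs) _ (hMV ht)
        · exact Subgroup.mem_centralizer_iff.1 ht.2 s hs
        · exact (Subgroup.mem_centralizer_iff.1 hs.2 t ht).symm
        · exact hA.2.1 _ hs.1 _ ht.1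
      have h1 : A' = Subgroup.closure ((M : Set Ω) ∪ C) := by
        rw [Subgroup.closure_union, Subgroup.closure_eq, Subgroup.closure_eq]
      rw [h1]
      haveI := Subgroup.isMulCommutative_closure hcomm
      exact fun x hx y hy => setLike_mul_comm hx hy
    haveI := finite_sub (S := T) hA'T
    -- the count
    have hcard : Nat.card A ≤ Nat.card A' := by
      let q : A → Set Ω := fun a => (fun m => f a * m) '' ((M ⊓ A : Subgroup Ω) : Set Ω)
      have hrep : ∀ a : A, ∃ b : A, q b = q a := fun a => ⟨a, rfl⟩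
      let r : A → A := fun a => Function.invFun q (q a)
      have hr : ∀ a, q (r a) = q a := fun a => Function.invFun_eq (hrep a)
      have hrq : ∀ a b, q a = q b → r a = r b := fun a b h => congrArg (Function.invFun q) h
      have hq : ∀ a b : A, q a = q b ↔ (f a)⁻¹ * f b ∈ M ⊓ A := by
        intro a b
        constructor
        · intro h
          obtain ⟨m, hm, e⟩ := h.ge ⟨1, one_mem _, rfl⟩
          replace e : f a * m = f b := by simpa using e
          rwa [← e, inv_mul_cancel_left]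
        · intro h
          refine Set.ext fun x => ⟨?_, ?_⟩
          · rintro ⟨m, hm, rfl⟩
            exact ⟨((f a)⁻¹ * f b)⁻¹ * m, mul_mem (Subgroup.inv_mem _ h) hm, by group⟩
          · rintro ⟨m, hm, rfl⟩
            exact ⟨(f a)⁻¹ * f b * m, mul_mem h hm, by group⟩
      -- a difference in the class lies in `C`
      have hdiff : ∀ a b : A, q a = q b → (a : Ω)⁻¹ * b ∈ C := by
        intro a b h
        refine ⟨mul_mem (Subgroup.inv_mem _ a.2) b.2, ?_⟩
        have hm := (hq a b).1 h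
        set c : Ω := (a : Ω)⁻¹ * b
        have hcA : c ∈ A := mul_mem (Subgroup.inv_mem _ a.2) b.2
        have hfc : f c ∈ A := by
          have e : (f a)⁻¹ * f b = v * (a : Ω) * v⁻¹ * (a : Ω)⁻¹ * ((b : Ω) * v * (b : Ω)⁻¹ * v⁻¹) := by
            simp only [f]; group
          have e2 : f b * (f a)⁻¹ = (a : Ω) * f c * (a : Ω)⁻¹ := by simp only [f, c]; group
          have e3 : f b * (f a)⁻¹ = (f a)⁻¹ * f b :=
            hVc _ (hfV b b.2) _ (Subgroup.inv_mem _ (hfV a a.2))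
          have h2 : (a : Ω) * f c * (a : Ω)⁻¹ ∈ A := by rw [← e2, e3]; exact hm.2
          simpa [mul_assoc] using mul_mem (mul_mem (Subgroup.inv_mem _ a.2) h2) a.2
        have : M ≤ Subgroup.centralizer {c} := by
          refine (Subgroup.closure_le _).2 ?_
          rintro _ ⟨x, hx, rfl⟩
          refine Subgroup.mem_centralizer_singleton_iff.2 ?_
          have hcx : c * x = x * c := hA.2.1 c hcA x hx
          have hxfc : x * f c = f c * x := hA.2.1 x hx _ hfc
          have e : c * f x * c⁻¹ = x * (f c * v) * x⁻¹ * (f c * v)⁻¹ := by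
            calc c * f x * c⁻¹ = (c * x) * v * (c * x)⁻¹ * (c * v * c⁻¹)⁻¹ := by simp only [f]; group
              _ = x * (c * v * c⁻¹) * x⁻¹ * (c * v * c⁻¹)⁻¹ := by rw [hcx]; group
              _ = _ := by simp only [f]; group
          have e' : c * f x * c⁻¹ = f x := by
            rw [e]
            calc x * (f c * v) * x⁻¹ * (f c * v)⁻¹ = (x * f c) * v * x⁻¹ * v⁻¹ * (f c)⁻¹ := by group
              _ = f c * f x * (f c)⁻¹ := by rw [hxfc]; simp only [f]; group
              _ = f x := by rw [hVc _ (hfV c hcA) _ (hfV x hx), mul_inv_cancel_right]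
          exact (mul_inv_eq_iff_eq_mul.1 e').symm
        exact Subgroup.mem_centralizer_iff.2 fun m hm => Subgroup.mem_centralizer_singleton_iff.1 (this hm)
      refine Nat.card_le_card_of_injective (fun a : A =>
        (⟨f (r a) * ((r a : Ω)⁻¹ * a), mul_mem (Subgroup.mem_sup_left (Subgroup.subset_closure ⟨r a, (r a).2, rfl⟩))
          (Subgroup.mem_sup_right (hdiff _ _ (hr a)))⟩ : A')) ?_
      intro a b h
      have h' : f (r a) * ((r a : Ω)⁻¹ * a) = f (r b) * ((r b : Ω)⁻¹ * b) := congrArg Subtype.val h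
      have h1 : (f (r a))⁻¹ * f (r b) = ((r a : Ω)⁻¹ * a) * ((r b : Ω)⁻¹ * b)⁻¹ := by
        calc (f (r a))⁻¹ * f (r b) = (f (r a))⁻¹ * (f (r b) * ((r b : Ω)⁻¹ * b)) * ((r b : Ω)⁻¹ * b)⁻¹ := by group
          _ = _ := by rw [← h']; group
      have hMA : (f (r a))⁻¹ * f (r b) ∈ M ⊓ A := by
        refine ⟨mul_mem (Subgroup.inv_mem _ (Subgroup.subset_closure ⟨_, (r a).2, rfl⟩))
          (Subgroup.subset_closure ⟨_, (r b).2, rfl⟩), ?_⟩
        rw [h1]
        exact mul_mem (mul_mem (Subgroup.inv_mem _ (r a).2) a.2) (Subgroup.inv_mem _ (mul_mem (Subgroup.inv_mem _ (r b).2) b.2))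
      have h2 : r a = r b := by
        have h3 : q a = q b := (hr a).symm.trans (((hq _ _).2 hMA).trans (hr b))
        exact hrq a b h3
      rw [h2] at h'
      exact Subtype.ext (mul_left_cancel (mul_left_cancel h'))
    have hA'max : A' ∈ maxAbelIn T := ⟨hA'T, hA'c, fun B hB hBc => (hA.2.2 B hB hBc).trans hcard⟩
    have hAVC : A ⊓ V ≤ C := fun x hx =>
      ⟨hx.1, Subgroup.mem_centralizer_iff.2 fun m hm => hVc m (hMV hm) x hx.2⟩
    suffices hMA : M ≤ A from fun a ha => hMA (Subgroup.subset_closure ⟨a, ha, rfl⟩)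
    by_cases hA'Q : A' ≤ Q
    · -- `A'` contains `V`, and then `A` centralizes `v`
      have hVA' : V ≤ A' := fun x hx => by
        have hc := closure_singleton_sup_comm hA'c (x := x) fun a ha =>
          Subgroup.mem_centralizer_iff.1 (hcen A' hA'max hA'Q hx) a ha
        have hle : A' ⊔ Subgroup.zpowers x ≤ T := sup_le hA'T (Subgroup.zpowers_le.2 (hVT hx))
        haveI := finite_sub (S := T) hle
        rw [Subgroup.eq_of_le_of_card_ge le_sup_left (hA'max.2.2 _ hle hc)]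
        exact Subgroup.mem_sup_right (Subgroup.mem_zpowers x)
      have hdec : ∀ x ∈ V, ∃ m ∈ M, ∃ c ∈ A ⊓ V, x = m * c := by
        intro x hx
        obtain ⟨m, hm, c, hc, rfl⟩ := StronglyClosed.exists_mul_of_mem_sup (P := M) (T := C)
          (fun u hu t ht => by rw [Subgroup.mem_centralizer_iff.1 ht.2 u hu, mul_inv_cancel_right]; exact ht) (hVA' hx)
        refine ⟨m, hm, c, ⟨hc.1, ?_⟩, rfl⟩
        simpa using mul_mem (Subgroup.inv_mem _ (hMV hm)) hx
      have hstep : M ≤ ⁅M, T⁆ := by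
        refine (Subgroup.closure_le _).2 ?_
        rintro _ ⟨a, ha, rfl⟩
        obtain ⟨m, hm, c, hc, rfl⟩ := hdec v hv
        have hac : a * c = c * a := hA.2.1 a ha c hc.1
        have hci : c * a⁻¹ * c⁻¹ = a⁻¹ :=
          mul_inv_eq_iff_eq_mul.2 (Commute.inv_right (hac.symm : Commute c a))
        have e : f a = ⁅a, m⁆ := by
          calc f a = a * m * (c * a⁻¹ * c⁻¹) * m⁻¹ := by simp only [f]; group
            _ = ⁅a, m⁆ := by rw [hci, commutatorElement_def]
        rw [SetLike.mem_coe, e, Subgroup.commutator_comm]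
        exact Subgroup.commutator_mem_commutator (hA.1 ha) hm
      have hbot : M = ⊥ := by
        haveI := hT.isNilpotent
        obtain ⟨n, hn⟩ := (Subgroup.isNilpotent_iff_lowerCentralSeries T).1 inferInstance
        have hall : ∀ i, M ≤ T.lowerCentralSeries i := by
          intro i
          induction i with
          | zero => exact hMV.trans hVT
          | succ i ih => exact hstep.trans (Subgroup.commutator_mono ih le_rfl)
        exact le_bot_iff.1 (hn ▸ hall n)
      rw [hbot]; exact bot_le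
    · haveI : Finite (A' ⊓ V : Subgroup Ω) := finite_sub (S := T) (inf_le_left.trans hA'T)
      have h1 : A ⊓ V = A' ⊓ V := Subgroup.eq_of_le_of_card_ge
        (le_inf (hAVC.trans le_sup_right) inf_le_right) (hmax A' hA'max hA'Q)
      exact fun m hm => ((h1.ge : A' ⊓ V ≤ A ⊓ V) ⟨Subgroup.mem_sup_left hm, hMV hm⟩).1
  obtain ⟨a, ha, haQ⟩ := SetLike.not_le_iff_exists.1 hAQ
  exact ⟨a, hA.1 ha, haQ, fun v hv => hA.2.1 a ha _ (key v hv a ha)⟩

/-- Quadratic action, modulo `Z`, of some element of `S` outside a normal `p`-subgroup `P` on the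
normal subgroup generated by `Z` and an element `y` of `Z(J(S))`. -/
theorem exists_top_quadratic {G : Type*} [Group G] [Finite G] {p : ℕ} [Fact p.Prime] (hp2 : p ≠ 2)
    (S : Sylow p G) (hE : ¬ (Cfsg.centerThompsonAOf (S : Subgroup G)).Normal)
    (P Z : Subgroup G) [P.Normal] [Z.Normal] (hP : IsPGroup p P)
    (hZE : Z ≤ Cfsg.centerThompsonAOf (S : Subgroup G)) {y : G}
    (hy : y ∈ Cfsg.centerThompsonAOf (S : Subgroup G))
    (hVP : Z ⊔ Subgroup.normalClosure {y} ≤ P)
    (hVV : ∀ v ∈ Z ⊔ Subgroup.normalClosure {y}, ∀ w ∈ Z ⊔ Subgroup.normalClosure {y},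
      ⁅v, w⁆ ∈ Z) :
    ∃ a ∈ (S : Subgroup G), a ∉ P ∧ ∀ v ∈ Z ⊔ Subgroup.normalClosure {y},
      ⁅a, a * v * a⁻¹ * v⁻¹⁆ ∈ Z := by
  classical
  set V := Z ⊔ Subgroup.normalClosure {y} with hV
  haveI : V.Normal := Subgroup.sup_normal _ _
  set Sg : Subgroup G := (S : Subgroup G) with hSg
  set E := Cfsg.centerThompsonAOf Sg with hEdef
  have hPS : P ≤ Sg := hP.le_sylow_of_normal S
  have hVS : V ≤ Sg := hVP.trans hPS
  have hone : ∀ {a c : G}, a * c = c * a → ⁅a, c⁆ ∈ Z := fun h => by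
    rw [commutatorElement_eq_one_iff_mul_comm.2 h]; exact one_mem _
  by_cases hin : ∃ A₀ ∈ ZJ.maxAbIn Sg, A₀ ≤ P
  · obtain ⟨A₀, hA₀, hA₀P⟩ := hin
    have hsub : ZJ.maxAbIn P ⊆ ZJ.maxAbIn Sg := ZJ.maxAbIn_mono hPS hA₀ hA₀P
    have hVB : ∀ B ∈ ZJ.maxAbIn P, V ≤ B := by
      intro B hB
      refine sup_le (fun x hx => ZJ.mem_of_centerA (hsub hB) (hZE hx)) ?_
      rw [Subgroup.normalClosure, Subgroup.closure_le]
      intro x hx
      obtain ⟨y', hy', hc⟩ := Group.mem_conjugatesOfSet_iff.1 hx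
      rw [Set.mem_singleton_iff] at hy'
      subst hy'
      obtain ⟨g, rfl⟩ := isConj_iff.1 hc
      have hmap : B.map (MulAut.conj g⁻¹).toMonoidHom ∈ ZJ.maxAbIn P := by
        have h1 : P.map (MulAut.conj g⁻¹).toMonoidHom = P :=
          Cfsg.Agent.Lib.Fusion.Alperin.conjS_eq_of_mem_normalizer
            (Subgroup.le_normalizer_of_normal (H := P) (K := ⊤) trivial)
        rw [← h1, ZJ.map_maxAbIn _ (MulAut.conj g⁻¹).injective]
        exact ⟨B, hB, rfl⟩
      obtain ⟨b, hb, hbe⟩ := ZJ.mem_of_centerA (hsub hmap) hy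
      have : g * y' * g⁻¹ = b := by rw [← hbe]; simp [mul_assoc]
      rw [this]; exact hb
    have hA₀' : A₀ ∈ ZJ.maxAbIn P := ⟨hA₀P, hA₀.2.1, fun B hB hBc => hA₀.2.2 B (hB.trans hPS) hBc⟩
    have hVc : ∀ x ∈ V, ∀ z ∈ V, x * z = z * x := fun x hx z hz =>
      ZJ.comm_of_mulComm hA₀.2.1 (hVB A₀ hA₀' hx) (hVB A₀ hA₀' hz)
    obtain ⟨a, ha, haP, hq⟩ := exists_quadratic_of_centralizes S.2 hVS hVc
      (fun t _ v hv => Subgroup.Normal.conj_mem inferInstance v hv t) (Q := P)
      (fun B hB hBP x hx => Subgroup.mem_centralizer_iff.2 fun b hb => by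
        have hBc : IsMulCommutative B := ZJ.mulComm_of_comm hB.2.1
        have hB' : B ∈ ZJ.maxAbIn P := ⟨hBP, hBc, fun C hC hCc =>
          hB.2.2 C (hC.trans hPS) fun u hu w hw => ZJ.comm_of_mulComm hCc hu hw⟩
        exact ZJ.comm_of_mulComm hBc hb (hVB B hB' hx))
      (fun hJ => hE (by
        have h1 : Cfsg.thompsonSubgroupAOf P = Cfsg.thompsonSubgroupAOf Sg := by
          rw [FusionP3.TG.thompsonSubgroupAOf_eq (S := Sg) hPS,
            FusionP3.TG.thompsonSubgroupAOf_eq (S := Sg) le_rfl]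
          exact FusionP3.TG.thompJ_eq_of_le (S := Sg) le_rfl hPS hJ
        rw [← Subgroup.normalizer_eq_top_iff]
        refine top_le_iff.1 (le_trans ?_ (ZJ.normalizer_thompsonA_le_normalizer_centerThompsonA Sg))
        rw [← h1]
        exact le_trans (Subgroup.normalizer_eq_top_iff.2 (inferInstance : P.Normal)).ge
          (ZJ.normalizer_le_normalizer_thompsonA P)))
    exact ⟨a, ha, haP, fun v hv => hone (hq v hv)⟩
  push Not at hin
  have hfin : ∀ A ∈ ZJ.maxAbIn Sg, V ≤ Subgroup.normalizer (A : Set G) →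
      ∃ a ∈ Sg, a ∉ P ∧ ∀ v ∈ V, ⁅a, a * v * a⁻¹ * v⁻¹⁆ ∈ Z := by
    intro A hA hVA
    obtain ⟨a, ha, haP⟩ := SetLike.not_le_iff_exists.1 (hin A hA)
    refine ⟨a, hA.1 ha, haP, fun v hv => hone (ZJ.comm_of_mulComm hA.2.1 ha ?_)⟩
    rw [show a * v * a⁻¹ * v⁻¹ = a * (v * a⁻¹ * v⁻¹) by group]
    exact A.mul_mem ha ((Subgroup.mem_normalizer_iff.1 (hVA hv) a⁻¹).1 (A.inv_mem ha))
  by_cases hall : ∃ U ∈ ZJ.maxAbIn Sg, ¬ V ≤ U
  · obtain ⟨U, hU, hVU⟩ := hall
    obtain ⟨A, hA, -, -, hnorm⟩ := ZJ.Replacement.exists_normalizes (ZJ.maxAbIn Sg) S.2 hVS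
      Subgroup.le_normalizer_of_normal (Or.inl hp2) (fun A hA => hA.1)
      (fun A hA x hx z hz => ZJ.comm_of_mulComm hA.2.1 hx hz)
      (fun A hA b hb A' hA' hA'c hcard _ => ⟨hA'.trans (sup_le hA.1 fun x hx => by
          have h1 := hA.1 (ZJ.Replacement.mem_conjr.1 hx)
          have h2 := Sg.mul_mem (Sg.mul_mem (Sg.inv_mem (hVS hb)) h1) (hVS hb)
          simpa [mul_assoc] using h2), ZJ.mulComm_of_comm hA'c,
        fun C hC hCc => hcard ▸ hA.2.2 C hC hCc⟩) hU
      (Subgroup.commutator_le.2 fun v hv w hw => ZJ.mem_of_centerA hU (hZE (hVV v hv w hw))) hVU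
    exact hfin A hA hnorm
  push Not at hall
  obtain ⟨A, hA⟩ := ZJ.maxAbIn_nonempty Sg
  exact hfin A hA ((hall A hA).trans Subgroup.le_normalizer)

end Cfsg.Agent.Lib.GlaubermanGlobal
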