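import Cfsg.Agent.Lib.GlaubermanGlobal.Quot
import Cfsg.Agent.Lib.GlaubermanGlobal.Offender

/-!
Glauberman: if `N(Z(J(S)))` does not control strong fusion in `S`, `p` odd, then some element `y` of
order `p` of `Z(J(S))` is conjugate in `N(Z(J(S)))` to all its nontrivial powers, and `F(p)` is
involved in `N(Z(J(S)))`.
-/

set_option autoImplicit false
set_option linter.style.haveILetI false
set_option linter.unusedSectionVars false

namespace Cfsg.Agent.Lib.GlaubermanGlobal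

open Cfsg.Agent.Lib.ConjFunctor Cfsg.Agent.Lib.ConjFunctor.Basic
open Cfsg.Agent.Lib.ConjFunctor.Reach Cfsg.Agent.Lib.Fusion.Alperin
open scoped commutatorElement

universe u

variable {p : ℕ} [hp : Fact p.Prime]

/-- An element of order `p` of `E` conjugate in `H` to all its nontrivial powers. -/
def HasEigen (p : ℕ) [Fact p.Prime] {G : Type*} [Group G] (E H : Subgroup G) : Prop :=
  ∃ y ∈ E, y ≠ 1 ∧ y ^ p = 1 ∧
    ∀ d : (ZMod p)ˣ, ∃ h ∈ H, h * y * h⁻¹ = y ^ (d : ZMod p).val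

/-- Conjugates of `J(S)` inside `S` equal `J(S)`. -/
theorem mem_normalizer_thompsonA {G : Type*} [Group G] [Finite G] {S : Subgroup G} {x : G}
    (h : conjS x (Cfsg.thompsonSubgroupAOf S) ≤ S) :
    x ∈ Subgroup.normalizer (Cfsg.thompsonSubgroupAOf S : Set G) := by
  apply mem_normalizer_of_conjS_eq
  refine Subgroup.eq_of_le_of_card_ge ?_ (card_conjS x _).ge
  conv_lhs => rw [ZJ.thompsonSubgroupAOf_eq, sSup_eq_iSup]
  simp only [conjS_iSup]
  refine iSup₂_le fun B hB => ZJ.le_thompsonSubgroupAOf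
    ⟨(conjS_mono (ZJ.le_thompsonSubgroupAOf hB)).trans h, ZJ.mulComm_map _ hB.2.1,
      fun C hC hCc => (hB.2.2 C hC hCc).trans (card_conjS x B).ge⟩

/-- Elements of `Z(J(S))` conjugate in `G` are conjugate in `N(Z(J(S)))`. -/
theorem exists_conj_mem {G : Type*} [Group G] [Finite G] (S : Sylow p G) {y g : G}
    (hy : y ∈ Cfsg.centerThompsonAOf (S : Subgroup G))
    (hgy : g * y * g⁻¹ ∈ Cfsg.centerThompsonAOf (S : Subgroup G)) :
    ∃ h ∈ Subgroup.normalizer (Cfsg.centerThompsonAOf (S : Subgroup G) : Set G),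
      h * y * h⁻¹ = g * y * g⁻¹ := by
  set J := Cfsg.thompsonSubgroupAOf (S : Subgroup G) with hJ
  set y' := g * y * g⁻¹ with hy'
  set C := Subgroup.centralizer ({y'} : Set G) with hC
  have hJC : J ≤ C := fun j hj => Subgroup.mem_centralizer_singleton_iff.2 (ZJ.centerA_comm hgy hj)
  have hgJC : conjS g J ≤ C := fun j hj => by
    have h1 := ZJ.centerA_comm hy (mem_conjS.1 hj)
    refine Subgroup.mem_centralizer_singleton_iff.2 ?_
    calc j * y' = g * (g⁻¹ * j * g * y) * g⁻¹ := by rw [hy']; group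
      _ = y' * j := by rw [h1, hy']; group
  have hJp : IsPGroup p J := S.2.to_le (ZJ.thompsonSubgroupAOf_le _)
  obtain ⟨P₁, hP₁, hP₁C⟩ := exists_isSyl_ge hJp hJC
  obtain ⟨c, hc, hcg⟩ := hP₁C.exists_conj_le (hJp.map _) hgJC
  obtain ⟨k, -, hk⟩ := (isSyl_top S).exists_conj_le hP₁C.isP le_top
  have h1 : k ∈ Subgroup.normalizer (J : Set G) :=
    mem_normalizer_thompsonA ((conjS_mono hP₁).trans hk)
  have h2 : k * (c * g) ∈ Subgroup.normalizer (J : Set G) := mem_normalizer_thompsonA (by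
    rw [conjS_mul, conjS_mul]; exact (conjS_mono hcg).trans hk)
  have h3 : c * g ∈ Subgroup.normalizer (J : Set G) := by
    simpa using mul_mem (inv_mem h1) h2
  refine ⟨c * g, ZJ.normalizer_thompsonA_le_normalizer_centerThompsonA _ h3, ?_⟩
  have h4 : c * y' = y' * c := Subgroup.mem_centralizer_singleton_iff.1 hc
  calc c * g * y * (c * g)⁻¹ = c * y' * c⁻¹ := by rw [hy']; group
    _ = y' := by rw [h4]; group

theorem conj_pow_iter {G : Type*} [Group G] {h y : G} {m : ℕ} (e : h * y * h⁻¹ = y ^ m) :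
    ∀ j : ℕ, h ^ j * y * (h ^ j)⁻¹ = y ^ m ^ j := by
  intro j
  induction j with
  | zero => simp
  | succ j ih =>
    calc h ^ (j + 1) * y * (h ^ (j + 1))⁻¹ = h * (h ^ j * y * (h ^ j)⁻¹) * h⁻¹ := by
          rw [pow_succ']; group
      _ = y ^ m ^ (j + 1) := by rw [ih, ← conj_pow, e, ← pow_mul, pow_succ']

/-- The minimal situation. -/
theorem hasEigen_of_minimal (hp2 : p ≠ 2) {G : Type*} [Group G] [Finite G] (S : Sylow p G)
    (hgood : ∀ L : Subgroup G, (S : Subgroup G) ≤ L → L ≠ ⊤ →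
      ¬ BadIn (Subgroup.normalizer (Cfsg.centerThompsonAOf (S : Subgroup G) : Set G))
        (S : Subgroup G) L)
    (hbad : BadIn (Subgroup.normalizer (Cfsg.centerThompsonAOf (S : Subgroup G) : Set G))
        (S : Subgroup G) ⊤) :
    HasEigen p (Cfsg.centerThompsonAOf (S : Subgroup G))
        (Subgroup.normalizer (Cfsg.centerThompsonAOf (S : Subgroup G) : Set G)) ∧
      Cfsg.Involves ↥(Cfsg.fOver (ZMod p))
        ↥(Subgroup.normalizer (Cfsg.centerThompsonAOf (S : Subgroup G) : Set G)) := by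
  classical
  set Sg : Subgroup G := (S : Subgroup G) with hSg
  set E := Cfsg.centerThompsonAOf Sg with hE
  set H := Subgroup.normalizer (E : Set G) with hH
  have hES : E ≤ Sg := ZJ.centerThompsonAOf_le _
  have hSH : Sg ≤ H := Subgroup.le_normalizer.trans (ZJ.normalizer_le_normalizer_centerThompsonA _)
  have hEn : ¬ E.Normal := fun hn => by
    obtain ⟨A, g, -, -, -, hng⟩ := hbad
    exact hng (Real.of_mem (by rw [hH, Subgroup.normalizer_eq_top_iff.2 hn]; trivial))
  set Z := E.normalCore with hZ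
  haveI hZn : Z.Normal := E.normalCore_normal
  have hZE : Z ≤ E := E.normalCore_le
  have hZS : Z ≤ Sg := hZE.trans hES
  have hZp : IsPGroup p Z := S.2.to_le hZS
  set π := QuotientGroup.mk' Z with hπ
  have hπs := QuotientGroup.mk'_surjective Z
  have hback : ∀ {K : Subgroup G}, Z ≤ K → ∀ {x : G}, π x ∈ K.map π → x ∈ K := by
    rintro K hK x ⟨k, hk, he⟩
    obtain ⟨w, hw, rfl⟩ := (QuotientGroup.mk'_eq_mk' Z).1 he
    exact K.mul_mem hk (hK hw)
  set Eb := E.map π with hEb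
  set Hb := H.map π with hHb
  let Sb : Sylow p (G ⧸ Z) := S.mapSurjective hπs
  have hSb : (Sb : Subgroup (G ⧸ Z)) = Sg.map π := rfl
  have hHbn : Hb ≤ Subgroup.normalizer (Eb : Set (G ⧸ Z)) := Subgroup.le_normalizer_map π
  -- the central element
  obtain ⟨zb, ⟨hzE, hzc⟩, hzo⟩ :
      ∃ x ∈ Eb ⊓ Subgroup.centralizer (Sg.map π : Set (G ⧸ Z)), orderOf x = p := by
    refine PGroups.exists_orderOf_eq_prime_of_ne_bot ((Sb.2.to_le (Subgroup.map_mono hES)).to_le
      inf_le_left) fun hbot => ?_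
    have hEne : Eb ≠ ⊥ := fun h => hEn (by
      have hle : E ≤ Z := fun e he => (QuotientGroup.eq_one_iff e).1 (by
        have := Subgroup.mem_map_of_mem π he
        rwa [← hEb, h, Subgroup.mem_bot] at this)
      rw [le_antisymm hle hZE]
      exact hZn)
    haveI : (Eb.subgroupOf (Sg.map π)).Normal :=
      (Subgroup.normal_subgroupOf_iff_le_normalizer (Subgroup.map_mono hES)).2
        ((Subgroup.map_mono hSH).trans hHbn)
    refine PGroups.normal_inf_center_ne_bot (p := p) (S.2.map π) (Eb.subgroupOf (Sg.map π)) ?_ ?_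
    · intro h
      rw [Subgroup.subgroupOf_eq_bot, disjoint_iff, inf_of_le_left (Subgroup.map_mono hES)] at h
      exact hEne h
    · rw [eq_bot_iff]
      rintro ⟨y, hy⟩ ⟨hy1, hy2⟩
      have : y ∈ Eb ⊓ Subgroup.centralizer (Sg.map π : Set (G ⧸ Z)) :=
        ⟨hy1, fun w hw => congrArg Subtype.val (Subgroup.mem_center_iff.1 hy2 ⟨w, hw⟩)⟩
      rw [hbot, Subgroup.mem_bot] at this
      exact Subtype.ext this
  have hzS : zb ∈ (Sb : Subgroup (G ⧸ Z)) := Subgroup.map_mono hES hzE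
  have hzp : zb ^ p = 1 := hzo ▸ pow_orderOf_eq_one zb
  have hmove : Subgroup.centralizer ({zb} : Set (G ⧸ Z)) ≠ ⊤ := by
    intro hX
    set D := (Subgroup.zpowers zb).comap π with hD
    haveI : (Subgroup.zpowers zb).Normal := ⟨fun x hx g => by
      obtain ⟨i, rfl⟩ := hx
      have hc : g * zb = zb * g :=
        Subgroup.mem_centralizer_singleton_iff.1 (hX ▸ Subgroup.mem_top g)
      simp only
      rw [← conj_zpow, hc, mul_inv_cancel_right]
      exact Subgroup.zpow_mem _ (Subgroup.mem_zpowers zb) i⟩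
    have hDE : D ≤ E := fun x hx => hback hZE ((Subgroup.zpowers_le.2 hzE) hx)
    have hDZ : D ≤ Z := Subgroup.normal_le_normalCore.2 hDE
    obtain ⟨y, hy⟩ := hπs zb
    have : zb = 1 := hy ▸ (QuotientGroup.eq_one_iff y).2 (hDZ (show π y ∈ Subgroup.zpowers zb from
      hy.symm ▸ Subgroup.mem_zpowers zb))
    rw [this, orderOf_one] at hzo
    exact hp.out.one_lt.ne hzo
  have hgoodQ : ∀ L : Subgroup (G ⧸ Z), (Sb : Subgroup (G ⧸ Z)) ≤ L → L ≠ ⊤ →
      ¬ BadIn Hb (Sb : Subgroup (G ⧸ Z)) L := by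
    rintro L hSL hL ⟨A, g, hA, hg, hgA, hn⟩
    obtain ⟨g, rfl⟩ := hπs g
    refine hgood (L.comap π) (fun s hs => hSL ⟨s, hs, rfl⟩)
      (fun h => hL (Subgroup.comap_injective hπs (by rw [h, Subgroup.comap_top])))
      ⟨(π : G → G ⧸ Z) ⁻¹' A, g, fun x hx => hback hZS (hA hx), hg, ?_, fun hr => hn ?_⟩
    · rintro _ ⟨x, hx, rfl⟩
      refine hback hZS ?_
      rw [map_mul, map_mul, map_inv]
      exact hgA (mem_cimg hx)
    · obtain ⟨x, hx, ex⟩ := hr
      refine ⟨π x, ⟨x, hx, rfl⟩, fun a ha => ?_⟩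
      obtain ⟨a, rfl⟩ := hπs a
      rw [← map_inv, ← map_inv, ← map_mul, ← map_mul, ← map_mul, ← map_mul, ex a ha]
  -- `G ⧸ Z` is bad
  have hbadQ : BadIn Hb (Sb : Subgroup (G ⧸ Z)) ⊤ := by
    by_contra hQ
    obtain ⟨A₀, g₀, hA₀, -, hg₀A, hn₀⟩ := hbad
    set C := Subgroup.centralizer (Z : Set G) with hC
    haveI : C.Normal := Subgroup.normal_centralizer
    by_cases hCS : C ⊔ Sg = ⊤
    swap
    · obtain ⟨c, hc, n, hn, rfl, hnA⟩ := Steps.exists_decomp S (C := C) hA₀ hg₀A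
      have hJC : Cfsg.thompsonSubgroupAOf Sg ≤ Sg ⊓ C :=
        le_inf (ZJ.thompsonSubgroupAOf_le _) fun j hj =>
          Subgroup.mem_centralizer_iff.2 fun w hw => (ZJ.centerA_comm (hZE hw) hj).symm
      have hN : Subgroup.normalizer ((Sg ⊓ C : Subgroup G) : Set G) ≠ ⊤ := fun h => by
        have he : Cfsg.thompsonSubgroupAOf (Sg ⊓ C) = Cfsg.thompsonSubgroupAOf Sg := by
          rw [FusionP3.TG.thompsonSubgroupAOf_eq (S := Sg) inf_le_left,
            FusionP3.TG.thompsonSubgroupAOf_eq (S := Sg) le_rfl] at *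
          exact FusionP3.TG.thompJ_eq_of_le (S := Sg) le_rfl inf_le_left hJC
        apply hEn
        rw [← Subgroup.normalizer_eq_top_iff, eq_top_iff, ← h]
        exact (ZJ.normalizer_le_normalizer_thompsonA _).trans
          (he ▸ ZJ.normalizer_thompsonA_le_normalizer_centerThompsonA Sg)
      have hSn : Sg ≤ Subgroup.normalizer ((Sg ⊓ C : Subgroup G) : Set G) := fun s hs =>
        mem_normalizer_of_forall fun x hx =>
          ⟨Sg.mul_mem (Sg.mul_mem hs hx.1) (Sg.inv_mem hs),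
            Subgroup.Normal.conj_mem inferInstance x hx.2 s⟩
      refine hn₀ (Real.comp (by_contra fun h => hgood _ hSn hN ⟨A₀, n, hA₀, hn, hnA, h⟩)
        (by_contra fun h => hgood _ le_sup_right hCS
          ⟨cimg n A₀, c, hnA, le_sup_left (a := C) hc, by rwa [← cimg_mul], h⟩))
    refine hn₀ ((real_of_chain (p := p) (r := 0) (fun T n hT hn _ => ?_)
      (alperin S (Subgroup.closure A₀) g₀ ((Subgroup.closure_le _).2 hA₀) ?_) Nat.card_pos).mono
      Subgroup.subset_closure)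
    swap
    · rw [conjS, MonoidHom.map_closure, Subgroup.closure_le]
      exact hg₀A
    set N := Subgroup.normalizer (T : Set G) with hN
    have hZN : ∀ x ∈ Z ⊓ N, x ∈ T := fun x hx => hT.2.2 (Z ⊓ N) (hZp.to_le inf_le_left) inf_le_right
      (fun m hm => mem_normalizer_of_forall fun w hw =>
        ⟨hZn.conj_mem w hw.1 m, N.mul_mem (N.mul_mem hm hw.2) (N.inv_mem hm)⟩) hx
    have hZT : Z ≤ T := by
      by_contra hle
      have hlt : T < T ⊔ Z :=
        lt_of_le_of_ne le_sup_left fun h => hle (le_sup_right.trans h.ge)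
      obtain ⟨x, hx, hxT⟩ := SetLike.exists_of_lt
        (lt_inf_normalizer (P := T ⊔ Z) (S.2.to_le (sup_le hT.1 hZS)) hlt)
      have hx' : x ∈ ((T ⊔ Z : Subgroup G) : Set G) := hx.1
      rw [Subgroup.mul_normal T Z] at hx'
      obtain ⟨t, ht, w, hw, rfl⟩ := hx'
      refine hxT (T.mul_mem ht (hZN w ⟨hw, ?_⟩))
      have := N.mul_mem (N.inv_mem (Subgroup.le_normalizer ht)) hx.2
      rwa [inv_mul_cancel_left] at this
    obtain ⟨xb, hxb, exb⟩ : Real Hb (T.map π : Set (G ⧸ Z)) (π n) := by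
      by_contra hr
      refine hQ ⟨_, π n, Subgroup.map_mono hT.1, Subgroup.mem_top _, ?_, hr⟩
      rintro _ ⟨_, ⟨t, ht, rfl⟩, rfl⟩
      exact ⟨n * t * n⁻¹, hT.1 ((Subgroup.mem_normalizer_iff.1 hn t).1 ht), by
        rw [map_mul, map_mul, map_inv]⟩
    obtain ⟨h, hh, rfl⟩ := hxb
    have hπeq : ∀ t ∈ T, π (h * t * h⁻¹) = π (n * t * n⁻¹) := fun t ht => by
      rw [map_mul, map_mul, map_inv, exb _ ⟨t, ht, rfl⟩, map_mul, map_mul, map_inv]
    have hhN : h ∈ N := mem_normalizer_of_forall fun t ht => hback hZT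
      ((hπeq t ht).symm ▸ ⟨_, (Subgroup.mem_normalizer_iff.1 hn t).1 ht, rfl⟩)
    set D := N ⊓ (Subgroup.centralizer (T.map π : Set (G ⧸ Z))).comap π with hD
    have hmemD : ∀ {d : G}, d ∈ N → (∀ t ∈ T, π (d * t * d⁻¹) = π t) → d ∈ D := by
      intro d hd hc
      refine ⟨hd, Subgroup.mem_centralizer_iff.2 ?_⟩
      rintro _ ⟨t, ht, rfl⟩
      have := hc t ht
      rw [map_mul, map_mul, map_inv, mul_inv_eq_iff_eq_mul] at this
      exact this.symm
    have hDval : ∀ d ∈ D, ∀ t ∈ T, π (d * t * d⁻¹) = π t := fun d hd t ht => by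
      rw [map_mul, map_mul, map_inv, mul_inv_eq_iff_eq_mul]
      exact (Subgroup.mem_centralizer_iff.1 hd.2 (π t) ⟨t, ht, rfl⟩).symm
    set CT := Subgroup.centralizer (T : Set G) with hCT
    have hCTD : CT ≤ D := fun d hd => hmemD (Subgroup.centralizer_le_normalizer _ hd) fun t ht => by
      rw [(Subgroup.mem_centralizer_iff.1 hd t ht).symm, mul_inv_cancel_right]
    have hND : N ≤ Subgroup.normalizer (D : Set G) := fun g hg => mem_normalizer_of_forall
      fun d hd => hmemD (N.mul_mem (N.mul_mem hg hd.1) (N.inv_mem hg)) fun t ht => by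
        have ht' : g⁻¹ * t * g ∈ T := (Subgroup.mem_normalizer_iff''.1 hg t).1 ht
        have h1 := hDval d hd _ ht'
        rw [show g * d * g⁻¹ * t * (g * d * g⁻¹)⁻¹ = g * (d * (g⁻¹ * t * g) * d⁻¹) * g⁻¹ by group,
          map_mul, map_mul, h1, ← map_mul, ← map_mul]
        congr 1; group
    have hNCT : N ≤ Subgroup.normalizer (CT : Set G) := fun g hg => mem_normalizer_of_conjS_eq (by
      rw [hCT, conjS_centralizer, conjS_eq_of_mem_normalizer hg])
    have hSD : IsSyl p (Sg ⊓ N ⊓ D) D := by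
      have := ((isFullyNormalized_iff S.2).1 hT.2.1).inf_normal hND
      rwa [inf_eq_right.2 (inf_le_left : D ≤ N)] at this
    have hDle : D ≤ CT ⊔ (Sg ⊓ N ⊓ D) := by
      refine le_sup_of_pPower hCTD (inf_le_left.trans hNCT) hSD fun d hd => ?_
      obtain ⟨k, m, hm, hord⟩ :=
        Nat.exists_eq_pow_mul_and_not_dvd (orderOf_pos d).ne' p hp.out.ne_one
      refine ⟨k, Subgroup.mem_centralizer_iff.2 fun t ht => ?_⟩
      set e := d ^ p ^ k with he
      have heo : orderOf e = m := by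
        rw [he, orderOf_pow_of_dvd (pow_ne_zero _ hp.out.ne_zero) (Dvd.intro m hord.symm), hord,
          Nat.mul_div_cancel_left _ (pow_pos hp.out.pos k)]
      set w := e * t * e⁻¹ * t⁻¹ with hw
      have hwZ : w ∈ Z := by
        rw [← QuotientGroup.eq_one_iff, ← QuotientGroup.mk'_apply, ← hπ, hw, map_mul,
          hDval e (D.pow_mem hd _) t ht, map_inv, mul_inv_cancel]
      have hew : e * w = w * e :=
        (Subgroup.mem_centralizer_iff.1 (mem_of_sup_eq_top S.2 hCS (heo.symm ▸ hm)) w hwZ).symm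
      have h1 := Quadratic.pow_conj_eq (x := e) (v := t) (c := w) (by rw [hw, inv_mul_cancel_right])
        hew m
      rw [← heo, pow_orderOf_eq_one, one_mul, inv_one, mul_one, eq_comm, mul_eq_right] at h1
      obtain ⟨i, hi⟩ := hZp ⟨w, hwZ⟩
      have hi' : w ^ p ^ i = 1 := by simpa using congrArg Subtype.val hi
      have hw1 : w = 1 := orderOf_eq_one_iff.1 (Nat.eq_one_of_dvd_coprimes
        ((hp.out.coprime_iff_not_dvd.2 (heo.symm ▸ hm)).pow_left i)
        (orderOf_dvd_of_pow_eq_one hi') (orderOf_dvd_of_pow_eq_one h1))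
      rw [hw, mul_inv_eq_one, mul_inv_eq_iff_eq_mul] at hw1
      exact hw1.symm
    have hgD : h⁻¹ * n ∈ D := by
      refine hmemD (N.mul_mem (N.inv_mem hhN) hn) fun t ht => ?_
      have h1 := hπeq t ht
      rw [show h⁻¹ * n * t * (h⁻¹ * n)⁻¹ = h⁻¹ * (n * t * n⁻¹) * h by group, map_mul, map_mul,
        ← h1, ← map_mul, ← map_mul]
      congr 1; group
    have h5 : h⁻¹ * n ∈ (((Sg ⊓ N ⊓ D) ⊔ CT : Subgroup G) : Set G) := by
      rw [sup_comm]; exact hDle hgD
    rw [Subgroup.coe_mul_of_left_le_normalizer_right _ _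
      ((inf_le_left.trans inf_le_right).trans hNCT)] at h5
    obtain ⟨s, hs, c, hc, hsc⟩ := h5
    refine ⟨h * s, H.mul_mem hh (hSH hs.1.1), fun t ht => ?_⟩
    have hn' : n = h * s * c := by
      rw [mul_assoc, show s * c = h⁻¹ * n from hsc, mul_inv_cancel_left]
    rw [hn']
    calc h * s * t * (h * s)⁻¹ = h * s * (t * c * c⁻¹) * (h * s)⁻¹ := by group
      _ = h * s * (c * t * c⁻¹) * (h * s)⁻¹ := by rw [Subgroup.mem_centralizer_iff.1 hc t ht]
      _ = h * s * c * t * (h * s * c)⁻¹ := by group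
  -- the quadratic element when `zb ∈ O_p`
  have htop : zb ∈ Cfsg.pCore p (G ⧸ Z) → ∃ a ∈ (Sb : Subgroup (G ⧸ Z)),
      a ∉ Cfsg.pCore p (G ⧸ Z) ∧ ∀ v ∈ Subgroup.normalClosure ({zb} : Set (G ⧸ Z)),
        Commute a (a * v * a⁻¹ * v⁻¹) := by
    intro hzP
    set P1 := (Cfsg.pCore p (G ⧸ Z)).comap π with hP1
    haveI : P1.Normal := Subgroup.Normal.comap inferInstance _
    have hP1p : IsPGroup p P1 :=
      (Cores.pCore_isPGroup p).comap_of_ker_isPGroup π (by rw [hπ, QuotientGroup.ker_mk']; exact hZp)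
    obtain ⟨y, hy⟩ := hπs zb
    have hyE : y ∈ E := hback hZE (hy.symm ▸ hzE)
    have hΩn := Quadratic.centralOmega_normal (p := p)
      (inferInstance : (Cfsg.pCore p (G ⧸ Z)).Normal)
    have hzΩ : zb ∈ Quadratic.centralOmega p (Cfsg.pCore p (G ⧸ Z)) :=
      ⟨hzP, fun w hw =>
        (Subgroup.mem_centralizer_iff.1 hzc w (Cores.pCore_le_sylow Sb hw)).symm, hzp⟩
    have hclΩ : Subgroup.normalClosure ({zb} : Set (G ⧸ Z)) ≤
        Quadratic.centralOmega p (Cfsg.pCore p (G ⧸ Z)) :=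
      Subgroup.normalClosure_le_normal (Set.singleton_subset_iff.2 hzΩ)
    have hVmap : ∀ v ∈ Z ⊔ Subgroup.normalClosure {y}, π v ∈
        Subgroup.normalClosure ({zb} : Set (G ⧸ Z)) := by
      intro v hv
      have h1 : (Z ⊔ Subgroup.normalClosure {y}).map π =
          Subgroup.normalClosure ({zb} : Set (G ⧸ Z)) := by
        rw [Subgroup.map_sup, (Subgroup.map_eq_bot_iff Z).2 (QuotientGroup.ker_mk' Z).ge,
          bot_sup_eq, Subgroup.map_normalClosure _ π hπs, Set.image_singleton, hy]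
      exact h1 ▸ Subgroup.mem_map_of_mem π hv
    obtain ⟨a, ha, haP, hq⟩ := exists_top_quadratic hp2 S hEn P1 Z hP1p hZE (y := y) hyE
      (fun v hv => (hclΩ (hVmap v hv)).1)
      (fun v hv w hw => by
        rw [← QuotientGroup.eq_one_iff, ← QuotientGroup.mk'_apply, ← hπ, map_commutatorElement,
          commutatorElement_eq_one_iff_mul_comm]
        exact (hclΩ (hVmap v hv)).2.1 _ (hclΩ (hVmap w hw)).1)
    refine ⟨π a, Subgroup.mem_map_of_mem π ha, haP, fun v hv => ?_⟩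
    rw [← hy, ← Set.image_singleton (f := π), ← Subgroup.map_normalClosure _ π hπs] at hv
    obtain ⟨v, hv, rfl⟩ := hv
    show π a * _ = _ * π a
    rw [← commutatorElement_eq_one_iff_mul_comm, ← map_inv, ← map_inv, ← map_mul, ← map_mul,
      ← map_mul, ← map_commutatorElement]
    exact (QuotientGroup.eq_one_iff _).2 (hq v (le_sup_right (a := Z) hv))
  obtain ⟨⟨yb, hyE, hy1, hyp, gb, c, hc, hgy⟩, hinvb⟩ := hasGenFusion_of_bad hp2 Sb Eb Hb hHbn
    (Subgroup.map_mono hSH) hzE hzS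
    (fun s hs => Subgroup.mem_centralizer_iff.1 hzc s hs) hzp hmove hgoodQ hbadQ htop
  -- back in `G`
  obtain ⟨y, rfl⟩ := hπs yb
  obtain ⟨g, rfl⟩ := hπs gb
  have hyE' : y ∈ E := hback hZE hyE
  set m := (c : ZMod p).val with hm
  have hyg : π (g * y * g⁻¹) = π y ^ m := by rw [map_mul, map_mul, map_inv, hgy]
  obtain ⟨h, hh, hhy⟩ := exists_conj_mem S hyE' (hback hZE (hyg ▸ Eb.pow_mem hyE m))
  letI : CommGroup E := { (inferInstance : Group E) with
    mul_comm := fun a b => Subtype.ext (ZJ.centerA_comm b.2 a.2.1) }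
  let α : MulAut E := Subgroup.normalizerMonoidHom E ⟨h, hh⟩
  have hα : ∀ e : E, ((α e : E) : G) = h * e * h⁻¹ := fun e => rfl
  have hWZ : ∀ {e : E}, e ∈ Z.subgroupOf E ↔ π (e : G) = 1 := fun {e} => by
    rw [Subgroup.mem_subgroupOf]; exact (QuotientGroup.eq_one_iff _).symm
  obtain ⟨k, w, -, hw1, hwp, hwk⟩ := exists_eigen_lift (A := E) (p := p) (S.2.to_le hES) α ⊤
    (Z.subgroupOf E) (fun _ _ => Subgroup.mem_top _)
    (fun e he => by
      rw [Subgroup.mem_subgroupOf, hα]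
      exact hZn.conj_mem _ (Subgroup.mem_subgroupOf.1 he) h)
    (u := ⟨y, hyE'⟩) (Subgroup.mem_top _) (fun hu => hy1 (hWZ.1 hu))
    (hWZ.2 (by rw [SubmonoidClass.coe_pow, map_pow]; exact hyp)) (m := m) (by
      rw [← QuotientGroup.mk_pow, QuotientGroup.eq, hWZ, Subgroup.coe_mul, Subgroup.coe_inv,
        SubmonoidClass.coe_pow, hα, hhy, map_mul, map_inv, hyg, map_pow, inv_mul_cancel])
  have hwk' : h ^ k * (w : G) * (h ^ k)⁻¹ = (w : G) ^ m := by
    have h1 : α ^ k = Subgroup.normalizerMonoidHom E (⟨h, hh⟩ ^ k) := (map_pow _ _ _).symm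
    rw [h1] at hwk
    exact congrArg Subtype.val hwk
  refine ⟨⟨(w : G), w.2, fun h0 => hw1 (Subtype.ext h0), by
    rw [← SubmonoidClass.coe_pow, hwp]; rfl, fun d => ?_⟩,
    Quadratic.involves_of_map (π.subgroupMap H) (π.subgroupMap_surjective H) hinvb⟩
  obtain ⟨j, hj⟩ := hc d
  refine ⟨(h ^ k) ^ j, H.pow_mem (H.pow_mem hh k) j, ?_⟩
  rw [conj_pow_iter hwk' j]
  refine pow_eq_pow_iff_modEq.2 (Nat.ModEq.of_dvd (orderOf_dvd_of_pow_eq_one (by
    rw [← SubmonoidClass.coe_pow, hwp]; rfl : (w : G) ^ p = 1)) ?_)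
  rw [← ZMod.natCast_eq_natCast_iff, Nat.cast_pow, hm, ZMod.natCast_zmod_val,
    ZMod.natCast_zmod_val, ← Units.val_pow_eq_pow_val, hj]

/-- **Glauberman**: failure of control by `N(Z(J(S)))` gives an element of order `p` of `Z(J(S))`
conjugate there to all its nontrivial powers. -/
theorem hasEigen_of_bad (hp2 : p ≠ 2) {G : Type*} [Group G] [Finite G] (S : Sylow p G)
    (hbad : BadIn (Subgroup.normalizer (Cfsg.centerThompsonAOf (S : Subgroup G) : Set G))
        (S : Subgroup G) ⊤) :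
    HasEigen p (Cfsg.centerThompsonAOf (S : Subgroup G))
        (Subgroup.normalizer (Cfsg.centerThompsonAOf (S : Subgroup G) : Set G)) ∧
      Cfsg.Involves ↥(Cfsg.fOver (ZMod p))
        ↥(Subgroup.normalizer (Cfsg.centerThompsonAOf (S : Subgroup G) : Set G)) := by
  classical
  set E := Cfsg.centerThompsonAOf (S : Subgroup G) with hE
  set H := Subgroup.normalizer (E : Set G) with hH
  obtain ⟨L, ⟨hSL, hL⟩, hmin⟩ := Set.exists_min_image
    {L : Subgroup G | (S : Subgroup G) ≤ L ∧ BadIn (H ⊓ L) (S : Subgroup G) L}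
    (fun L => Nat.card L) (Set.toFinite _) ⟨⊤, le_top, by rw [inf_top_eq]; exact hbad⟩
  let S' : Sylow p L := S.subtype hSL
  have hS' : (S' : Subgroup L).map L.subtype = (S : Subgroup G) := by
    rw [Sylow.coe_subtype]
    exact Subgroup.map_subgroupOf_eq_of_le hSL
  set E' := Cfsg.centerThompsonAOf (S' : Subgroup L) with hE'
  set H' := Subgroup.normalizer (E' : Set L) with hH'
  have hEE : E'.map L.subtype = E := by
    rw [hE', ZJ.map_centerThompsonAOf _ L.subtype_injective, hS']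
  have hHH : ∀ x : L, x ∈ H' ↔ (x : G) ∈ H := by
    intro x
    constructor
    · intro hx
      have := Subgroup.le_normalizer_map L.subtype ⟨x, hx, rfl⟩
      rwa [hEE] at this
    · intro hx
      refine mem_normalizer_of_forall fun e he => ?_
      obtain ⟨e', he', hee⟩ : (x : G) * e * (x : G)⁻¹ ∈ E'.map L.subtype := by
        rw [hEE]
        exact (Subgroup.mem_normalizer_iff.1 hx _).1 (hEE ▸ ⟨e, he, rfl⟩)
      rwa [show x * e * x⁻¹ = e' from Subtype.ext hee.symm]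
  have himg : ∀ (g : L) (A : Set L), (L.subtype : L → G) '' cimg g A =
      cimg (g : G) ((L.subtype : L → G) '' A) := fun g A => by
    unfold cimg; rw [Set.image_image, Set.image_image]; rfl
  have hbad' : BadIn H' (S' : Subgroup L) ⊤ := by
    obtain ⟨A, g, hA, hg, hgA, hn⟩ := hL
    refine ⟨(L.subtype : L → G) ⁻¹' A, ⟨g, hg⟩, fun x hx => hA hx, Subgroup.mem_top _, ?_,
      fun ⟨x, hx, ex⟩ => hn ⟨(x : G), ⟨(hHH x).1 hx, x.2⟩, fun a ha =>
        congrArg Subtype.val (ex ⟨a, hSL (hA ha)⟩ ha)⟩⟩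
    rintro _ ⟨x, hx, rfl⟩
    exact hgA (mem_cimg hx)
  obtain ⟨⟨y, hy, hy1, hyp, hall⟩, hinv⟩ := hasEigen_of_minimal hp2 S' (fun L' hSL' hL' => by
    rintro ⟨A, g, hA, hg, hgA, hn⟩
    set L'' := L'.map L.subtype with hL''
    have hle : L'' ≤ L := Subgroup.map_subtype_le L'
    have hcard := hmin L'' ⟨fun s hs => ⟨⟨s, hSL hs⟩, hSL' hs, rfl⟩,
      (L.subtype : L → G) '' A, g, by
        rintro _ ⟨a, ha, rfl⟩; exact hA ha,
      ⟨g, hg, rfl⟩, by
        rw [← himg]
        rintro _ ⟨a, ha, rfl⟩; exact hgA ha,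
      fun ⟨x, hx, ex⟩ => hn ⟨⟨x, hle hx.2⟩, (hHH _).2 hx.1, fun a ha =>
        Subtype.ext (ex (a : G) ⟨a, ha, rfl⟩)⟩⟩
    refine hL' (Subgroup.map_injective L.subtype_injective ?_)
    rw [← MonoidHom.range_eq_map, Subgroup.range_subtype]
    exact Subgroup.eq_of_le_of_card_ge hle hcard) hbad'
  refine ⟨⟨(y : G), hEE ▸ ⟨y, hy, rfl⟩, fun h => hy1 (Subtype.ext h), congrArg Subtype.val hyp,
    fun d => ?_⟩, involves_of_injective ((L.subtype.comp H'.subtype).codRestrict H fun x => (hHH x.1).1 x.2)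
      (fun a b hab => Subtype.ext (Subtype.ext (congrArg Subtype.val hab :))) hinv⟩
  obtain ⟨h, hh, he⟩ := hall d
  exact ⟨(h : G), (hHH h).1 hh, congrArg Subtype.val he⟩

end Cfsg.Agent.Lib.GlaubermanGlobal
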