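import Cfsg.Agent.Lib.Quadratic.Natural
import Cfsg.Agent.Lib.ConjFunctor.Basic

/-!
An irreducible group of matrices over `GF(p)` generated by two quadratic elements, `p` odd, contains
a quadratic element `x` in any given Sylow subgroup and an element `h` normalizing `⟨x⟩` which
satisfies `(h - μ)(h - μ⁻¹) = 0` and has `-1` among its powers.
-/

set_option autoImplicit false
set_option linter.style.haveILetI false

namespace Cfsg.Agent.Lib.GlaubermanGlobal

open Matrix Cfsg.Agent.Lib.Dickson Cfsg.Agent.Lib.Quadratic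
open Cfsg.Agent.Lib.PLocal.SLTwo (up lo up_add up_zero val_mul up_natCast)

/-- A nonzero common null vector over an extension field gives one over the ground field. -/
theorem exists_descend {k L : Type*} [Field k] [Field L] [Algebra k L] {ι : Type*} [Fintype ι]
    {w : ι → L} (hw : w ≠ 0) :
    ∃ v : ι → k, v ≠ 0 ∧ ∀ A : Matrix ι ι k, A.map (algebraMap k L) *ᵥ w = 0 → A *ᵥ v = 0 := by
  obtain ⟨i, hi⟩ := Function.ne_iff.1 hw
  obtain ⟨lam, hlam⟩ : ∃ lam : L →ₗ[k] k, lam (w i) ≠ 0 := by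
    by_contra hall
    push Not at hall
    exact hi ((Module.forall_dual_apply_eq_zero_iff k _).1 hall)
  refine ⟨fun j => lam (w j), fun h => hlam (congrFun h i), fun A hA => ?_⟩
  funext j
  have h := congrArg lam (congrFun hA j)
  simp only [Matrix.mulVec, dotProduct, Matrix.map_apply, map_sum, ← Algebra.smul_def, map_smul,
    Pi.zero_apply, map_zero, smul_eq_mul] at h
  simpa [Matrix.mulVec, dotProduct] using h

variable {p : ℕ} [Fact p.Prime] {n : ℕ} {Γ : Type*} [Group Γ]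

/-- The only nonzero invariant subspace is the whole space. -/
def Irred (ρ : Γ →* Matrix (Fin n) (Fin n) (ZMod p)) : Prop :=
  ∀ S : Submodule (ZMod p) (Fin n → ZMod p), S ≠ ⊥ → (∀ g, ∀ v ∈ S, ρ g *ᵥ v ∈ S) → S = ⊤

/-- A conjugation-closed set of matrices with a common null vector over an extension vanishes. -/
theorem eq_zero_of_invariant {ρ : Γ →* Matrix (Fin n) (Fin n) (ZMod p)} (hirr : Irred ρ)
    {L : Type*} [Field L] [Algebra (ZMod p) L] {w : Fin n → L} (hw : w ≠ 0)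
    (𝒜 : Set (Matrix (Fin n) (Fin n) (ZMod p))) (hinv : ∀ A ∈ 𝒜, ∀ g, ρ g⁻¹ * A * ρ g ∈ 𝒜)
    (hkill : ∀ A ∈ 𝒜, A.map (algebraMap (ZMod p) L) *ᵥ w = 0) : ∀ A ∈ 𝒜, A = 0 := by
  obtain ⟨v, hv0, hv⟩ := exists_descend (k := ZMod p) hw
  set S : Submodule (ZMod p) (Fin n → ZMod p) := ⨅ A ∈ 𝒜, LinearMap.ker (Matrix.mulVecLin A)
    with hS
  have hmem : ∀ u, u ∈ S ↔ ∀ A ∈ 𝒜, A *ᵥ u = 0 := fun u => by simp [hS]
  have htop : S = ⊤ := by
    refine hirr S (fun h => hv0 ?_) fun g u hu => (hmem _).2 fun A hA => ?_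
    · have h1 : v ∈ S := (hmem v).2 fun A hA => hv A (hkill A hA)
      rw [h] at h1
      exact (Submodule.mem_bot (ZMod p)).1 h1
    · have h1 := congrArg (ρ g *ᵥ ·) ((hmem u).1 hu _ (hinv A hA g))
      simp only [Matrix.mulVec_mulVec, ← mul_assoc, ← map_mul, mul_inv_cancel, map_one, one_mul,
        Matrix.mulVec_zero] at h1
      rw [Matrix.mulVec_mulVec]
      exact h1
  intro A hA
  ext i j
  have := congrFun ((hmem (Pi.single j 1)).1 (htop ▸ Submodule.mem_top) A hA) i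
  simpa [Matrix.mulVec, dotProduct, Pi.single_apply] using this

/-- `diag(μ, μ⁻¹)` as a homomorphism. -/
def diaHom (p : ℕ) [Fact p.Prime] : (ZMod p)ˣ →* Matrix.SpecialLinearGroup (Fin 2) (ZMod p) where
  toFun μ := ⟨!![(μ : ZMod p), 0; 0, ((μ⁻¹ : (ZMod p)ˣ) : ZMod p)], by
    simp [Matrix.det_fin_two, -Units.val_inv_eq_inv_val]⟩
  map_one' := by
    apply Subtype.ext
    simp [Matrix.one_fin_two]
  map_mul' a b := by
    apply Subtype.ext
    show _ = (_ : Matrix (Fin 2) (Fin 2) (ZMod p)) * _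
    ext i j
    fin_cases i <;> fin_cases j <;>
      simp [Matrix.mul_apply, Fin.sum_univ_two, mul_comm, -Units.val_inv_eq_inv_val]

theorem coe_diaHom (μ : (ZMod p)ˣ) :
    ((diaHom p μ : Matrix.SpecialLinearGroup (Fin 2) (ZMod p)) : Matrix (Fin 2) (Fin 2) (ZMod p)) =
      !![(μ : ZMod p), 0; 0, ((μ⁻¹ : (ZMod p)ˣ) : ZMod p)] := rfl

theorem diaHom_conj_up (μ : (ZMod p)ˣ) :
    diaHom p μ * up 1 * (diaHom p μ)⁻¹ = up ((μ : ZMod p) * (μ : ZMod p)) := by
  rw [← map_inv]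
  apply Subtype.ext
  rw [val_mul, val_mul]
  ext i j
  fin_cases i <;> fin_cases j <;>
    simp [coe_diaHom, Dickson.coe_up, Matrix.mul_apply, Fin.sum_univ_two, -Units.val_inv_eq_inv_val]

variable [Finite Γ]

/-- The torus element supplied by an irreducible quadratic pair. -/
theorem exists_torus (hp : p ≠ 2) (ρ : Γ →* Matrix (Fin n) (Fin n) (ZMod p))
    (hρ : Function.Injective ρ) (hirr : Irred ρ) {a b : Γ}
    (hgen : Subgroup.closure {a, b} = ⊤) (hu : (ρ a - 1) * (ρ a - 1) = 0)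
    (hw : (ρ b - 1) * (ρ b - 1) = 0) (hnp : ¬ IsPGroup p Γ) (T : Sylow p Γ)
    (μ : (ZMod p)ˣ) (hμ : ∀ c : (ZMod p)ˣ, ∃ j : ℕ, μ ^ j = c) :
    ∃ (K : Subgroup Γ) (x h : Γ), x ∈ (T : Subgroup Γ) ∧ x ∈ K ∧ x ≠ 1 ∧ h ∈ K ∧
      (ρ x - 1) * (ρ x - 1) = 0 ∧ h ∈ Subgroup.normalizer (Subgroup.zpowers x : Set Γ) ∧
      (K = ⊤ → (T : Subgroup Γ) = Subgroup.zpowers x) ∧
      (ρ h - (μ : ZMod p) • 1) * (ρ h - ((μ⁻¹ : (ZMod p)ˣ) : ZMod p) • 1) = 0 ∧
      (∃ j : ℕ, ρ (h ^ j) = -1) ∧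
      ∃ P₀ : Matrix (Fin n) (Fin 2) (ZMod p), ρ x * P₀ = P₀ * (up (1 : ZMod p)).1 ∧
        ρ h * P₀ = P₀ * (diaHom p μ).1 ∧ ∀ v : Fin 2 → ZMod p, P₀ *ᵥ v = 0 → v = 0 := by
  classical
  haveI : Nonempty (Fin n) := by
    by_contra hne
    rw [not_nonempty_iff] at hne
    exact hnp fun g => ⟨0, by rw [pow_zero, pow_one]; exact hρ (Subsingleton.elim _ _)⟩
  obtain ⟨L, hLf, hLfin, hLc, hLa, l, hl, φ, ha, hb, P, hP, hPinj⟩ :=
    exists_sl2_hom ρ hρ hgen hu hw hnp
  set f := algebraMap (ZMod p) L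
  set w : Fin n → L := P *ᵥ Pi.single 0 1 with hwdef
  have hw0 : w ≠ 0 := fun h => by simpa using congrFun (hPinj _ h) 0
  have kill : ∀ (A : Matrix (Fin n) (Fin n) (ZMod p)) (B : Matrix (Fin 2) (Fin 2) L),
      A.map f * P = P * B → B = 0 → A.map f *ᵥ w = 0 := by
    intro A B h hB
    rw [hwdef, Matrix.mulVec_mulVec, h, hB, Matrix.mul_zero, Matrix.zero_mulVec]
  have hmapρ : ∀ g, f.mapMatrix (ρ g) * P = P * (φ g).1 := hP
  have hφ : Function.Injective φ := by
    rw [injective_iff_map_eq_one]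
    intro g hg
    apply hρ
    rw [map_one, ← sub_eq_zero]
    refine eq_zero_of_invariant hirr hw0 {A | ∃ c, A = ρ (c * g * c⁻¹) - 1} ?_ ?_ _ ⟨1, by simp⟩
    · rintro _ ⟨c, rfl⟩ d
      refine ⟨d⁻¹ * c, ?_⟩
      rw [mul_sub, sub_mul, mul_one, ← map_mul, ← map_mul, ← map_mul, inv_mul_cancel, map_one]
      congr 1; simp [mul_assoc]
    · rintro _ ⟨c, rfl⟩
      refine kill _ ((φ (c * g * c⁻¹)).1 - 1) ?_ (by simp [map_mul, hg])
      rw [← RingHom.mapMatrix_apply, map_sub, map_one, Matrix.sub_mul, Matrix.mul_sub, hmapρ,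
        Matrix.one_mul, Matrix.mul_one]
  have hrange : φ.range = Subgroup.closure {up 1, lo l} := by
    rw [MonoidHom.range_eq_map, ← hgen, MonoidHom.map_closure, Set.image_pair, ha, hb]
  obtain ⟨ψ, hψ, hle⟩ := hasSL2Copy_of_sylow hp φ.range
    (by rw [hrange]; exact one_lt_card_sylow_range hl)
  let ι₀ : Matrix.SpecialLinearGroup (Fin 2) (ZMod p) →* Γ :=
    (MonoidHom.ofInjective hφ).symm.toMonoidHom.comp
      (ψ.codRestrict φ.range fun z => hle ⟨z, rfl⟩)
  have hι₀ : ∀ z, φ (ι₀ z) = ψ z := fun z => MonoidHom.apply_ofInjective_symm hφ _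
  have hι₀inj : Function.Injective ι₀ := fun y z h => hψ (by rw [← hι₀, ← hι₀, h])
  have hupp : (up 1 : Matrix.SpecialLinearGroup (Fin 2) (ZMod p)) ^ p = 1 := by
    rw [← up_natCast, ZMod.natCast_self, up_zero]
  have hup1 : (up 1 : Matrix.SpecialLinearGroup (Fin 2) (ZMod p)) ≠ 1 := fun h => by
    rw [← up_zero] at h; exact one_ne_zero (up_injective h)
  have hx0 : IsPGroup p (Subgroup.zpowers (ι₀ (up 1))) := by
    refine IsPGroup.of_card_dvd_pow (n := 1) ?_
    rw [Nat.card_zpowers, pow_one]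
    exact orderOf_dvd_of_pow_eq_one (by rw [← map_pow, hupp, map_one])
  obtain ⟨c, -, hc⟩ := (ConjFunctor.Basic.isSyl_top T).exists_conj_le hx0 le_top
  let ι : Matrix.SpecialLinearGroup (Fin 2) (ZMod p) →* Γ := (MulAut.conj c).toMonoidHom.comp ι₀
  have hι : Function.Injective ι := (MulAut.conj c).injective.comp hι₀inj
  have hxT : ι (up 1) ∈ (T : Subgroup Γ) :=
    hc (Fusion.Alperin.conj_mem_conjS (Subgroup.mem_zpowers _))
  set x := ι (up 1) with hxdef
  set h := ι (diaHom p μ) with hhdef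
  have hxp : x ^ p = 1 := by rw [hxdef, ← map_pow, hupp, map_one]
  have hx1 : x ≠ 1 := fun hh => hup1 (hι (by rw [map_one]; exact hh))
  have h2 : (2 : L) ≠ 0 := two_ne_zero_char hp
  have hxq : (ρ x - 1) * (ρ x - 1) = 0 := by
    refine eq_zero_of_invariant hirr hw0
      {A | ∃ d, A = (ρ (d * x * d⁻¹) - 1) * (ρ (d * x * d⁻¹) - 1)} ?_ ?_ _ ⟨1, by simp⟩
    · rintro _ ⟨d, rfl⟩ e
      refine ⟨e⁻¹ * d, ?_⟩
      have he : ρ e * ρ e⁻¹ = 1 := by rw [← map_mul, mul_inv_cancel, map_one]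
      have h1 : ρ (e⁻¹ * d * x * (e⁻¹ * d)⁻¹) - 1 = ρ e⁻¹ * (ρ (d * x * d⁻¹) - 1) * ρ e := by
        rw [mul_sub, sub_mul, mul_one, ← map_mul, ← map_mul, ← map_mul, inv_mul_cancel, map_one]
        congr 1; simp [mul_assoc]
      rw [h1]
      calc ρ e⁻¹ * ((ρ (d * x * d⁻¹) - 1) * (ρ (d * x * d⁻¹) - 1)) * ρ e
          = ρ e⁻¹ * (ρ (d * x * d⁻¹) - 1) * (ρ e * ρ e⁻¹) * (ρ (d * x * d⁻¹) - 1) * ρ e := by
            rw [he]; noncomm_ring
        _ = _ := by noncomm_ring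
    · rintro _ ⟨d, rfl⟩
      set y := d * x * d⁻¹ with hy
      refine kill _ (((φ y).1 - 1) * ((φ y).1 - 1)) ?_ (sub_one_sq_eq_zero (trace_of_pow_char h2 ?_))
      · rw [← RingHom.mapMatrix_apply, map_mul, map_sub, map_one]
        simp only [Matrix.sub_mul, Matrix.mul_sub, Matrix.one_mul, Matrix.mul_one, Matrix.mul_assoc,
          hmapρ]
        rw [← Matrix.mul_assoc, hmapρ, Matrix.mul_assoc]
      · rw [← map_pow, hy, conj_pow, hxp, mul_one, mul_inv_cancel, map_one]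
  have hnorm : h ∈ Subgroup.normalizer (Subgroup.zpowers x : Set Γ) := by
    refine ConjFunctor.Basic.mem_normalizer_of_forall ?_
    intro a ha
    obtain ⟨i, rfl⟩ := ha
    simp only
    rw [← conj_zpow, hhdef, hxdef, ← map_inv, ← map_mul, ← map_mul, diaHom_conj_up,
      ← ZMod.natCast_zmod_val ((μ : ZMod p) * (μ : ZMod p)), up_natCast, map_pow]
    exact Subgroup.zpow_mem _ (Subgroup.pow_mem _ (Subgroup.mem_zpowers _) _) _
  have htop : ι.range = ⊤ → (T : Subgroup Γ) = Subgroup.zpowers x := by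
    intro hK
    refine (Subgroup.eq_of_le_of_card_ge (Subgroup.zpowers_le.2 hxT) ?_).symm
    have hT' : IsPGroup p ((T : Subgroup Γ).comap ι) := T.2.comap_of_injective ι hι
    obtain ⟨S, hS⟩ := hT'.exists_le_sylow
    obtain ⟨g, hg⟩ := Linear.exists_sylow_eq_conj_SL p S
    rw [Nat.card_zpowers, orderOf_eq_prime hxp hx1]
    calc Nat.card (T : Subgroup Γ)
        = Nat.card ((T : Subgroup Γ).comap ι) := by
          conv_lhs => rw [← Subgroup.map_comap_eq_self (f := ι) (H := (T : Subgroup Γ))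
            (by rw [hK]; exact le_top)]
          exact Subgroup.card_map_of_injective hι
      _ ≤ Nat.card (S : Subgroup (Matrix.SpecialLinearGroup (Fin 2) (ZMod p))) :=
          Subgroup.card_le_of_le hS
      _ = Nat.card (Linear.uSL (F := ZMod p)).range := by
          rw [hg]
          exact Subgroup.card_map_of_injective (MulEquiv.injective _)
      _ = p := by rw [Linear.card_range_uSL, Nat.card_zmod]
  let ψ' : Matrix.SpecialLinearGroup (Fin 2) (ZMod p) →* Matrix.SpecialLinearGroup (Fin 2) L :=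
    φ.comp ι
  have hψ' : Function.Injective ψ' := hφ.comp hι
  obtain ⟨Q, hQ0, hQ⟩ := exists_intertwiner hp ψ' hψ'
  have hf : ZMod.castHom dvd_rfl L = f := RingHom.ext_zmod _ _
  have htr : Matrix.trace (φ h).1 = f (μ : ZMod p) + f ((μ⁻¹ : (ZMod p)ˣ) : ZMod p) := by
    obtain ⟨i, j, hij⟩ : ∃ i j, Q i j ≠ 0 := by
      by_contra hall
      push Not at hall
      exact hQ0 (Matrix.ext hall)
    set D := f.mapMatrix (diaHom p μ).1 with hD
    have hQD : (φ h).1 * Q = Q * D := by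
      have := hQ (diaHom p μ)
      rw [hf] at this
      exact this
    have hQD2 : (φ h).1 * (φ h).1 * Q = Q * (D * D) := by
      rw [Matrix.mul_assoc, hQD, ← Matrix.mul_assoc, hQD, Matrix.mul_assoc]
    rw [Linear.sl2_mul_self, Matrix.sub_mul, Matrix.smul_mul, hQD, Matrix.one_mul] at hQD2
    have e := congrFun (congrFun hQD2 i) j
    have hμμ : f (μ : ZMod p) * f ((μ⁻¹ : (ZMod p)ˣ) : ZMod p) = 1 := by
      rw [← map_mul, ← Units.val_mul, mul_inv_cancel, Units.val_one, map_one]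
    set t := Matrix.trace (φ h).1
    set m := f (μ : ZMod p) with hm
    set m' := f ((μ⁻¹ : (ZMod p)ˣ) : ZMod p) with hm'
    have hD0 : ∀ k, (Q * D) k 0 = Q k 0 * m ∧ (Q * D) k 1 = Q k 1 * m' := fun k => by
      simp [hD, coe_diaHom, Matrix.mul_apply, Fin.sum_univ_two, hm, hm', -Units.val_inv_eq_inv_val]
    have hD1 : (Q * (D * D)) i 0 = Q i 0 * (m * m) ∧ (Q * (D * D)) i 1 = Q i 1 * (m' * m') := by
      simp [hD, coe_diaHom, Matrix.mul_apply, Fin.sum_univ_two, hm, hm', -Units.val_inv_eq_inv_val]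
    simp only [Matrix.sub_apply, Matrix.smul_apply, smul_eq_mul] at e
    fin_cases j
    · have e' : t * (Q i 0 * m) - Q i 0 = Q i 0 * (m * m) := by rw [← (hD0 i).1, ← hD1.1]; exact e
      refine mul_left_cancel₀ hij ?_
      show Q i 0 * t = Q i 0 * (m + m')
      linear_combination m' * e' + (Q i 0 * m - Q i 0 * t) * hμμ
    · have e' : t * (Q i 1 * m') - Q i 1 = Q i 1 * (m' * m') := by
        rw [← (hD0 i).2, ← hD1.2]; exact e
      refine mul_left_cancel₀ hij ?_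
      show Q i 1 * t = Q i 1 * (m + m')
      linear_combination m * e' + (Q i 1 * m' - Q i 1 * t) * hμμ
  set c₁ : ZMod p := (μ : ZMod p) + ((μ⁻¹ : (ZMod p)ˣ) : ZMod p) with hc₁
  have hpoly : (ρ h - (μ : ZMod p) • 1) * (ρ h - ((μ⁻¹ : (ZMod p)ˣ) : ZMod p) • 1) = 0 := by
    have hexpand : ∀ y : Γ, (ρ y - (μ : ZMod p) • 1) * (ρ y - ((μ⁻¹ : (ZMod p)ˣ) : ZMod p) • 1) =
        ρ y * ρ y - c₁ • ρ y + 1 := by
      intro y
      simp only [Matrix.sub_mul, Matrix.mul_sub, Matrix.smul_mul, Matrix.mul_smul, Matrix.one_mul,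
        Matrix.mul_one, hc₁, add_smul, smul_sub, smul_smul]
      rw [← Units.val_mul, inv_mul_cancel, Units.val_one, one_smul]
      abel
    rw [hexpand]
    refine eq_zero_of_invariant hirr hw0
      {A | ∃ d, A = ρ (d * h * d⁻¹) * ρ (d * h * d⁻¹) - c₁ • ρ (d * h * d⁻¹) + 1} ?_ ?_ _
      ⟨1, by simp⟩
    · rintro _ ⟨d, rfl⟩ e
      refine ⟨e⁻¹ * d, ?_⟩
      simp only [Matrix.mul_add, Matrix.add_mul, Matrix.mul_sub, Matrix.sub_mul, Matrix.mul_smul,
        Matrix.smul_mul, Matrix.mul_one, ← map_mul, inv_mul_cancel, map_one]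
      simp [mul_assoc]
    · rintro _ ⟨d, rfl⟩
      set y := d * h * d⁻¹ with hy
      refine kill _ ((φ y).1 * (φ y).1 - f c₁ • (φ y).1 + 1) ?_ ?_
      · rw [← RingHom.mapMatrix_apply, map_add, map_sub, map_mul, map_one]
        have hsm : f.mapMatrix (c₁ • ρ y) = f c₁ • f.mapMatrix (ρ y) := by
          ext i j; simp
        rw [hsm]
        simp only [Matrix.add_mul, Matrix.sub_mul, Matrix.mul_add, Matrix.mul_sub, Matrix.one_mul,
          Matrix.mul_one, Matrix.smul_mul, Matrix.mul_smul, Matrix.mul_assoc, hmapρ]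
        rw [← Matrix.mul_assoc, hmapρ, Matrix.mul_assoc]
      · have hty : Matrix.trace (φ y).1 = f c₁ := by
          rw [hy, map_mul, map_mul, map_inv, val_mul, val_mul, Matrix.trace_mul_cycle, ← val_mul,
            inv_mul_cancel, Matrix.SpecialLinearGroup.coe_one, Matrix.one_mul, htr, hc₁, map_add]
        rw [Linear.sl2_mul_self, hty]
        abel
  obtain ⟨j, hj⟩ := hμ (-1)
  have hneg : ρ (h ^ j) = -1 := by
    have hz : h ^ j = ι (diaHom p (-1)) := by rw [hhdef, ← map_pow, ← map_pow, hj]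
    have hd1 : diaHom p (-1) ≠ 1 := fun e => by
      have := congrArg (fun z : Matrix.SpecialLinearGroup (Fin 2) (ZMod p) =>
        (z : Matrix (Fin 2) (Fin 2) (ZMod p)) 0 0) e
      simp [coe_diaHom] at this
      exact two_ne_zero_char (F := ZMod p) hp (by linear_combination (-1) * this)
    have hd2 : diaHom p (-1) * diaHom p (-1) = 1 := by
      rw [← map_mul, neg_mul_neg, one_mul, map_one]
    have hψz : (ψ' (diaHom p (-1))).1 = -1 :=
      Linear.eq_neg_one_of_mul_self h2 (fun e => hd1 (hψ' (by rw [e, map_one])))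
        (by rw [← map_mul, hd2, map_one])
    rw [← sub_eq_zero, sub_neg_eq_add]
    refine eq_zero_of_invariant hirr hw0 {A | ∃ d, A = ρ (d * h ^ j * d⁻¹) + 1} ?_ ?_ _ ⟨1, by simp⟩
    · rintro _ ⟨d, rfl⟩ e
      refine ⟨e⁻¹ * d, ?_⟩
      rw [mul_add, add_mul, mul_one, ← map_mul, ← map_mul, ← map_mul, inv_mul_cancel, map_one]
      congr 1; simp [mul_assoc]
    · rintro _ ⟨d, rfl⟩
      refine kill _ ((φ (d * h ^ j * d⁻¹)).1 + 1) ?_ ?_
      · rw [← RingHom.mapMatrix_apply, map_add, map_one, Matrix.add_mul, Matrix.mul_add, hmapρ,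
          Matrix.one_mul, Matrix.mul_one]
      · rw [map_mul, map_mul, map_inv, val_mul, val_mul, hz, show (φ (ι (diaHom p (-1)))).1 = -1
          from hψz, mul_neg_one, neg_mul, ← val_mul, mul_inv_cancel,
          Matrix.SpecialLinearGroup.coe_one, neg_add_cancel]
  -- the natural submodule
  have hPQ : P * Q ≠ 0 := by
    intro h0
    apply hQ0
    ext i k
    have := hPinj (fun t => Q t k) (by
      ext i'; exact congrFun (congrFun h0 i') k)
    exact congrFun this i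
  set W₂ := P * Q with hW₂
  obtain ⟨i₀, j₀, hij⟩ : ∃ i k, W₂ i k ≠ 0 := by
    by_contra hall
    push Not at hall
    exact hPQ (Matrix.ext hall)
  obtain ⟨lam, hlam⟩ : ∃ lam : L →ₗ[ZMod p] ZMod p, lam (W₂ i₀ j₀) ≠ 0 := by
    by_contra hall
    push Not at hall
    exact hij ((Module.forall_dual_apply_eq_zero_iff (ZMod p) _).1 hall)
  let P₀ : Matrix (Fin n) (Fin 2) (ZMod p) := W₂.map lam
  have hint : ∀ z, ρ (ι z) * P₀ = P₀ * z.1 := by
    intro z
    have h1 : (ρ (ι z)).map f * W₂ = W₂ * z.1.map f := by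
      rw [hW₂, ← Matrix.mul_assoc, hP, Matrix.mul_assoc]
      rw [show (φ (ι z)).1 * Q = Q * z.1.map f from by rw [← hf]; exact hQ z, Matrix.mul_assoc]
    ext i k
    have h2 := congrArg lam (congrFun (congrFun h1 i) k)
    simp only [Matrix.mul_apply (M := (ρ (ι z)).map f),
      Matrix.mul_apply (N := z.1.map f), map_sum, Matrix.map_apply,
      f, ← Algebra.smul_def, map_smul, smul_eq_mul] at h2
    simp only [Matrix.mul_apply, P₀, Matrix.map_apply]
    rw [h2]
    refine Finset.sum_congr rfl fun t _ => ?_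
    rw [← Algebra.commutes, ← Algebra.smul_def, map_smul, smul_eq_mul, mul_comm]
  refine ⟨ι.range, x, h, hxT, ⟨_, rfl⟩, hx1, ⟨_, rfl⟩, hxq, hnorm, htop, hpoly, ⟨j, hneg⟩,
    P₀, hint (up 1), hint (diaHom p μ), fun v hv => ?_⟩
  by_contra hv0
  have hall : ∀ z : Matrix.SpecialLinearGroup (Fin 2) (ZMod p), P₀ *ᵥ (z.1 *ᵥ v) = 0 := fun z => by
    rw [Matrix.mulVec_mulVec, ← hint, ← Matrix.mulVec_mulVec, hv, Matrix.mulVec_zero]
  have e1 := hall (up 1)
  have e2 := hall (lo 1)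
  apply hlam
  show P₀ i₀ j₀ = 0
  have a0 := congrFun hv i₀
  have a1 := congrFun e1 i₀
  have a2 := congrFun e2 i₀
  simp [Dickson.coe_up, Dickson.coe_lo, Matrix.mulVec, dotProduct, Fin.sum_univ_two] at a0 a1 a2
  have c1 : P₀ i₀ 0 * v 1 = 0 := by linear_combination a1 - a0
  have c2 : P₀ i₀ 1 * v 0 = 0 := by linear_combination a2 - a0
  by_cases hv0' : v 0 = 0
  · have hv1 : v 1 ≠ 0 := fun h1 => hv0 (by ext i; fin_cases i <;> assumption)
    rw [hv0', mul_zero, zero_add] at a0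
    fin_cases j₀
    · exact (mul_eq_zero.1 c1).resolve_right hv1
    · exact (mul_eq_zero.1 a0).resolve_right hv1
  · have hz : P₀ i₀ 1 = 0 := (mul_eq_zero.1 c2).resolve_right hv0'
    rw [hz, zero_mul, add_zero] at a0
    fin_cases j₀
    · exact (mul_eq_zero.1 a0).resolve_right hv0'
    · exact hz

end Cfsg.Agent.Lib.GlaubermanGlobal
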