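import Cfsg.Agent.Lib.GlaubermanGlobal.Eigen
import Cfsg.Agent.Lib.GlaubermanGlobal.SLPair
import Cfsg.Agent.Lib.Cores.Basic
import Mathlib.LinearAlgebra.Quotient.Basic

/-!
The module theorem: `M` a finite group, `R` a Sylow `p`-subgroup, `H₀` a proper subgroup containing
every proper overgroup of `R` and stabilizing a subspace `U` of a module that contains a vector fixed
by `R` but not by `M`. If an element of `R` outside `O_p(M)` acts quadratically, then some element of
`H₀` has an eigenvector in `U` with eigenvalue a generator of `GF(p)ˣ`.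
-/

set_option autoImplicit false
set_option linter.style.haveILetI false
set_option linter.unusedSectionVars false
set_option maxHeartbeats 1000000

namespace Cfsg.Agent.Lib.GlaubermanGlobal

open scoped Matrix
open Cfsg.Agent.Lib.ConjFunctor.Basic Cfsg.Agent.Lib.Fusion.Alperin

universe u v

variable {p : ℕ} [hp : Fact p.Prime]

/-- A subgroup with a `p`-quotient over `N` is covered by `N` and any of its Sylow subgroups. -/
theorem le_sup_of_pPower {G : Type*} [Group G] [Finite G] {K N T : Subgroup G} (hNK : N ≤ K)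
    (hN : K ≤ Subgroup.normalizer (N : Set G)) (hT : IsSyl p T K)
    (hpow : ∀ d ∈ K, ∃ k : ℕ, d ^ p ^ k ∈ N) : K ≤ N ⊔ T := by
  haveI : (N.subgroupOf K).Normal := (Subgroup.normal_subgroupOf_iff_le_normalizer hNK).2 hN
  have hQ : IsPGroup p (K ⧸ N.subgroupOf K) := by
    intro x
    obtain ⟨d, rfl⟩ := QuotientGroup.mk_surjective x
    obtain ⟨k, hk⟩ := hpow d d.2
    refine ⟨k, ?_⟩
    rw [← QuotientGroup.mk_pow, QuotientGroup.eq_one_iff, Subgroup.mem_subgroupOf,
      SubmonoidClass.coe_pow]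
    exact hk
  obtain ⟨n, hn⟩ := IsPGroup.iff_card.1 hQ
  have h1 : (N ⊔ T).relIndex K ∣ p ^ n := by
    rw [← hn]
    exact Subgroup.relIndex_dvd_of_le_left K (le_sup_left : N ≤ N ⊔ T)
  obtain ⟨i, -, hi⟩ := (Nat.dvd_prime_pow hp.out).1 h1
  cases i with
  | zero => exact Subgroup.relIndex_eq_one.1 (by simpa using hi)
  | succ i =>
    exact absurd ((dvd_pow_self p i.succ_ne_zero).trans
      (hi ▸ Subgroup.relIndex_dvd_of_le_left K (le_sup_right : T ≤ N ⊔ T))) hT.nd

/-- `c` generates `GF(p)ˣ`. -/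
def IsGen (c : (ZMod p)ˣ) : Prop := ∀ d : (ZMod p)ˣ, ∃ j : ℕ, c ^ j = d

theorem exists_isGen : ∃ c : (ZMod p)ˣ, IsGen c := by
  obtain ⟨c, hc⟩ := IsCyclic.exists_monoid_generator (α := (ZMod p)ˣ)
  exact ⟨c, fun d => hc d⟩

theorem IsGen.inv {c : (ZMod p)ˣ} (hc : IsGen c) : IsGen c⁻¹ := fun d => by
  obtain ⟨j, hj⟩ := hc d⁻¹
  exact ⟨j, by rw [inv_pow, hj, inv_inv]⟩

/-- An element of `p'`-order lies in every normal subgroup with a `p`-quotient. -/
theorem mem_of_sup_eq_top {G : Type*} [Group G] [Finite G] {N T : Subgroup G} [N.Normal]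
    (hT : IsPGroup p T) (h : N ⊔ T = ⊤) {g : G} (hg : ¬ p ∣ orderOf g) : g ∈ N := by
  set q := QuotientGroup.mk' N
  have hQ : IsPGroup p (G ⧸ N) := by
    have h2 := hT.map q
    rw [show T.map q = ⊤ from top_le_iff.1 (by
      rw [← Subgroup.map_top_of_surjective q (QuotientGroup.mk'_surjective N), ← h,
        Subgroup.map_sup]
      refine sup_le ?_ le_rfl
      rw [(Subgroup.map_eq_bot_iff _).2 (QuotientGroup.ker_mk' N).ge]
      exact bot_le)] at h2
    exact h2.of_equiv Subgroup.topEquiv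
  obtain ⟨k, hk⟩ := IsPGroup.iff_orderOf.1 hQ (q g)
  cases k with
  | zero =>
    rw [pow_zero, orderOf_eq_one_iff] at hk
    exact (QuotientGroup.eq_one_iff g).1 hk
  | succ k =>
    exact absurd ((dvd_pow_self p k.succ_ne_zero).trans (hk ▸ orderOf_map_dvd q g)) hg

/-- An eigenvector on a section of a module gives one in the module, for a power of the operator. -/
theorem exists_eigen_lift_module {M : Type*} [Group M] {V : Type*} [AddCommGroup V]
    [Module (ZMod p) V] [Finite V] (σ : M →* Module.End (ZMod p) V) (h : M)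
    (U W : Submodule (ZMod p) V) (hU : ∀ v ∈ U, σ h v ∈ U) (hW : ∀ v ∈ W, σ h v ∈ W) {u : V}
    (hu : u ∈ U) (huW : u ∉ W) (c : ZMod p) (hc : σ h u - c • u ∈ W) :
    ∃ k : ℕ, ∃ y ∈ U, y ≠ 0 ∧ σ (h ^ k) y = c • y := by
  have hpow : ∀ x : Multiplicative V, x ^ p = 1 := fun x => by
    apply Multiplicative.toAdd.injective
    rw [toAdd_pow, toAdd_one, ← Nat.cast_smul_eq_nsmul (ZMod p), ZMod.natCast_self, zero_smul]
  let toAut : M →* MulAut (Multiplicative V) :=
    { toFun := fun g =>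
        { toFun := fun x => Multiplicative.ofAdd (σ g x.toAdd)
          invFun := fun x => Multiplicative.ofAdd (σ g⁻¹ x.toAdd)
          left_inv := fun x => by
            simp only [toAdd_ofAdd]
            rw [← Module.End.mul_apply, ← map_mul, inv_mul_cancel, map_one, Module.End.one_apply,
              ofAdd_toAdd]
          right_inv := fun x => by
            simp only [toAdd_ofAdd]
            rw [← Module.End.mul_apply, ← map_mul, mul_inv_cancel, map_one, Module.End.one_apply,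
              ofAdd_toAdd]
          map_mul' := fun x y => by simp }
      map_one' := by ext x; simp
      map_mul' := fun g g' => by ext x; simp [MulAut.mul_apply, Module.End.mul_apply] }
  have happ : ∀ (g : M) (x : Multiplicative V),
      toAut g x = Multiplicative.ofAdd (σ g x.toAdd) := fun g x => rfl
  have hsm : ∀ (d : ZMod p) (x : Multiplicative V), (x ^ d.val).toAdd = d • x.toAdd := fun d x => by
    rw [toAdd_pow, ← Nat.cast_smul_eq_nsmul (ZMod p), ZMod.natCast_zmod_val]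
  obtain ⟨k, y, hy, hy1, -, hyk⟩ := exists_eigen_lift (A := Multiplicative V) (p := p)
    (fun x => ⟨1, by rw [pow_one]; exact hpow x⟩) (toAut h)
    (AddSubgroup.toSubgroup U.toAddSubgroup) (AddSubgroup.toSubgroup W.toAddSubgroup)
    (fun x hx => hU _ hx) (fun x hx => hW _ hx) (u := Multiplicative.ofAdd u) hu huW
    (by rw [hpow]; exact one_mem _) (m := c.val) (by
      rw [← QuotientGroup.mk_pow, QuotientGroup.eq]
      show Multiplicative.toAdd ((toAut h (Multiplicative.ofAdd u))⁻¹ *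
        Multiplicative.ofAdd u ^ c.val) ∈ W
      rw [toAdd_mul, toAdd_inv, hsm, happ, toAdd_ofAdd, toAdd_ofAdd, neg_add_eq_sub, ← neg_sub]
      exact W.neg_mem hc)
  refine ⟨k, y.toAdd, hy, fun h0 => hy1 (toAdd_eq_zero.1 h0), ?_⟩
  rw [← map_pow, happ] at hyk
  rw [← hsm, ← hyk, toAdd_ofAdd]

/-- What the module theorem asserts for the groups of order at most `N`. -/
def EigenHyp (p : ℕ) (N : ℕ) : Prop :=
  ∀ (M : Type u) [Group M] [Finite M], Nat.card M ≤ N →
    ∀ (V : Type v) [AddCommGroup V] [Module (ZMod p) V] [Finite V]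
      (σ : M →* Module.End (ZMod p) V) (R : Sylow p M) (H₀ : Subgroup M), H₀ ≠ ⊤ →
      (∀ L : Subgroup M, (R : Subgroup M) ≤ L → L ≠ ⊤ → L ≤ H₀) →
      ∀ z : V, (∀ r ∈ (R : Subgroup M), σ r z = z) → (∃ g, σ g z ≠ z) →
      ∀ U : Submodule (ZMod p) V, z ∈ U → (∀ h ∈ H₀, ∀ u ∈ U, σ h u ∈ U) →
      ∀ a ∈ (R : Subgroup M), a ∉ Cfsg.pCore p M → (σ a - 1) * (σ a - 1) = 0 →
      ∀ μ : (ZMod p)ˣ, (∀ c : (ZMod p)ˣ, ∃ j : ℕ, μ ^ j = c) →
      ∃ h ∈ H₀, ∃ y ∈ U, y ≠ 0 ∧ ∃ c : (ZMod p)ˣ, (c = μ ∨ c = μ⁻¹) ∧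
        σ h y = (c : ZMod p) • y

/-- The reduced case. -/
theorem eigen_reduced (hp2 : p ≠ 2) {N : ℕ} (ih : EigenHyp.{u, v} p N) {M : Type u} [Group M]
    [Finite M] (hM : Nat.card M ≤ N + 1) {V : Type v} [AddCommGroup V] [Module (ZMod p) V]
    [Finite V] (σ : M →* Module.End (ZMod p) V) (R : Sylow p M) (H₀ : Subgroup M) (hH₀ : H₀ ≠ ⊤)
    (hover : ∀ L : Subgroup M, (R : Subgroup M) ≤ L → L ≠ ⊤ → L ≤ H₀) (z : V)
    (hfix : ∀ r ∈ (R : Subgroup M), σ r z = z) (hmove : ∃ g, σ g z ≠ z)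
    (hspan : Submodule.span (ZMod p) (Set.range fun g => σ g z) = ⊤)
    (hmin : ∀ S : Submodule (ZMod p) V, S ≠ ⊥ → (∀ g, ∀ v ∈ S, σ g v ∈ S) →
      ∀ g, σ g z - z ∈ S)
    (U : Submodule (ZMod p) V) (hzU : z ∈ U) (hU : ∀ h ∈ H₀, ∀ u ∈ U, σ h u ∈ U) {a : M}
    (haR : a ∈ (R : Subgroup M)) (ha : a ∉ Cfsg.pCore p M) (hq : (σ a - 1) * (σ a - 1) = 0)
    (μ : (ZMod p)ˣ) (hμ : ∀ c : (ZMod p)ˣ, ∃ j : ℕ, μ ^ j = c) :
    ∃ h ∈ H₀, ∃ y ∈ U, y ≠ 0 ∧ ∃ c : (ZMod p)ˣ, (c = μ ∨ c = μ⁻¹) ∧
      σ h y = (c : ZMod p) • y := by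
  classical
  set P := Cfsg.pCore p M with hP
  haveI hPn : P.Normal := inferInstance
  have hPR : P ≤ (R : Subgroup M) := Cores.pCore_le_sylow R
  have hRH : (R : Subgroup M) ≤ H₀ := hover _ le_rfl fun hR => ha (by
    have hM' : IsPGroup p (⊤ : Subgroup M) := hR ▸ R.2
    exact Cores.le_pCore hM' (Subgroup.mem_top a))
  have hmul : ∀ (g g' : M) (v : V), σ (g * g') v = σ g (σ g' v) := fun g g' v => by
    rw [map_mul, Module.End.mul_apply]
  have hinv : ∀ (g : M) (v : V), σ g (σ g⁻¹ v) = v := fun g v => by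
    rw [← hmul, mul_inv_cancel, map_one, Module.End.one_apply]
  -- the stabilizer of `z`
  let St : Subgroup M :=
    { carrier := {g | σ g z = z}
      one_mem' := by simp
      mul_mem' := fun {g g'} hg hg' => by
        simp only [Set.mem_setOf_eq] at *; rw [hmul, hg', hg]
      inv_mem' := fun {g} hg => by
        simp only [Set.mem_setOf_eq] at *
        conv_lhs => rw [← hg]
        rw [← hmul, inv_mul_cancel, map_one, Module.End.one_apply] }
  have hRSt : (R : Subgroup M) ≤ St := hfix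
  have hSt : St ≠ ⊤ := fun h => by
    obtain ⟨g, hg⟩ := hmove
    exact hg (h ▸ Subgroup.mem_top g : g ∈ St)
  set C := σ.ker with hC
  have hmemC : ∀ {g : M}, g ∈ C ↔ σ g = 1 := fun {g} => MonoidHom.mem_ker
  have hCext : ∀ g, (∀ d, σ g (σ d z) = σ d z) → g ∈ C := by
    intro g hg
    rw [hmemC]
    refine LinearMap.ext fun v => ?_
    have hv : v ∈ Submodule.span (ZMod p) (Set.range fun g => σ g z) := hspan ▸ Submodule.mem_top
    rw [Module.End.one_apply]
    induction hv using Submodule.span_induction with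
    | mem x hx => obtain ⟨d, rfl⟩ := hx; exact hg d
    | zero => simp
    | add x y _ _ hx hy => rw [map_add, hx, hy]
    | smul c x _ hx => rw [map_smul, hx]
  have hPC : P ≤ C := fun g hg => hCext g fun d => by
    have h1 : σ (d⁻¹ * g * d) z = z := hfix _ (hPR (hPn.conj_mem' g hg d))
    rw [← hmul, show g * d = d * (d⁻¹ * g * d) by group, hmul, h1]
  have hKR : ∀ K : Subgroup M, K.Normal → K ⊔ (R : Subgroup M) ≠ ⊤ →
      (R : Subgroup M) ⊓ K ≤ P := by
    intro K hK hKR
    haveI := hK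
    by_contra hle
    set D := (R : Subgroup M) ⊓ K with hD
    have hn : Subgroup.normalizer (D : Set M) ≠ ⊤ := fun h => by
      haveI := Subgroup.normalizer_eq_top_iff.1 h
      exact hle (Cores.le_pCore (R.2.to_le inf_le_left))
    have hRn : (R : Subgroup M) ≤ Subgroup.normalizer (D : Set M) := fun r hr =>
      mem_normalizer_of_forall fun x hx =>
        ⟨(R : Subgroup M).mul_mem ((R : Subgroup M).mul_mem hr hx.1)
          ((R : Subgroup M).inv_mem hr), hK.conj_mem x hx.2 r⟩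
    refine hH₀ (eq_top_iff.2 fun x _ => ?_)
    obtain ⟨c, hc, m, hm, rfl⟩ := (isSyl_top R).frattini (N := K) le_top
      Subgroup.le_normalizer_of_normal (Subgroup.mem_top x)
    exact mul_mem (hover _ le_sup_right hKR (le_sup_left (a := K) hc)) (hover _ hRn hn hm.2)
  have hCR : C ⊔ (R : Subgroup M) ≠ ⊤ := fun h => hSt (top_le_iff.1 (h ▸ sup_le
    (fun g hg => by
      show σ g z = z
      rw [hmemC.1 hg, Module.End.one_apply]) hRSt))
  have haC : a ∉ C := fun h => ha (hKR C inferInstance hCR ⟨haR, h⟩)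
  have hOp : ∀ D : Subgroup M, D.Normal → (∀ d ∈ D, ∃ k : ℕ, d ^ p ^ k ∈ C) → D ≤ C := by
    intro D hD hpow
    haveI := hD
    have h1 : IsSyl p ((R : Subgroup M) ⊓ D) D := by
      simpa using (isSyl_top R).inf_normal (N := D) Subgroup.le_normalizer_of_normal
    have h2 : D ≤ (D ⊓ C) ⊔ ((R : Subgroup M) ⊓ D) :=
      le_sup_of_pPower inf_le_left Subgroup.le_normalizer_of_normal h1 fun d hd => by
        obtain ⟨k, hk⟩ := hpow d hd
        exact ⟨k, D.pow_mem hd _, hk⟩
    have h3 : D ⊔ (R : Subgroup M) ≠ ⊤ := fun h => hCR (top_le_iff.1 (h ▸ sup_le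
      (h2.trans (sup_le (inf_le_right.trans le_sup_left) (inf_le_left.trans le_sup_right)))
      le_sup_right))
    exact h2.trans (sup_le inf_le_right ((hKR D hD h3).trans hPC))
  -- the minimal submodule
  set X := Submodule.span (ZMod p) (Set.range fun g => σ g z - z) with hX
  have hdX : ∀ g, σ g z - z ∈ X := fun g => Submodule.subset_span ⟨g, rfl⟩
  have hXinv : ∀ g, ∀ v ∈ X, σ g v ∈ X := by
    intro g v hv
    induction hv using Submodule.span_induction with
    | mem x hx =>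
      obtain ⟨d, rfl⟩ := hx
      rw [map_sub, ← hmul, show σ (g * d) z - σ g z = (σ (g * d) z - z) - (σ g z - z) by abel]
      exact X.sub_mem (hdX _) (hdX _)
    | zero => simp
    | add x y _ _ hx hy => rw [map_add]; exact X.add_mem hx hy
    | smul c x _ hx => rw [map_smul]; exact X.smul_mem _ hx
  have hXbot : X ≠ ⊥ := fun h => by
    obtain ⟨g, hg⟩ := hmove
    have := hdX g
    rw [h, Submodule.mem_bot, sub_eq_zero] at this
    exact hg this
  have hXmin : ∀ S : Submodule (ZMod p) V, S ≠ ⊥ → (∀ g, ∀ v ∈ S, σ g v ∈ S) → X ≤ S :=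
    fun S h1 h2 => Submodule.span_le.2 (Set.range_subset_iff.2 (hmin S h1 h2))
  let NX : Subgroup M :=
    { carrier := {g | ∀ v ∈ X, σ g v = v}
      one_mem' := by simp
      mul_mem' := fun {g g'} hg hg' v hv => by rw [hmul, hg' v hv, hg v hv]
      inv_mem' := fun {g} hg v hv => by
        conv_lhs => rw [← hg v hv]
        rw [← hmul, inv_mul_cancel, map_one, Module.End.one_apply] }
  haveI hNXn : NX.Normal := ⟨fun g hg d v hv => by
    rw [hmul, hmul, hg _ (hXinv _ v hv), hinv]⟩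
  have hder : ∀ g ∈ NX, ∀ k : ℕ, σ (g ^ k) z - z = k • (σ g z - z) := by
    intro g hg k
    induction k with
    | zero => simp
    | succ k ih' =>
      rw [pow_succ', hmul, succ_nsmul, ← ih']
      have h1 := hg _ (hdX (g ^ k))
      rw [map_sub] at h1
      rw [← sub_eq_zero] at h1 ⊢
      rw [← h1]
      abel
  have hchar : ∀ v : V, p • v = 0 := fun v => by
    rw [← Nat.cast_smul_eq_nsmul (ZMod p), ZMod.natCast_self, zero_smul]
  have hNXR : NX ⊔ (R : Subgroup M) ≠ ⊤ := by
    intro h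
    refine hSt (top_le_iff.1 ?_)
    have hNXp : ∀ g : M, ¬ p ∣ orderOf g → g ∈ NX := by
      intro g hg
      set q := QuotientGroup.mk' NX
      have hQ : IsPGroup p (M ⧸ NX) := by
        have h2 := R.2.map q
        rw [show ((R : Subgroup M).map q) = ⊤ from top_le_iff.1 (by
          rw [← Subgroup.map_top_of_surjective q (QuotientGroup.mk'_surjective NX), ← h,
            Subgroup.map_sup]
          refine sup_le ?_ le_rfl
          rw [(Subgroup.map_eq_bot_iff _).2 (QuotientGroup.ker_mk' NX).ge]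
          exact bot_le)] at h2
        exact h2.of_equiv Subgroup.topEquiv
      obtain ⟨k, hk⟩ := IsPGroup.iff_orderOf.1 hQ (q g)
      have h3 : orderOf (q g) ∣ orderOf g := orderOf_map_dvd q g
      cases k with
      | zero =>
        rw [pow_zero, orderOf_eq_one_iff] at hk
        exact (QuotientGroup.eq_one_iff g).1 hk
      | succ k => exact absurd ((dvd_pow_self p k.succ_ne_zero).trans (hk ▸ h3)) hg
    refine le_trans (le_sup_of_pPower (K := ⊤) (N := St.normalCore) le_top
      Subgroup.le_normalizer_of_normal (isSyl_top R) fun g _ => ?_)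
      (sup_le (Subgroup.normalCore_le _) hRSt)
    obtain ⟨k, n, hn, hord⟩ :=
      Nat.exists_eq_pow_mul_and_not_dvd (orderOf_pos g).ne' p hp.out.ne_one
    refine ⟨k, fun d => ?_⟩
    have hno : ¬ p ∣ orderOf (d * g ^ p ^ k * d⁻¹) := by
      rw [← MulAut.conj_apply, MulEquiv.orderOf_eq, orderOf_pow_of_dvd (pow_ne_zero _ hp.out.ne_zero) (Dvd.intro n hord.symm),
        hord, Nat.mul_div_cancel_left _ (pow_pos hp.out.pos k)]
      exact hn
    show σ (d * g ^ p ^ k * d⁻¹) z = z
    have h1 := hder _ (hNXp _ hno) (orderOf (d * g ^ p ^ k * d⁻¹))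
    rw [pow_orderOf_eq_one, map_one, Module.End.one_apply, sub_self] at h1
    have h2 : ((orderOf (d * g ^ p ^ k * d⁻¹) : ℕ) : ZMod p) ≠ 0 := by
      rwa [Ne, ZMod.natCast_eq_zero_iff]
    rw [← Nat.cast_smul_eq_nsmul (ZMod p)] at h1
    exact sub_eq_zero.1 ((smul_eq_zero.1 h1.symm).resolve_left h2)
  have hNXC : NX ≤ C := by
    refine hOp NX hNXn fun g hg => ⟨1, hCext _ fun d => ?_⟩
    rw [pow_one]
    have h1 : d⁻¹ * g * d ∈ NX := hNXn.conj_mem' g hg d
    have h2 := hder _ h1 p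
    rw [hchar, sub_eq_zero] at h2
    have h3 : d⁻¹ * g ^ p * d = (d⁻¹ * g * d) ^ p := by
      have := (conj_pow (a := d⁻¹) (b := g) (i := p)).symm
      simpa using this
    rw [← hmul, show g ^ p * d = d * (d⁻¹ * g ^ p * d) by group, hmul, h3, h2]
  have hCNX : C ≤ NX := fun g hg v _ => by rw [hmemC.1 hg, Module.End.one_apply]
  have hdiff : ∀ v : V, ∃ c : ZMod p, v - c • z ∈ X := by
    intro v
    have hv : v ∈ Submodule.span (ZMod p) (Set.range fun g => σ g z) := hspan ▸ Submodule.mem_top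
    induction hv using Submodule.span_induction with
    | mem x hx => obtain ⟨d, rfl⟩ := hx; exact ⟨1, by rw [one_smul]; exact hdX d⟩
    | zero => exact ⟨0, by simp⟩
    | add x y _ _ hx hy =>
      obtain ⟨c, hc⟩ := hx
      obtain ⟨d, hd⟩ := hy
      exact ⟨c + d, by
        rw [add_smul, show x + y - (c • z + d • z) = (x - c • z) + (y - d • z) by abel]
        exact X.add_mem hc hd⟩
    | smul e x _ hx =>
      obtain ⟨c, hc⟩ := hx
      exact ⟨e * c, by rw [mul_smul, ← smul_sub]; exact X.smul_mem _ hc⟩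
  -- the quadratic elements outside `C`
  let Q₀ : Set M := {g | (σ g - 1) * (σ g - 1) = 0 ∧ g ∉ C}
  have hQconj : ∀ g ∈ Q₀, ∀ d, d * g * d⁻¹ ∈ Q₀ := by
    intro g hg d
    refine ⟨?_, fun h => hg.2 (by
      have := (inferInstance : C.Normal).conj_mem' _ h d
      simpa [mul_assoc] using this)⟩
    have h1 : σ (d * g * d⁻¹) - 1 = σ d * (σ g - 1) * σ d⁻¹ := by
      rw [mul_sub, sub_mul, mul_one, ← map_mul, ← map_mul, ← map_mul, mul_inv_cancel, map_one]
    have h2 : σ d⁻¹ * σ d = 1 := by rw [← map_mul, inv_mul_cancel, map_one]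
    rw [h1]
    calc σ d * (σ g - 1) * σ d⁻¹ * (σ d * (σ g - 1) * σ d⁻¹)
        = σ d * ((σ g - 1) * (σ d⁻¹ * σ d) * (σ g - 1)) * σ d⁻¹ := by noncomm_ring
      _ = 0 := by rw [h2, mul_one, hg.1, mul_zero, zero_mul]
  let 𝓛 : Set (Subgroup M) :=
    {L | L ≠ ⊤ ∧ ¬ L ≤ H₀ ∧ ∃ x ∈ (R : Subgroup M) ⊓ L, x ∈ Q₀}
  rcases 𝓛.eq_empty_or_nonempty with hempty | hne
  swap
  · -- recursion
    obtain ⟨L₁, hL₁, hL₁max⟩ := Set.exists_max_image 𝓛
      (fun L => Nat.card ((R : Subgroup M) ⊓ L : Subgroup M)) (Set.toFinite _) hne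
    obtain ⟨L, ⟨hL, hLeq⟩, hLmin⟩ := Set.exists_min_image
      {L | L ∈ 𝓛 ∧ Nat.card ((R : Subgroup M) ⊓ L : Subgroup M) =
        Nat.card ((R : Subgroup M) ⊓ L₁ : Subgroup M)}
      (fun L => Nat.card L) (Set.toFinite _) ⟨L₁, hL₁, rfl⟩
    obtain ⟨hLtop, hLH, x₀, hx₀, hx₀Q⟩ := hL
    set T := (R : Subgroup M) ⊓ L with hT
    set D := Subgroup.closure ((T : Set M) ∩ Q₀) with hD
    have hDT : D ≤ T := (Subgroup.closure_le _).2 Set.inter_subset_left
    have hND : Subgroup.normalizer (D : Set M) ≠ ⊤ := fun h => by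
      haveI := Subgroup.normalizer_eq_top_iff.1 h
      exact hx₀Q.2 (hPC (Cores.le_pCore (R.2.to_le (hDT.trans inf_le_left))
        (Subgroup.subset_closure ⟨hx₀, hx₀Q⟩)))
    have hnormD : ∀ d : M, (∀ g ∈ (T : Set M) ∩ Q₀, d * g * d⁻¹ ∈ T) →
        d ∈ Subgroup.normalizer (D : Set M) := by
      intro d hd
      refine mem_normalizer_of_forall fun g hg => ?_
      have : D.map (MulAut.conj d).toMonoidHom ≤ D := by
        rw [hD, MonoidHom.map_closure, Subgroup.closure_le]
        rintro _ ⟨g, hg, rfl⟩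
        exact Subgroup.subset_closure ⟨hd g hg, hQconj g hg.2 d⟩
      exact this ⟨g, hg, rfl⟩
    have hTlt : T < (R : Subgroup M) := lt_of_le_of_ne inf_le_left fun h =>
      hLH (hover L (inf_eq_left.1 h) hLtop)
    have hM1H : Subgroup.normalizer (D : Set M) ≤ H₀ := by
      by_contra hM1
      have hmem : Subgroup.normalizer (D : Set M) ∈ 𝓛 :=
        ⟨hND, hM1, x₀, ⟨hx₀.1, Subgroup.le_normalizer (Subgroup.subset_closure ⟨hx₀, hx₀Q⟩)⟩, hx₀Q⟩
      have hlt := lt_inf_normalizer R.2 hTlt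
      have hle : (R : Subgroup M) ⊓ Subgroup.normalizer (T : Set M) ≤
          (R : Subgroup M) ⊓ Subgroup.normalizer (D : Set M) :=
        le_inf inf_le_left fun d hd =>
          hnormD d fun g hg => (Subgroup.mem_normalizer_iff.1 hd.2 g).1 hg.1
      have h1 := hL₁max _ hmem
      have h2 : Nat.card T < Nat.card ((R : Subgroup M) ⊓ Subgroup.normalizer (D : Set M) :
          Subgroup M) := by
        refine lt_of_le_of_ne (Subgroup.card_le_of_le (hlt.le.trans hle)) fun he => ?_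
        exact (hlt.trans_le hle).ne (Subgroup.eq_of_le_of_card_ge (hlt.le.trans hle) he.ge)
      rw [hLeq] at h2
      exact (h2.trans_le h1).false
    have hTH : IsSyl p T (L ⊓ H₀) := by
      refine isSyl_of_maximal (R.2.to_le inf_le_left) (le_inf inf_le_right (inf_le_left.trans hRH))
        fun W hW hWL hTW => ?_
      obtain ⟨c, hc, hcW⟩ := ((isSyl_top R).mono hRH le_top).exists_conj_le hW
        (hWL.trans inf_le_right)
      have hcmem : conjS c L ∈ 𝓛 := by
        refine ⟨fun h => hLtop ?_, fun h => hLH ?_, c * x₀ * c⁻¹, ⟨?_, conj_mem_conjS hx₀.2⟩,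
          hQconj _ hx₀Q c⟩
        · rw [← conjS_inv_conjS c L, h, conjS_top]
        · intro g hg
          have h1 := H₀.mul_mem (H₀.mul_mem (H₀.inv_mem hc) (h (conj_mem_conjS (g := c) hg))) hc
          simpa [mul_assoc] using h1
        · exact hcW (conj_mem_conjS (hTW hx₀))
      have h1 := hL₁max _ hcmem
      rw [← hLeq] at h1
      have h2 : conjS c W ≤ (R : Subgroup M) ⊓ conjS c L :=
        le_inf hcW (conjS_mono (hWL.trans inf_le_left))
      exact (Subgroup.eq_of_le_of_card_ge hTW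
        ((card_conjS c W).symm.le.trans ((Subgroup.card_le_of_le h2).trans h1))).symm
    have hTL : IsSyl p T L := by
      refine isSyl_of_maximal (R.2.to_le inf_le_left) inf_le_right fun W hW hWL hTW => ?_
      by_contra hne'
      have hlt := lt_inf_normalizer hW (lt_of_le_of_ne hTW (Ne.symm hne'))
      have hN : W ⊓ Subgroup.normalizer (T : Set M) ≤ L ⊓ H₀ :=
        le_inf (inf_le_left.trans hWL) fun d hd =>
          hM1H (hnormD d fun g hg => (Subgroup.mem_normalizer_iff.1 hd.2 g).1 hg.1)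
      exact hlt.ne (hTH.eq_of_le (hW.to_le inf_le_left) hN hlt.le).symm
    have hcard : Nat.card L ≤ N := by
      have : Nat.card L < Nat.card M := lt_of_le_of_ne (Subgroup.card_le_card_group L)
        fun h => hLtop (Subgroup.eq_top_of_card_eq _ h)
      omega
    set PL : Subgroup M := (Cfsg.pCore p L).map L.subtype with hPL
    have hPLT : PL ≤ T := by
      rintro _ ⟨g, hg, rfl⟩
      exact Cores.pCore_le_sylow hTL.toSylowOf hg
    obtain ⟨x, hxT, hxQ, hxP⟩ : ∃ x ∈ T, x ∈ Q₀ ∧ x ∉ PL := by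
      by_contra hall
      push Not at hall
      refine hLH fun d hd => hM1H (hnormD d fun g hg => hPLT ?_)
      obtain ⟨g', hg', he⟩ := hall g hg.1 hg.2
      refine ⟨⟨d, hd⟩ * g' * ⟨d, hd⟩⁻¹,
        (inferInstance : (Cfsg.pCore p L).Normal).conj_mem g' hg' _, ?_⟩
      rw [← he]; rfl
    obtain ⟨g₀, hg₀⟩ : ∃ g ∈ L, σ g z ≠ z := by
      by_contra hall
      push Not at hall
      refine hLH fun g hg => hover St hRSt hSt (show σ g z = z from hall g hg)
    obtain ⟨h, hh, y, hy, hy0, hc⟩ := ih L hcard V (σ.comp L.subtype) hTL.toSylowOf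
      (H₀.subgroupOf L) (fun h => hLH (Subgroup.subgroupOf_eq_top.1 h))
      (fun L' hTL' hL'top => by
        by_contra hL'H
        set L'' : Subgroup M := L'.map L.subtype with hL''
        have hle : L'' ≤ L := Subgroup.map_subtype_le L'
        have hne' : L'' ≠ L := fun h => hL'top (by
          have h1 : L'.map L.subtype = (⊤ : Subgroup L).map L.subtype := by
            rw [← MonoidHom.range_eq_map, Subgroup.range_subtype]; exact h
          exact Subgroup.map_injective L.subtype_injective h1)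
        have hT'' : T ≤ L'' := fun t ht => ⟨⟨t, ht.2⟩, hTL' (show (⟨t, ht.2⟩ : L) ∈ _ from ht), rfl⟩
        have hmem : L'' ∈ 𝓛 := by
          refine ⟨fun h => hLtop (top_le_iff.1 (h ▸ hle)), fun h => hL'H ?_, x₀,
            ⟨hx₀.1, hT'' hx₀⟩, hx₀Q⟩
          exact fun g hg => Subgroup.mem_subgroupOf.2 (h ⟨g, hg, rfl⟩)
        have heq : (R : Subgroup M) ⊓ L'' = T :=
          le_antisymm (inf_le_inf_left _ hle) (le_inf inf_le_left hT'')
        have := hLmin L'' ⟨hmem, by rw [heq]; exact hLeq⟩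
        exact hne' (Subgroup.eq_of_le_of_card_ge hle this))
      z (fun r hr => hfix _ ((hr : (r : M) ∈ T).1)) ⟨⟨g₀, hg₀.1⟩, hg₀.2⟩ U hzU
      (fun h hh => hU _ hh) ⟨x, hxT.2⟩ (show x ∈ T from hxT)
      (fun h => hxP ⟨_, h, rfl⟩) hxQ.1 μ hμ
    exact ⟨h, hh, y, hy, hy0, hc⟩
  -- the minimal case
  have hsmall : ∀ L : Subgroup M, L ≠ ⊤ → ∀ x ∈ (R : Subgroup M), x ∈ L → x ∈ Q₀ → L ≤ H₀ := by
    intro L hL x hxR hxL hxQ
    by_contra hLH
    have : L ∈ 𝓛 := ⟨hL, hLH, x, ⟨hxR, hxL⟩, hxQ⟩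
    rw [hempty] at this
    exact this
  obtain ⟨d, hd⟩ : ∃ d, d * a * d⁻¹ ∉ H₀ := by
    by_contra hall
    push Not at hall
    set A₀ := Subgroup.normalClosure ({a} : Set M) with hA₀
    have hle : A₀ ≤ H₀ := by
      rw [hA₀, Subgroup.normalClosure, Subgroup.closure_le]
      intro g hg
      obtain ⟨a', ha', hc⟩ := Group.mem_conjugatesOfSet_iff.1 hg
      rw [Set.mem_singleton_iff] at ha'
      obtain ⟨e, rfl⟩ := isConj_iff.1 hc
      exact ha' ▸ hall e
    exact ha (hKR A₀ inferInstance (fun h => hH₀ (top_le_iff.1 (h ▸ sup_le hle hRH)))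
      ⟨haR, Subgroup.subset_normalClosure rfl⟩)
  set b := d * a * d⁻¹ with hb
  have hgenM : Subgroup.closure ({a, b} : Set M) = ⊤ := by
    by_contra h
    exact hd (hsmall _ h a haR (Subgroup.subset_closure (Or.inl rfl)) ⟨hq, haC⟩
      (Subgroup.subset_closure (Or.inr rfl)))
  -- the matrices on `X`
  haveI : Finite X := inferInstance
  haveI : Module.Finite (ZMod p) X := Module.Finite.of_finite
  let σX : M →* Module.End (ZMod p) X :=
    { toFun := fun g => (σ g).restrict (hXinv g)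
      map_one' := LinearMap.ext fun v => Subtype.ext (by simp [LinearMap.restrict_apply])
      map_mul' := fun g g' => LinearMap.ext fun v => Subtype.ext (by
        simp [LinearMap.restrict_apply, Module.End.mul_apply]) }
  have hσX : ∀ g (v : X), ((σX g v : X) : V) = σ g v := fun g v => rfl
  let bas := Module.finBasis (ZMod p) X
  let E := LinearMap.toMatrixAlgEquiv bas
  let ρ₀ : M →* Matrix (Fin (Module.finrank (ZMod p) X)) (Fin (Module.finrank (ZMod p) X))
      (ZMod p) := E.toMonoidHom.comp σX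
  have hker : ∀ g, ρ₀ g = 1 ↔ g ∈ C := by
    intro g
    show E (σX g) = 1 ↔ _
    rw [← map_one E, E.injective.eq_iff]
    constructor
    · intro h
      refine hNXC fun v hv => ?_
      have := congrArg (fun f : Module.End (ZMod p) X => ((f ⟨v, hv⟩ : X) : V)) h
      exact this
    · intro h
      exact LinearMap.ext fun v => Subtype.ext (hCNX h v v.2)
  let ρ := QuotientGroup.lift C ρ₀ fun g hg => (hker g).2 hg
  let q := QuotientGroup.mk' C
  have hρq : ∀ g, ρ (q g) = ρ₀ g := fun g => rfl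
  have hρinj : Function.Injective ρ := by
    rw [injective_iff_map_eq_one]
    intro y hy
    obtain ⟨g, rfl⟩ := QuotientGroup.mk'_surjective C y
    exact (QuotientGroup.eq_one_iff g).2 ((hker g).1 hy)
  have hEval : ∀ g (w : Fin (Module.finrank (ZMod p) X) → ZMod p),
      bas.equivFun.symm (ρ₀ g *ᵥ w) = σX g (bas.equivFun.symm w) := by
    intro g w
    apply bas.equivFun.injective
    rw [LinearEquiv.apply_symm_apply]
    have hk := LinearMap.toMatrix_mulVec_repr bas bas (σX g) (bas.equivFun.symm w)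
    simp only [← Module.Basis.equivFun_apply, LinearEquiv.apply_symm_apply] at hk
    exact hk
  have hirr : Irred ρ := by
    intro S hS hinvS
    let ψ : (Fin (Module.finrank (ZMod p) X) → ZMod p) →ₗ[ZMod p] V :=
      X.subtype.comp bas.equivFun.symm.toLinearMap
    have hψ : Function.Injective ψ := X.injective_subtype.comp bas.equivFun.symm.injective
    have hle : X ≤ S.map ψ := by
      refine hXmin _ (fun h => hS ?_) ?_
      · exact Submodule.map_injective_of_injective hψ (by rw [h, Submodule.map_bot])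
      · rintro g _ ⟨w, hw, rfl⟩
        refine ⟨ρ (q g) *ᵥ w, hinvS _ w hw, ?_⟩
        show ((bas.equivFun.symm (ρ₀ g *ᵥ w) : X) : V) = σ g (bas.equivFun.symm w : X)
        rw [hEval, hσX]
    refine eq_top_iff.2 fun w _ => ?_
    obtain ⟨w', hw', he⟩ := hle (bas.equivFun.symm w).2
    exact hψ (show ψ w' = ψ w from he) ▸ hw'
  have hquadρ : ∀ g, (σ g - 1) * (σ g - 1) = 0 → (ρ (q g) - 1) * (ρ (q g) - 1) = 0 := by
    intro g hg
    show (E (σX g) - 1) * (E (σX g) - 1) = 0
    rw [← map_one E, ← map_sub, ← map_mul, ← map_zero E]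
    congr 1
    refine LinearMap.ext fun v => Subtype.ext ?_
    exact congrArg (fun f : Module.End (ZMod p) V => f v) hg
  have hgenΓ : Subgroup.closure ({q a, q b} : Set (M ⧸ C)) = ⊤ := by
    rw [← Set.image_pair, ← MonoidHom.map_closure, hgenM,
      Subgroup.map_top_of_surjective q (QuotientGroup.mk'_surjective C)]
  have hnpΓ : ¬ IsPGroup p (M ⧸ C) := fun h => haC (hOp ⊤ inferInstance (fun g _ => by
    obtain ⟨k, hk⟩ := h (q g)
    exact ⟨k, (QuotientGroup.eq_one_iff _).1 (by rw [QuotientGroup.mk_pow]; exact hk)⟩)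
    (Subgroup.mem_top a))
  obtain ⟨K, x', h', hxT, hxK, hx1, hhK, hxq, hhn, hKtop, hpoly,
      ⟨j, hj⟩, -⟩ :=
    exists_torus hp2 ρ hρinj hirr hgenΓ (hquadρ a hq) (hquadρ b (hQconj a ⟨hq, haC⟩ d).1) hnpΓ
      (R.mapSurjective (QuotientGroup.mk'_surjective C)) μ hμ
  obtain ⟨x, hxR, rfl⟩ : x' ∈ (R : Subgroup M).map q := hxT
  obtain ⟨h, rfl⟩ := QuotientGroup.mk'_surjective C h'
  have hxQ : x ∈ Q₀ := by
    refine ⟨LinearMap.ext fun v => ?_, fun hx => hx1 ((QuotientGroup.eq_one_iff x).2 hx)⟩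
    have h1 : (σX x - 1) * (σX x - 1) = 0 := by
      apply E.injective
      rw [map_mul, map_sub, map_one, map_zero]
      exact hxq
    obtain ⟨c, hc⟩ := hdiff v
    have h2 := congrArg (fun f : Module.End (ZMod p) X => ((f ⟨_, hc⟩ : X) : V)) h1
    have hz0 : (σ x - 1) z = 0 := by
      rw [LinearMap.sub_apply, Module.End.one_apply, hfix x hxR, sub_self]
    show (σ x - 1) ((σ x - 1) v) = 0
    rw [show v = c • z + (v - c • z) by abel, map_add (σ x - 1), map_smul (σ x - 1), hz0, smul_zero,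
      zero_add]
    exact h2
  have hhH : h ∈ H₀ := by
    by_cases hK : K.comap q = ⊤
    · have hKt : K = ⊤ := top_le_iff.1 fun y _ => by
        obtain ⟨g, rfl⟩ := QuotientGroup.mk'_surjective C y
        exact (show g ∈ K.comap q from hK ▸ Subgroup.mem_top g)
      have hTR : (R : Subgroup M).map q = Subgroup.zpowers (q x) := hKtop hKt
      set D := (Subgroup.zpowers (q x)).comap q with hD
      refine hover ((Subgroup.normalizer (Subgroup.zpowers (q x) : Set (M ⧸ C))).comap q) ?_ ?_ hhn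
      · intro r hr
        exact Subgroup.le_normalizer (hTR ▸ Subgroup.mem_map_of_mem q hr)
      · intro htop
        haveI hzn : (Subgroup.zpowers (q x)).Normal := by
          rw [← Subgroup.normalizer_eq_top_iff, eq_top_iff]
          intro y _
          obtain ⟨g, rfl⟩ := QuotientGroup.mk'_surjective C y
          exact (show g ∈ (Subgroup.normalizer (Subgroup.zpowers (q x) : Set (M ⧸ C))).comap q from
            htop ▸ Subgroup.mem_top g)
        refine hxQ.2 (hOp D (hzn.comap q) (fun g hg => ?_) (Subgroup.mem_zpowers (q x)))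
        have hp' : IsPGroup p (Subgroup.zpowers (q x)) := hTR ▸ R.2.map q
        obtain ⟨k, hk⟩ := hp' ⟨q g, hg⟩
        exact ⟨k, (QuotientGroup.eq_one_iff _).1 (by
          have := congrArg Subtype.val hk
          rw [SubmonoidClass.coe_pow, OneMemClass.coe_one, ← map_pow] at this
          exact this)⟩
    · exact hsmall _ hK x hxR hxK hxQ hhK
  -- the eigenvector
  have hpolyX : (σX h - (μ : ZMod p) • 1) * (σX h - ((μ⁻¹ : (ZMod p)ˣ) : ZMod p) • 1) = 0 := by
    apply E.injective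
    rw [map_mul, map_sub, map_sub, map_smul, map_smul, map_one, map_zero]
    exact hpoly
  have hnegX : σX (h ^ j) = -1 := by
    apply E.injective
    rw [map_neg, map_one]
    rw [← map_pow] at hj
    exact hj
  have hneg : ∀ v ∈ X, σ (h ^ j) v = -v := fun v hv =>
    congrArg (fun f : Module.End (ZMod p) X => ((f ⟨v, hv⟩ : X) : V)) hnegX
  set u := σ h z - z with hu
  have hu0 : u ≠ 0 := by
    intro h0
    have hhSt : h ∈ St := sub_eq_zero.1 h0
    have htz : σ (h ^ j) z = z := St.pow_mem hhSt j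
    have htC : h ^ j ∈ C := by
      refine hCext _ fun e => ?_
      have hcomm : e⁻¹ * h ^ j * e * (h ^ j)⁻¹ ∈ C := hNXC fun v hv => by
        have e1 : σ (h ^ j)⁻¹ v = -v := by
          have h1 := congrArg (σ (h ^ j)⁻¹) (hneg v hv)
          rw [← hmul, inv_mul_cancel, map_one, Module.End.one_apply, map_neg] at h1
          rw [eq_neg_iff_add_eq_zero]
          conv_lhs => arg 2; rw [h1]
          rw [add_neg_cancel]
        rw [hmul, hmul, hmul, e1, map_neg, map_neg, hneg _ (hXinv _ v hv), neg_neg, ← hmul,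
          inv_mul_cancel, map_one, Module.End.one_apply]
      have h1 : σ (e⁻¹ * h ^ j * e) z = z := by
        have h2 := congrArg (fun f : Module.End (ZMod p) V => f z) (hmemC.1 hcomm)
        simp only [Module.End.one_apply] at h2
        rw [show e⁻¹ * h ^ j * e = e⁻¹ * h ^ j * e * (h ^ j)⁻¹ * h ^ j by group, hmul, htz]
        exact h2
      rw [← hmul, show h ^ j * e = e * (e⁻¹ * h ^ j * e) by group, hmul, h1]
    obtain ⟨v, hv, hv0⟩ := (Submodule.ne_bot_iff X).1 hXbot
    have h1 := hneg v hv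
    rw [hmemC.1 htC, Module.End.one_apply, eq_neg_iff_add_eq_zero, ← two_smul (ZMod p) v] at h1
    exact (smul_eq_zero.1 h1).elim (Dickson.two_ne_zero_char hp2) hv0
  have huX : u ∈ X := hdX h
  have huU : u ∈ U := U.sub_mem (hU h hhH z hzU) hzU
  by_cases hw : σ h u - ((μ⁻¹ : (ZMod p)ˣ) : ZMod p) • u = 0
  · exact ⟨h, hhH, u, huU, hu0, μ⁻¹, Or.inr rfl, sub_eq_zero.1 hw⟩
  refine ⟨h, hhH, _, U.sub_mem (hU h hhH u huU) (U.smul_mem _ huU), hw, μ, Or.inl rfl, ?_⟩
  have := congrArg (fun f : Module.End (ZMod p) X => ((f ⟨u, huX⟩ : X) : V)) hpolyX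
  exact sub_eq_zero.1 this

/-- The module theorem. -/
theorem eigenHyp (hp2 : p ≠ 2) : ∀ N : ℕ, EigenHyp.{u, v} p N := by
  intro N
  induction N with
  | zero => exact fun M _ _ hM => absurd hM (Nat.not_le.2 Nat.card_pos)
  | succ N ih =>
  intro M _ _ hM V _ _ _ σ R H₀ hH₀ hover z hfix hmove U hzU hU a haR ha hq μ hμ
  classical
  set V₀ := Submodule.span (ZMod p) (Set.range fun g => σ g z) with hV₀
  have hz0 : z ∈ V₀ := Submodule.subset_span ⟨1, by simp⟩
  have hV₀inv : ∀ g, ∀ v ∈ V₀, σ g v ∈ V₀ := by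
    intro g v hv
    induction hv using Submodule.span_induction with
    | mem x hx =>
      obtain ⟨d, rfl⟩ := hx
      exact Submodule.subset_span ⟨g * d, by simp [Module.End.mul_apply]⟩
    | zero => simp
    | add x y _ _ hx hy => rw [map_add]; exact V₀.add_mem hx hy
    | smul c x _ hx => rw [map_smul]; exact V₀.smul_mem _ hx
  let σ₀ : M →* Module.End (ZMod p) V₀ :=
    { toFun := fun g => (σ g).restrict (hV₀inv g)
      map_one' := LinearMap.ext fun v => Subtype.ext (by simp [LinearMap.restrict_apply])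
      map_mul' := fun g g' => LinearMap.ext fun v => Subtype.ext (by
        simp [LinearMap.restrict_apply, Module.End.mul_apply]) }
  have hσ₀ : ∀ g (v : V₀), ((σ₀ g v : V₀) : V) = σ g v := fun g v => rfl
  set z₀ : V₀ := ⟨z, hz0⟩ with hz₀
  obtain ⟨W, hWmax⟩ := Set.Finite.exists_maximal (s := {W : Submodule (ZMod p) V₀ |
      (∀ g, ∀ v ∈ W, σ₀ g v ∈ W) ∧ ∃ g, σ₀ g z₀ - z₀ ∉ W}) (Set.toFinite _) (by
    obtain ⟨g, hg⟩ := hmove
    refine ⟨⊥, fun g v hv => ?_, g, fun h => hg ?_⟩
    · rw [Submodule.mem_bot] at hv ⊢; rw [hv, map_zero]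
    · rw [Submodule.mem_bot, sub_eq_zero] at h
      exact congrArg Subtype.val h)
  obtain ⟨hWinv, g₀, hg₀⟩ := hWmax.1
  haveI : Finite (V₀ ⧸ W) := Finite.of_surjective _ W.mkQ_surjective
  let σ₁ : M →* Module.End (ZMod p) (V₀ ⧸ W) :=
    { toFun := fun g => W.mapQ W (σ₀ g) fun v hv => hWinv g v hv
      map_one' := Submodule.linearMap_qext _ (LinearMap.ext fun v => by simp)
      map_mul' := fun g g' => Submodule.linearMap_qext _ (LinearMap.ext fun v => by
        simp [Module.End.mul_apply]) }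
  have hσ₁ : ∀ g v, σ₁ g (W.mkQ v) = W.mkQ (σ₀ g v) := fun g v => rfl
  obtain ⟨h, hh, y, hy, hy0, c, hc, hcy⟩ := eigen_reduced hp2 ih hM σ₁ R H₀ hH₀ hover (W.mkQ z₀)
    (fun r hr => by rw [hσ₁, show σ₀ r z₀ = z₀ from Subtype.ext (hfix r hr)])
    ⟨g₀, fun h => hg₀ ((Submodule.Quotient.eq W).1 (by rw [hσ₁] at h; exact h))⟩
    (by
      refine eq_top_iff.2 fun w _ => ?_
      obtain ⟨⟨v, hv⟩, rfl⟩ := W.mkQ_surjective w
      have key : ∀ v (hv : v ∈ V₀), W.mkQ ⟨v, hv⟩ ∈
          Submodule.span (ZMod p) (Set.range fun g => σ₁ g (W.mkQ z₀)) := by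
        intro v hv
        induction hv using Submodule.span_induction with
        | mem x hx =>
          obtain ⟨d, rfl⟩ := hx
          exact Submodule.subset_span ⟨d, by
            show σ₁ d (W.mkQ z₀) = _
            rw [hσ₁]; rfl⟩
        | zero => exact (map_zero W.mkQ).symm ▸ Submodule.zero_mem _
        | add x y hx' hy' hx hy =>
          have : W.mkQ ⟨x + y, V₀.add_mem hx' hy'⟩ = W.mkQ ⟨x, hx'⟩ + W.mkQ ⟨y, hy'⟩ := rfl
          rw [this]; exact Submodule.add_mem _ hx hy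
        | smul e x hx' hx =>
          have : W.mkQ ⟨e • x, V₀.smul_mem e hx'⟩ = e • W.mkQ ⟨x, hx'⟩ := rfl
          rw [this]; exact Submodule.smul_mem _ _ hx
      exact key v hv)
    (fun S hS hSinv g => by
      by_contra hg
      have hle : W ≤ S.comap W.mkQ := fun v hv => by
        rw [Submodule.mem_comap, Submodule.mkQ_apply, (Submodule.Quotient.mk_eq_zero W).2 hv]
        exact S.zero_mem
      have hmem : (∀ g, ∀ v ∈ S.comap W.mkQ, σ₀ g v ∈ S.comap W.mkQ) ∧
          ∃ g, σ₀ g z₀ - z₀ ∉ S.comap W.mkQ := by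
        refine ⟨fun g v hv => ?_, g, fun h => hg ?_⟩
        · rw [Submodule.mem_comap, ← hσ₁]; exact hSinv g _ hv
        · rw [Submodule.mem_comap, map_sub, ← hσ₁] at h; exact h
      have heq : S.comap W.mkQ ≤ W := hWmax.2 hmem hle
      refine hS (eq_bot_iff.2 fun w hw => ?_)
      obtain ⟨v, rfl⟩ := W.mkQ_surjective w
      rw [Submodule.mem_bot, Submodule.mkQ_apply, Submodule.Quotient.mk_eq_zero]
      exact heq hw)
    ((U.comap V₀.subtype).map W.mkQ) ⟨z₀, hzU, rfl⟩
    (by
      rintro h hh _ ⟨v, hv, rfl⟩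
      exact ⟨σ₀ h v, hU h hh _ hv, (hσ₁ h v).symm⟩)
    haR ha (Submodule.linearMap_qext _ (LinearMap.ext fun v => by
      show (σ₁ a - 1) ((σ₁ a - 1) (W.mkQ v)) = 0
      have h1 : ∀ v, (σ₁ a - 1) (W.mkQ v) = W.mkQ ((σ₀ a - 1) v) := fun v => by
        rw [LinearMap.sub_apply, LinearMap.sub_apply, Module.End.one_apply, Module.End.one_apply,
          map_sub, hσ₁]
      rw [h1, h1]
      have h2 : (σ₀ a - 1) ((σ₀ a - 1) v) = 0 :=
        Subtype.ext (congrArg (fun f : Module.End (ZMod p) V => f v) hq)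
      rw [h2, map_zero])) μ hμ
  obtain ⟨v, hv, rfl⟩ := hy
  haveI : Finite V₀ := inferInstance
  obtain ⟨k, w, hw, hw0, hwk⟩ := exists_eigen_lift_module σ₀ h (U.comap V₀.subtype) W
    (fun v hv => hU h hh _ hv) (hWinv h) hv
    (fun hvW => hy0 ((Submodule.Quotient.mk_eq_zero W).2 hvW)) (c : ZMod p)
    ((Submodule.Quotient.eq W).1 (by
      rw [hσ₁] at hcy
      exact hcy))
  exact ⟨h ^ k, H₀.pow_mem hh k, w, hw, fun h0 => hw0 (Subtype.ext h0), c, hc,
    congrArg Subtype.val hwk⟩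

end Cfsg.Agent.Lib.GlaubermanGlobal
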