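import Cfsg.Agent.Lib.GlaubermanGlobal.FGroup
import Cfsg.Agent.Lib.Quadratic.PStable
import Cfsg.Agent.Lib.ConjFunctor.Steps
import Cfsg.Agent.Lib.LAEven57.GlaubermanCenter
import Cfsg.Agent.Lib.ZJ.AbelianJ

/-!
Failure of control of fusion by a subgroup normalizing `E`, where an element `z ∈ E` is central in the
Sylow subgroup but not in the group and every proper overgroup of the Sylow subgroup is controlled:
some element of `E` of order `p` is conjugate to its `μ`-th power, `μ` a generator of `GF(p)ˣ`.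
-/

set_option autoImplicit false
set_option linter.style.haveILetI false
set_option linter.unusedSectionVars false

namespace Cfsg.Agent.Lib.GlaubermanGlobal

open Cfsg.Agent.Lib.ConjFunctor Cfsg.Agent.Lib.ConjFunctor.Basic
open Cfsg.Agent.Lib.ConjFunctor.Reach Cfsg.Agent.Lib.Fusion.Alperin

variable {p : ℕ} [hp : Fact p.Prime]

/-- A torus configuration below `R` whose torus map is in the family `Rl`. -/
def FusionF (p : ℕ) [Fact p.Prime] {M : Type*} [Group M] (R : Subgroup M)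
    (Rl : Set M → M → Prop) : Prop :=
  ∃ (Y R₁ : Subgroup M) (π : Y →* Multiplicative (Fin 2 → ZMod p)) (x h : M)
    (μ : (ZMod p)ˣ) (j : ℕ),
    Function.Surjective π ∧ Y ≤ R ∧ R₁ ≤ R ∧ x ∈ R₁ ∧
      h ∈ Subgroup.normalizer (R₁ : Set M) ∧ IsGen μ ∧ μ ^ j = -1 ∧
      GActs π x (Cfsg.Agent.Lib.PLocal.SLTwo.up 1) ∧ GActs π h (diaHom p μ) ∧
      h ^ j * x = x * h ^ j ∧ Rl ((Y : Set M) ∪ R₁) h

/-- A realized torus configuration gives `F(p)` in `H`. -/
theorem involves_of_fusionF (hp2 : p ≠ 2) {M Q : Type*} [Group M] [Finite M] [Group Q] [Finite Q]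
    {H : Subgroup Q} (f : M →* Q) (hf : Function.Injective f) {R : Subgroup M}
    (hRH : R.map f ≤ H) {Rl : Set M → M → Prop}
    (hRl : ∀ A g, Rl A g → ∃ y ∈ H, ∀ a ∈ A, y * f a * y⁻¹ = f (g * a * g⁻¹))
    (hF : FusionF p R Rl) : Cfsg.Involves ↥(Cfsg.fOver (ZMod p)) ↥H := by
  obtain ⟨Y, R₁, π, x, h, μ, j, hπ, hY, hR₁, hx, hhn, hμ, hj, hxA, hhA, hc, hr⟩ := hF
  obtain ⟨y, hy, hya⟩ := hRl _ _ hr
  have hiter : ∀ i : ℕ, ∀ a ∈ R₁, y ^ i * f a * (y ^ i)⁻¹ = f (h ^ i * a * (h ^ i)⁻¹) := by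
    intro i
    induction i with
    | zero => simp
    | succ i ih =>
      intro a ha
      have h1 := (Subgroup.mem_normalizer_iff.1 (pow_mem hhn i) a).1 ha
      calc y ^ (i + 1) * f a * (y ^ (i + 1))⁻¹ = y * (y ^ i * f a * (y ^ i)⁻¹) * y⁻¹ := by
            rw [pow_succ']; group
        _ = _ := by rw [ih a ha, hya _ (Or.inr h1)]; congr 1; rw [pow_succ']; group
  have hYH : Y.map f ≤ H := (Subgroup.map_mono hY).trans hRH
  let e : (Y.map f).subgroupOf H ≃* Y :=
    (Subgroup.subgroupOfEquivOfLe hYH).trans (Y.equivMapOfInjective f hf).symm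
  have he : ∀ u : (Y.map f).subgroupOf H, f ((e u : Y) : M) = ((u : H) : Q) := fun u =>
    congrArg Subtype.val ((Y.equivMapOfInjective f hf).apply_symm_apply
      (Subgroup.subgroupOfEquivOfLe hYH u))
  let π' : (Y.map f).subgroupOf H →* Multiplicative (Fin 2 → ZMod p) := π.comp e.toMonoidHom
  have hπ' : Function.Surjective π' := hπ.comp e.surjective
  have htrans : ∀ (g : M) (k : H) (A : Matrix.SpecialLinearGroup (Fin 2) (ZMod p)),
      (∀ a ∈ Y, (k : Q) * f a * (k : Q)⁻¹ = f (g * a * g⁻¹)) → GActs π g A → GActs π' k A := by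
    intro g k A hk hg u
    obtain ⟨w, hw, hwA⟩ := hg (e u)
    refine ⟨e.symm w, ?_, ?_⟩
    · apply Subtype.ext
      rw [← he, MulEquiv.apply_symm_apply, hw, ← hk _ (e u).2, he]
      rfl
    · show (π (e (e.symm w))).toAdd = _
      rw [MulEquiv.apply_symm_apply, hwA]
      rfl
  refine involves_fOver hp2 π' hπ' hμ hj (x := ⟨f x, hRH ⟨x, hR₁ hx, rfl⟩⟩) (h := ⟨y, hy⟩)
    (htrans x _ _ (fun a _ => by simp) hxA)
    (htrans h _ _ (fun a ha => hya a (Or.inl ha)) hhA) (Subtype.ext ?_)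
  have h1 := hiter j x hx
  rw [hc, mul_inv_cancel_right, mul_inv_eq_iff_eq_mul] at h1
  exact h1

/-- Some element of order `p` in `E` is conjugate to its power with exponent a generator. -/
def HasGenFusion (p : ℕ) [Fact p.Prime] {G : Type*} [Group G] (E : Subgroup G) : Prop :=
  ∃ y ∈ E, y ≠ 1 ∧ y ^ p = 1 ∧ ∃ g : G, ∃ c : (ZMod p)ˣ, IsGen c ∧
    g * y * g⁻¹ = y ^ (c : ZMod p).val

/-- The module step. -/
theorem hasGenFusion_of_quadratic (hp2 : p ≠ 2) {M : Type*} [Group M] [Finite M] (R : Sylow p M)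
    (E : Subgroup M) (Rl : Set M → M → Prop)
    (hcomp : ∀ A n c, Rl A n → Rl (cimg n A) c → Rl A (c * n))
    (himg : ∀ A g, Rl A g → A ⊆ E → cimg g A ⊆ E)
    (hgood : ∀ L : Subgroup M, (R : Subgroup M) ≤ L → L ≠ ⊤ → ∀ (A : Set M) (g : M),
      A ⊆ (R : Subgroup M) → g ∈ L → cimg g A ⊆ (R : Subgroup M) → Rl A g)
    (hbad : ∃ (A : Set M) (g : M), A ⊆ (R : Subgroup M) ∧ cimg g A ⊆ (R : Subgroup M) ∧ ¬ Rl A g)
    {z : M} (hzE : z ∈ E) (hzP : z ∈ Cfsg.pCore p M) (hzp : z ^ p = 1)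
    (hzR : ∀ r ∈ (R : Subgroup M), r * z = z * r)
    (hmove : Subgroup.centralizer ({z} : Set M) ≠ ⊤)
    {a : M} (haR : a ∈ (R : Subgroup M)) (haP : a ∉ Cfsg.pCore p M)
    (hq : ∀ v ∈ Subgroup.normalClosure ({z} : Set M), Commute a (a * v * a⁻¹ * v⁻¹)) :
    HasGenFusion p E ∧ FusionF p (R : Subgroup M) Rl := by
  classical
  set P := Cfsg.pCore p M with hP
  haveI hPn : P.Normal := inferInstance
  have hPR : P ≤ (R : Subgroup M) := Cores.pCore_le_sylow R
  set V := Subgroup.normalClosure ({z} : Set M) with hV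
  have hVΩ : V ≤ Quadratic.centralOmega p P := by
    haveI := Quadratic.centralOmega_normal (p := p) hPn
    exact Subgroup.normalClosure_le_normal
      (Set.singleton_subset_iff.2 ⟨hzP, fun y hy => (hzR y (hPR hy)).symm, hzp⟩)
  have hVP : V ≤ P := fun x hx => (hVΩ hx).1
  have hzV : z ∈ V := Subgroup.subset_normalClosure rfl
  letI : CommGroup V := { (inferInstance : Group V) with
    mul_comm := fun x y => Subtype.ext ((hVΩ x.2).2.1 y (hVP y.2)) }
  have hpV : ∀ x : V, x ^ p = 1 := fun x => Subtype.ext (hVΩ x.2).2.2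
  set C := Subgroup.centralizer (V : Set M) with hC
  haveI : C.Normal := Subgroup.normal_centralizer
  have hCR : C ⊔ (R : Subgroup M) ≠ ⊤ := fun h => hmove (top_le_iff.1 (h ▸ sup_le
    (Subgroup.centralizer_le (Set.singleton_subset_iff.2 hzV))
    (fun r hr => Subgroup.mem_centralizer_singleton_iff.2 (hzR r hr))))
  have hdec : ∀ K : Subgroup M, K.Normal → K ≤ C ⊔ (R : Subgroup M) →
      (R : Subgroup M) ⊓ K ≤ P := by
    intro K hK hKle
    haveI := hK
    by_contra hle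
    obtain ⟨A, g, hA, hgA, hn⟩ := hbad
    obtain ⟨c, hc, n, hn', rfl, hnA⟩ := Steps.exists_decomp R (C := K) hA hgA
    have hn2 : Subgroup.normalizer (((R : Subgroup M) ⊓ K : Subgroup M) : Set M) ≠ ⊤ := fun h => by
      haveI := Subgroup.normalizer_eq_top_iff.1 h
      exact hle (Cores.le_pCore (R.2.to_le inf_le_left))
    have hRn : (R : Subgroup M) ≤
        Subgroup.normalizer (((R : Subgroup M) ⊓ K : Subgroup M) : Set M) := fun r hr =>
      mem_normalizer_of_forall fun x hx =>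
        ⟨(R : Subgroup M).mul_mem ((R : Subgroup M).mul_mem hr hx.1)
          ((R : Subgroup M).inv_mem hr), hK.conj_mem x hx.2 r⟩
    refine hn (hcomp A n c (hgood _ hRn hn2 A n hA hn' hnA)
      (hgood _ le_sup_right hCR _ c hnA (hKle hc) ?_))
    rwa [← cimg_mul]
  -- proper overgroups of `R` stabilize `V ⊓ E`
  set H₀ := Subgroup.normalizer ((V ⊓ E : Subgroup M) : Set M) with hH₀
  have hover : ∀ L : Subgroup M, (R : Subgroup M) ≤ L → L ≠ ⊤ → L ≤ H₀ := by
    intro L hRL hL g hg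
    have hsub : ((V ⊓ E : Subgroup M) : Set M) ⊆ (R : Subgroup M) := fun x hx => hPR (hVP hx.1)
    have himg' : cimg g ((V ⊓ E : Subgroup M) : Set M) ⊆ V := by
      rintro _ ⟨x, hx, rfl⟩
      exact Subgroup.Normal.conj_mem inferInstance x hx.1 g
    have hE := himg _ _ (hgood L hRL hL _ g hsub hg fun x hx => hPR (hVP (himg' hx)))
      fun x hx => hx.2
    exact mem_normalizer_of_forall fun x hx => ⟨himg' (mem_cimg hx), hE (mem_cimg hx)⟩
  -- the action on `V`
  obtain ⟨n, ρ, hker, hquad, e, he, heact⟩ :=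
    Quadratic.exists_matrix (A := V) hpV (MulAut.conjNormal : M →* MulAut V)
  have hqa : ∀ x : V, MulAut.conjNormal a (MulAut.conjNormal a x / x : V) =
      (MulAut.conjNormal a x / x : V) := by
    intro x
    apply Subtype.ext
    rw [MulAut.conjNormal_apply]
    have hy : ((MulAut.conjNormal a x / x : V) : M) = a * x * a⁻¹ * (x : M)⁻¹ := by
      show ((MulAut.conjNormal a x : V) : M) / (x : M) = _
      rw [MulAut.conjNormal_apply, div_eq_mul_inv]
    rw [hy]
    exact mul_inv_eq_iff_eq_mul.2 (hq _ x.2)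
  obtain ⟨μ, hμ⟩ := exists_isGen (p := p)
  have hpow : ∀ (c : ZMod p) (x : V), ((x ^ c.val : V) : M) = (x : M) ^ c.val := fun c x => rfl
  have hrad : ¬ Quadratic.InPRad p ρ.ker a := by
    rintro ⟨D, hD, haD, hpow⟩
    haveI := hD
    have hkC : ρ.ker ≤ C := fun g hg => Subgroup.mem_centralizer_iff.2 fun v hv => by
      have h1 : MulAut.conjNormal g (⟨v, hv⟩ : V) = ⟨v, hv⟩ := by
        rw [show (MulAut.conjNormal g : MulAut V) = 1 from (hker g).1 hg]; rfl
      have h2 := congrArg Subtype.val h1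
      rw [MulAut.conjNormal_apply] at h2
      exact (mul_inv_eq_iff_eq_mul.1 h2).symm
    have h1 : IsSyl p ((R : Subgroup M) ⊓ D) D := by
      simpa using (isSyl_top R).inf_normal (N := D) Subgroup.le_normalizer_of_normal
    have h2 : D ≤ (D ⊓ C) ⊔ ((R : Subgroup M) ⊓ D) :=
      le_sup_of_pPower inf_le_left Subgroup.le_normalizer_of_normal h1 fun d hd => by
        obtain ⟨k, hk⟩ := hpow d hd
        exact ⟨k, D.pow_mem hd _, hkC hk⟩
    exact haP (hdec D hD (h2.trans (sup_le (inf_le_right.trans le_sup_left)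
      (inf_le_left.trans le_sup_right))) ⟨haR, haD⟩)
  have hF : FusionF p (R : Subgroup M) Rl := by
    obtain ⟨L₀, Y, R₁, π, x, h, μ', j, hπ, hRL, hL₀, hYR, hR₁, hx, hh, hhn, hμ', hj, hxA, hhA, hc⟩ :=
      exists_fData hp2 R hpV (MulAut.conjNormal : M →* MulAut V) V.subtype V.subtype_injective
        (fun w => hPR (hVP w.2)) (fun g w => MulAut.conjNormal_apply g w) haR hqa
        (by rwa [show (MulAut.conjNormal : M →* MulAut V).ker = ρ.ker from
          Subgroup.ext fun g => ((hker g).trans MonoidHom.mem_ker.symm).symm])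
    refine ⟨Y, R₁, π, x, h, μ', j, hπ, hYR, hR₁, hx, hhn, hμ', hj, hxA, hhA, hc,
      hgood L₀ hRL hL₀ _ h (Set.union_subset hYR hR₁) hh ?_⟩
    rintro _ ⟨a, ha | ha, rfl⟩
    · exact hYR ((Subgroup.mem_normalizer_iff.1 hhA.mem_normalizer a).1 ha)
    · exact hR₁ ((Subgroup.mem_normalizer_iff.1 hhn a).1 ha)
  refine ⟨?_, hF⟩
  by_cases hH : H₀ = ⊤
  · -- all of `V` lies in `E`
    have hVE : V ≤ E := by
      haveI := Subgroup.normalizer_eq_top_iff.1 hH
      exact (Subgroup.normalClosure_le_normal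
        (Set.singleton_subset_iff.2 (show z ∈ V ⊓ E from ⟨hzV, hzE⟩))).trans inf_le_right
    obtain ⟨K, σ, P₀, hσ, hP₀, hinj⟩ :=
      Quadratic.exists_natural_of_notInPRad hp2 ρ (hquad a hqa) hrad
    obtain ⟨k, hk⟩ := hσ (diaHom p μ)
    set w : Fin n → ZMod p := P₀.mulVec (Pi.single 0 1) with hw
    set y : V := e (Multiplicative.ofAdd w) with hy
    have hyk : MulAut.conjNormal (k : M) y = y ^ (μ : ZMod p).val := by
      have h1 : (ρ (k : M)).mulVec w = (μ : ZMod p) • w := by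
        rw [hw, Matrix.mulVec_mulVec, hP₀, ← Matrix.mulVec_mulVec, hk, ← Matrix.mulVec_smul]
        congr 1
        ext i
        fin_cases i <;>
          simp [coe_diaHom, Matrix.mulVec, dotProduct, Fin.sum_univ_two, -Units.val_inv_eq_inv_val]
      rw [hy, heact, h1, ← map_pow, ← ofAdd_nsmul, ← Nat.cast_smul_eq_nsmul (ZMod p),
        ZMod.natCast_zmod_val]
    refine ⟨y, hVE y.2, fun h => ?_, by rw [← SubmonoidClass.coe_pow, hpV]; rfl, (k : M), μ, hμ, ?_⟩
    · have h1 : y = 1 := Subtype.ext h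
      have h2 : w = 0 := Multiplicative.ofAdd.injective (he (by rw [← hy, h1, ← map_one e]; rfl))
      simpa using congrFun (hinj _ h2) 0
    · have := congrArg Subtype.val hyk
      rw [MulAut.conjNormal_apply] at this
      rw [this, hpow]
  -- Theorem on modules
  haveI : Module (ZMod p) (Additive V) :=
    AddCommGroup.zmodModule fun x => Additive.toMul.injective (by simpa using hpV x.toMul)
  let σ : M →* Module.End (ZMod p) (Additive V) :=
    { toFun := fun g =>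
        { toFun := fun x => Additive.ofMul (MulAut.conjNormal g x.toMul)
          map_add' := fun x y => by simp
          map_smul' := fun c x =>
            ZMod.map_smul (MonoidHom.toAdditive (MulAut.conjNormal g : MulAut V).toMonoidHom) c x }
      map_one' := LinearMap.ext fun x => by simp
      map_mul' := fun g h => LinearMap.ext fun x => by simp; rfl }
  have hσ : ∀ g (x : Additive V), ((σ g x).toMul : M) = g * (x.toMul : M) * g⁻¹ := fun g x =>
    MulAut.conjNormal_apply g x.toMul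
  let U : Submodule (ZMod p) (Additive V) :=
    { carrier := {x | (x.toMul : M) ∈ E}
      zero_mem' := E.one_mem
      add_mem' := fun {x y} hx hy => E.mul_mem hx hy
      smul_mem' := fun c x hx => by
        rw [← ZMod.natCast_zmod_val c, Nat.cast_smul_eq_nsmul]
        exact E.pow_mem hx c.val }
  have hquadσ : (σ a - 1) * (σ a - 1) = 0 := by
    refine LinearMap.ext fun x => ?_
    show σ a (σ a x - x) - (σ a x - x) = 0
    rw [sub_eq_zero]
    exact congrArg Additive.ofMul (hqa x.toMul)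
  obtain ⟨h, -, x, hxU, hx0, c, hc, hcx⟩ := eigenHyp hp2 _ M le_rfl (Additive V) σ R H₀ hH hover
    (Additive.ofMul (⟨z, hzV⟩ : V))
    (fun r hr => Additive.toMul.injective (Subtype.ext (by
      rw [hσ]; exact mul_inv_eq_iff_eq_mul.2 (hzR r hr))))
    (by
      by_contra hall
      push Not at hall
      refine hmove (eq_top_iff.2 fun g _ => Subgroup.mem_centralizer_singleton_iff.2 ?_)
      have h1 := congrArg (fun x : Additive V => (x.toMul : M)) (hall g)
      simp only [hσ] at h1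
      exact mul_inv_eq_iff_eq_mul.1 h1)
    U hzE
    (fun g hg x hx => by
      show ((σ g x).toMul : M) ∈ E
      rw [hσ]
      exact ((Subgroup.mem_normalizer_iff.1 hg _).1 ⟨x.toMul.2, hx⟩).2)
    a haR haP hquadσ μ hμ
  refine ⟨(x.toMul : M), hxU, fun h1 => hx0 (Additive.toMul.injective (Subtype.ext h1)),
    by rw [← SubmonoidClass.coe_pow, hpV]; rfl, h, c, ?_, ?_⟩
  · rcases hc with rfl | rfl
    exacts [hμ, hμ.inv]
  · have h1 := congrArg (fun x : Additive V => (x.toMul : M)) hcx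
    simp only [hσ] at h1
    rw [h1, ← ZMod.natCast_zmod_val (c : ZMod p), Nat.cast_smul_eq_nsmul, toMul_nsmul,
      SubmonoidClass.coe_pow, ZMod.natCast_zmod_val]

variable {Q : Type*} [Group Q]

/-- Conjugation by `g` on `A` is realized in `H`. -/
def Real (H : Subgroup Q) (A : Set Q) (g : Q) : Prop :=
  ∃ h ∈ H, ∀ a ∈ A, h * a * h⁻¹ = g * a * g⁻¹

theorem Real.comp {H : Subgroup Q} {A : Set Q} {n c : Q} (h₁ : Real H A n)
    (h₂ : Real H (cimg n A) c) : Real H A (c * n) := by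
  obtain ⟨x, hx, ex⟩ := h₁
  obtain ⟨y, hy, ey⟩ := h₂
  refine ⟨y * x, H.mul_mem hy hx, fun a ha => ?_⟩
  calc y * x * a * (y * x)⁻¹ = y * (x * a * x⁻¹) * y⁻¹ := by group
    _ = c * (n * a * n⁻¹) * c⁻¹ := by rw [ex a ha]; exact ey _ (mem_cimg ha)
    _ = c * n * a * (c * n)⁻¹ := by group

theorem Real.mono {H : Subgroup Q} {A B : Set Q} {g : Q} (h : Real H A g) (hBA : B ⊆ A) :
    Real H B g :=
  h.imp fun _ hx => ⟨hx.1, fun a ha => hx.2 a (hBA ha)⟩

theorem Real.of_mem {H : Subgroup Q} {A : Set Q} {g : Q} (h : g ∈ H) : Real H A g :=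
  ⟨g, h, fun _ _ => rfl⟩

/-- Some fusion map of `T` inside `L` is not realized in `H`. -/
def BadIn (H T L : Subgroup Q) : Prop :=
  ∃ (A : Set Q) (g : Q), A ⊆ T ∧ g ∈ L ∧ cimg g A ⊆ T ∧ ¬ Real H A g

/-- Every `p`-subgroup centralizing `T` lies in `T`. -/
def IsCentric (p : ℕ) (T : Subgroup Q) : Prop :=
  ∀ U : Subgroup Q, IsPGroup p U → U ≤ Subgroup.centralizer (T : Set Q) → U ≤ T

theorem IsCentric.conjS {T : Subgroup Q} (h : IsCentric p T) (k : Q) :
    IsCentric p (Cfsg.Agent.Lib.Fusion.Alperin.conjS k T) := by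
  intro U hU hUC
  have h1 : Cfsg.Agent.Lib.Fusion.Alperin.conjS k⁻¹ U ≤ T := by
    refine h _ (hU.map _) ?_
    have h2 := conjS_mono (g := k⁻¹) hUC
    rwa [conjS_centralizer, conjS_inv_conjS] at h2
  have h3 := conjS_mono (g := k) h1
  rwa [← conjS_mul, mul_inv_cancel, conjS_one] at h3

/-- The local subgroups used in the reduction. -/
def IsBadLocal (p : ℕ) (H S : Subgroup Q) (z : Q) (L : Subgroup Q) : Prop :=
  BadIn H (S ⊓ L) L ∧ IsSyl p (S ⊓ L) L ∧
    (∃ U : Subgroup Q, U ≤ L ∧ IsPGroup p U ∧ L ≤ Subgroup.normalizer (U : Set Q) ∧ z ∈ U) ∧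
    ∃ T : Subgroup Q, T ≤ S ⊓ L ∧ IsCentric p T

variable [Finite Q]

theorem mem_centralizer_zpowers {z : Q} {T : Subgroup Q} (h : ∀ t ∈ T, t * z = z * t) :
    Subgroup.zpowers z ≤ Subgroup.centralizer (T : Set Q) :=
  Subgroup.zpowers_le.2 (Subgroup.mem_centralizer_iff.2 h)

/-- A bad step of Alperin's theorem gives a bad local subgroup. -/
theorem exists_badLocal {S : Sylow p Q} {H : Subgroup Q} {z : Q} (hzS : z ∈ (S : Subgroup Q))
    (hzc : ∀ s ∈ (S : Subgroup Q), s * z = z * s) {T : Subgroup Q} {n : Q}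
    (hT : IsFusionBase p (S : Subgroup Q) T) (hn : n ∈ Subgroup.normalizer (T : Set Q))
    (hbad : ¬ Real H (T : Set Q) n) :
    ∃ L, IsBadLocal p H (S : Subgroup Q) z L ∧ T ≤ (S : Subgroup Q) ⊓ L := by
  set Sg : Subgroup Q := (S : Subgroup Q) with hSg
  set N := Subgroup.normalizer (T : Set Q) with hN
  set R := Sg ⊓ N with hR
  have hRN : IsSyl p R N := (isFullyNormalized_iff S.2).1 hT.2.1
  set C := Subgroup.centralizer (T : Set Q) with hC
  have hCN : C ≤ N := Subgroup.centralizer_le_normalizer _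
  have hNC : N ≤ Subgroup.normalizer (C : Set Q) := fun g hg => mem_normalizer_of_conjS_eq (by
    rw [hC, conjS_centralizer, conjS_eq_of_mem_normalizer hg])
  have hsC : IsSyl p (R ⊓ C) C := by
    have := hRN.inf_normal hNC
    rwa [inf_eq_right.2 hCN] at this
  obtain ⟨c, hc, m, hm, rfl⟩ := hRN.frattini hCN hNC hn
  set T' := T ⊔ (R ⊓ C) with hT'
  have hTR : T ≤ R := le_inf hT.1 Subgroup.le_normalizer
  have hT'R : T' ≤ R := sup_le hTR inf_le_left
  set L := N ⊓ Subgroup.normalizer (T' : Set Q) with hL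
  have hmL : m ∈ L := ⟨hm.1, mem_normalizer_of_conjS_eq (by
    rw [hT', conjS_sup, conjS_eq_of_mem_normalizer hm.1, conjS_eq_of_mem_normalizer hm.2])⟩
  have hRL : R ≤ L := le_inf inf_le_right fun r hr => mem_normalizer_of_conjS_eq (by
    rw [hT', conjS_sup, conjS_eq_of_mem_normalizer hr.2, conjS_inf,
      conjS_eq_of_mem_normalizer (Subgroup.le_normalizer hr),
      conjS_eq_of_mem_normalizer (hNC hr.2)])
  have hSL : Sg ⊓ L = R := le_antisymm (inf_le_inf_left _ inf_le_left) (le_inf inf_le_left hRL)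
  have hzR : z ∈ R ⊓ C := by
    have hzC : z ∈ C := Subgroup.mem_centralizer_iff.2 fun t ht => hzc t (hT.1 ht)
    exact ⟨⟨hzS, hCN hzC⟩, hzC⟩
  refine ⟨L, ⟨⟨T, m, ?_, hmL, ?_, fun hr => hbad ?_⟩, ?_,
    ⟨T', hT'R.trans hRL, hRN.isP.to_le hT'R, inf_le_right, le_sup_right (a := T) hzR⟩,
    T', by rw [hSL]; exact hT'R, ?_⟩, by rw [hSL]; exact hTR⟩
  · rw [hSL]; exact hTR
  · rw [hSL]; exact (cimg_subset_self le_rfl hm.1).trans hTR
  · obtain ⟨x, hx, ex⟩ := hr
    refine ⟨x, hx, fun t ht => ?_⟩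
    rw [ex t ht]
    have h1 : m * t * m⁻¹ * c = c * (m * t * m⁻¹) :=
      Subgroup.mem_centralizer_iff.1 hc _ ((Subgroup.mem_normalizer_iff.1 hm.1 t).1 ht)
    calc m * t * m⁻¹ = (m * t * m⁻¹ * c) * c⁻¹ := by group
      _ = c * (m * t * m⁻¹) * c⁻¹ := by rw [h1]
      _ = c * m * t * (c * m)⁻¹ := by group
  · rw [hSL]; exact hRN.mono hRL inf_le_left
  · intro U hU hUC
    have hUC1 : U ≤ C := hUC.trans (Subgroup.centralizer_le (le_sup_left : T ≤ T'))
    have hUC2 : U ≤ Subgroup.normalizer ((R ⊓ C : Subgroup Q) : Set Q) :=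
      (hUC.trans (Subgroup.centralizer_le (le_sup_right : R ⊓ C ≤ T'))).trans
        (Subgroup.centralizer_le_normalizer _)
    have h1 := hsC.eq_of_le (hU.to_sup_of_normal_right' hsC.isP hUC2) (sup_le hUC1 hsC.le)
      le_sup_right
    exact le_sup_left.trans (h1.le.trans le_sup_right)

/-- Fusion of subgroups larger than `r` is realized when all larger base steps are. -/
theorem real_of_chain {S H : Subgroup Q} {r : ℕ}
    (hstep : ∀ (T : Subgroup Q) (n : Q), IsFusionBase p S T →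
      n ∈ Subgroup.normalizer (T : Set Q) → r < Nat.card T → Real H (T : Set Q) n)
    {A : Subgroup Q} {g : Q} (h : FusionChain p S A g) : r < Nat.card A → Real H (A : Set Q) g := by
  induction h with
  | @base B T n hT hBT hn =>
    exact fun hr => (hstep T n hT hn (hr.trans_le (Subgroup.card_le_of_le hBT))).mono hBT
  | @comp B g₁ g₂ _ _ ih₁ ih₂ =>
    intro hr
    exact (ih₁ hr).comp (ih₂ (by rwa [card_conjS]))

/-- The reduction. -/
theorem hasGenFusion_of_bad (hp2 : p ≠ 2) (S : Sylow p Q) (E H : Subgroup Q)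
    (hHE : H ≤ Subgroup.normalizer (E : Set Q)) (hSH : (S : Subgroup Q) ≤ H) {z : Q} (hzE : z ∈ E)
    (hzS : z ∈ (S : Subgroup Q)) (hzc : ∀ s ∈ (S : Subgroup Q), s * z = z * s) (hzp : z ^ p = 1)
    (hmove : Subgroup.centralizer ({z} : Set Q) ≠ ⊤)
    (hgood : ∀ L : Subgroup Q, (S : Subgroup Q) ≤ L → L ≠ ⊤ → ¬ BadIn H (S : Subgroup Q) L)
    (hbad : BadIn H (S : Subgroup Q) ⊤)
    (htop : z ∈ Cfsg.pCore p Q → ∃ a ∈ (S : Subgroup Q), a ∉ Cfsg.pCore p Q ∧
      ∀ v ∈ Subgroup.normalClosure ({z} : Set Q), Commute a (a * v * a⁻¹ * v⁻¹)) :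
    HasGenFusion p E ∧ Cfsg.Involves ↥(Cfsg.fOver (ZMod p)) ↥H := by
  classical
  set Sg : Subgroup Q := (S : Subgroup Q) with hSg
  have hImg : ∀ (A : Set Q) g, Real H A g → A ⊆ E → cimg g A ⊆ E := by
    rintro A g ⟨x, hx, ex⟩ hA _ ⟨a, ha, rfl⟩
    show g * a * g⁻¹ ∈ E
    rw [← ex a ha]
    exact (Subgroup.mem_normalizer_iff.1 (hHE hx) a).1 (hA ha)
  by_cases hzcore : z ∈ Cfsg.pCore p Q
  · obtain ⟨a, ha, haP, hq⟩ := htop hzcore
    obtain ⟨A, g, hA, -, hgA, hn⟩ := hbad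
    obtain ⟨hg1, hF⟩ := hasGenFusion_of_quadratic hp2 S E (Real H) (fun _ _ _ h₁ h₂ => h₁.comp h₂) hImg
      (fun L h1 h2 A g hA hg hgA => by_contra fun hn => hgood L h1 h2 ⟨A, g, hA, hg, hgA, hn⟩)
      ⟨A, g, hA, hgA, hn⟩ hzE hzcore hzp hzc hmove ha haP hq
    exact ⟨hg1, involves_of_fusionF hp2 (MonoidHom.id Q) Function.injective_id
      (by rw [Subgroup.map_id]; exact hSH) (fun A g h => h) hF⟩
  -- the family is not empty
  set 𝓑 : Set (Subgroup Q) := {L | IsBadLocal p H Sg z L} with h𝓑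
  have hne : 𝓑.Nonempty := by
    obtain ⟨A, g, hA, -, hgA, hn⟩ := hbad
    by_contra hemp
    refine hn ((real_of_chain (p := p) (r := 0) (fun T n hT hn' _ => ?_)
      (alperin S (Subgroup.closure A) g ((Subgroup.closure_le _).2 hA) ?_) Nat.card_pos).mono
      Subgroup.subset_closure)
    · by_contra hb
      obtain ⟨L, hL, -⟩ := exists_badLocal hzS hzc hT hn' hb
      exact hemp ⟨L, hL⟩
    · rw [conjS, MonoidHom.map_closure, Subgroup.closure_le]
      exact hgA
  obtain ⟨L₁, hL₁, hL₁max⟩ := Set.exists_max_image 𝓑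
    (fun L => Nat.card (Sg ⊓ L : Subgroup Q)) (Set.toFinite _) hne
  obtain ⟨M, ⟨hMB, hMeq⟩, hMmin⟩ := Set.exists_min_image
    {L | L ∈ 𝓑 ∧ Nat.card (Sg ⊓ L : Subgroup Q) = Nat.card (Sg ⊓ L₁ : Subgroup Q)}
    (fun L => Nat.card L) (Set.toFinite _) ⟨L₁, hL₁, rfl⟩
  obtain ⟨⟨A₀, n₀, hA₀, hn₀, hn₀A, hbad₀⟩, hR, ⟨U, hUM, hU, hMU, hzU⟩, T₀, hT₀, hT₀c⟩ := hMB
  set R := Sg ⊓ M with hRdef
  have hbig : ∀ (A : Subgroup Q) (g : Q), A ≤ Sg → conjS g A ≤ Sg → Nat.card R < Nat.card A →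
      Real H (A : Set Q) g := fun A g hA hgA =>
    real_of_chain (p := p) (fun T n hT hn hr => by
      by_contra hb
      obtain ⟨L, hL, hTL⟩ := exists_badLocal hzS hzc hT hn hb
      exact absurd ((hL₁max L hL).trans hMeq.ge)
        (not_le.2 (hr.trans_le (Subgroup.card_le_of_le hTL)))) (alperin S A g hA hgA)
  have hRlt : R < Sg := lt_of_le_of_ne inf_le_left fun h => by
    have hSM : Sg ≤ M := inf_eq_left.1 h
    refine hzcore ?_
    have hMtop : M = ⊤ := by
      by_contra hMt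
      exact hgood M hSM hMt ⟨A₀, n₀, h ▸ hA₀, hn₀, h ▸ hn₀A, hbad₀⟩
    have hUn : U.Normal := Subgroup.normalizer_eq_top_iff.1 (top_le_iff.1 (hMtop ▸ hMU))
    exact Cores.le_pCore hU hzU
  set PM : Subgroup Q := (Cfsg.pCore p M).map M.subtype with hPM
  have hPMR : PM ≤ R := by
    rintro _ ⟨g, hg, rfl⟩
    exact Cores.pCore_le_sylow hR.toSylowOf hg
  have hzPM : z ∈ PM := by
    haveI : (U.subgroupOf M).Normal := (Subgroup.normal_subgroupOf_iff_le_normalizer hUM).2 hMU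
    exact ⟨⟨z, hUM hzU⟩, Cores.le_pCore (N := U.subgroupOf M) (hU.comap_subtype)
      (Subgroup.mem_subgroupOf.2 hzU), rfl⟩
  have hMPM : M ≤ Subgroup.normalizer (PM : Set Q) := fun g hg =>
    mem_normalizer_of_forall fun x hx => by
      obtain ⟨w, hw, rfl⟩ := hx
      exact ⟨⟨g, hg⟩ * w * ⟨g, hg⟩⁻¹,
        (inferInstance : (Cfsg.pCore p M).Normal).conj_mem w hw _, rfl⟩
  have hzR : z ∈ R := hPMR hzPM
  set J := Cfsg.thompsonSubgroupAOf R with hJ
  have hzJ : ∀ w ∈ R, (∀ r ∈ R, r * w = w * r) → w ∈ J := by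
    intro w hw hwc
    obtain ⟨B, hB⟩ := ZJ.maxAbIn_nonempty R
    exact ZJ.le_thompsonSubgroupAOf hB (ZJ.mem_of_maxAbIn hB hw fun b hb => hwc b (hB.1 hb))
  have hJP : ¬ FusionP3.TG.thompJ R ≤ PM := by
    intro hle
    have hMJ : M ≤ Subgroup.normalizer (J : Set Q) := by
      have h1 : Cfsg.thompsonSubgroupAOf PM = J := by
        rw [hJ, FusionP3.TG.thompsonSubgroupAOf_eq (S := R) hPMR,
          FusionP3.TG.thompsonSubgroupAOf_eq (S := R) le_rfl]
        exact FusionP3.TG.thompJ_eq_of_le (S := R) le_rfl hPMR hle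
      exact hMPM.trans (h1 ▸ ZJ.normalizer_le_normalizer_thompsonA PM)
    obtain ⟨k, hkJ, hkS, hkfn⟩ := exists_fullySyl S J
      ((ZJ.thompsonSubgroupAOf_le R).trans inf_le_left)
    set S1 := Sg ⊓ Subgroup.normalizer (J : Set Q) with hS1
    have hgrow : Nat.card R < Nat.card S1 := by
      have hlt := lt_inf_normalizer S.2 hRlt
      have hle' : Sg ⊓ Subgroup.normalizer (R : Set Q) ≤ S1 :=
        inf_le_inf_left _ (ZJ.normalizer_le_normalizer_thompsonA R)
      refine lt_of_le_of_ne (Subgroup.card_le_of_le (hlt.le.trans hle')) fun he => ?_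
      exact (hlt.trans_le hle').ne (Subgroup.eq_of_le_of_card_ge (hlt.le.trans hle') he.ge)
    obtain ⟨x, hx, ex⟩ := hbig S1 k inf_le_left hkS hgrow
    set J₀ := conjS k J with hJ₀
    have hkM : conjS k M ≤ Subgroup.normalizer (J₀ : Set Q) := by
      rw [hJ₀, ← conjS_normalizer]; exact conjS_mono hMJ
    have hRS1 : R ≤ S1 := le_inf inf_le_left (inf_le_right.trans hMJ)
    have hkR : conjS k R ≤ Sg ⊓ Subgroup.normalizer (J₀ : Set Q) :=
      le_inf ((conjS_mono hRS1).trans hkS) ((conjS_mono inf_le_right).trans hkM)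
    have hzT : z ∈ conjS k T₀ := by
      refine hT₀c.conjS k _ (S.2.to_le (Subgroup.zpowers_le.2 hzS))
        (mem_centralizer_zpowers fun t ht => hzc t ?_) (Subgroup.mem_zpowers z)
      exact (hkR ((conjS_mono hT₀) ht)).1
    have hzJ₀ : z ∈ J₀ := by
      rw [hJ₀, mem_conjS]
      refine hzJ _ (hT₀ (mem_conjS.1 hzT)) fun r hr => ?_
      have h1 := hzc _ (hkR (conj_mem_conjS hr)).1
      calc r * (k⁻¹ * z * k) = k⁻¹ * (k * r * k⁻¹ * z) * k := by group
        _ = k⁻¹ * z * k * r := by rw [h1]; group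
    have hmem : IsBadLocal p H Sg z (Subgroup.normalizer (J₀ : Set Q)) := by
      refine ⟨⟨cimg k A₀, k * n₀ * k⁻¹, ?_, hkM (conj_mem_conjS hn₀), ?_, fun hr => hbad₀ ?_⟩,
        hkfn, ⟨J₀, Subgroup.le_normalizer, (S.2.to_le hkJ), le_rfl, hzJ₀⟩,
        conjS k T₀, (conjS_mono hT₀).trans hkR, hT₀c.conjS k⟩
      · exact (cimg_subset_of_le hA₀ le_rfl).trans hkR
      · rw [← cimg_mul, inv_mul_cancel_right, cimg_mul]
        exact (cimg_subset_of_le hn₀A le_rfl).trans hkR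
      · obtain ⟨x', hx', ex'⟩ := hr
        refine ⟨x⁻¹ * x' * x, H.mul_mem (H.mul_mem (H.inv_mem hx) hx') hx, fun a ha => ?_⟩
        have e1 := ex a (hRS1 (hA₀ ha))
        have e2 := ex' _ (mem_cimg (g := k) ha)
        have e3 := ex _ (hRS1 (hn₀A (mem_cimg ha)))
        calc x⁻¹ * x' * x * a * (x⁻¹ * x' * x)⁻¹ = x⁻¹ * (x' * (x * a * x⁻¹) * x'⁻¹) * x := by group
          _ = x⁻¹ * (k * (n₀ * a * n₀⁻¹) * k⁻¹) * x := by rw [e1, e2]; group
          _ = n₀ * a * n₀⁻¹ := by rw [← e3]; group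
    have h1 := (hL₁max _ hmem).trans hMeq.ge
    have h2 : conjS k S1 ≤ Sg ⊓ Subgroup.normalizer (J₀ : Set Q) := le_inf hkS (by
      rw [hJ₀, ← conjS_normalizer]; exact conjS_mono inf_le_right)
    exact (hgrow.trans_le ((card_conjS k S1).symm.le.trans
      ((Subgroup.card_le_of_le h2).trans h1))).false
  obtain ⟨a, haR, haP, hq⟩ := LAEven57.GlaubermanCenter.exists_quadratic (T := R) (Q := PM)
    hR.isP hPMR ((inf_le_right : R ≤ M).trans hMPM) hJP
  -- inside `M`
  let R' : Sylow p M := hR.toSylowOf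
  let Rl : Set M → M → Prop := fun A g => Real H ((M.subtype : M → Q) '' A) g
  have hcimg : ∀ (g : M) (A : Set M), (M.subtype : M → Q) '' cimg g A =
      cimg (g : Q) ((M.subtype : M → Q) '' A) := fun g A => by
    unfold cimg; rw [Set.image_image, Set.image_image]; rfl
  have hsub : ∀ A : Set M, A ⊆ (R' : Subgroup M) → (M.subtype : M → Q) '' A ⊆ (R : Set Q) :=
    fun A hA => Set.image_subset_iff.2 fun x hx => hA hx
  have hmoveM : Subgroup.centralizer ({(⟨z, hUM hzU⟩ : M)} : Set M) ≠ ⊤ := by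
    intro h
    have hMC : M ≤ Subgroup.centralizer ({z} : Set Q) := fun g hg => by
      have h1 : (⟨g, hg⟩ : M) * ⟨z, hUM hzU⟩ = ⟨z, hUM hzU⟩ * ⟨g, hg⟩ :=
        Subgroup.mem_centralizer_singleton_iff.1 (h ▸ Subgroup.mem_top (⟨g, hg⟩ : M))
      exact Subgroup.mem_centralizer_singleton_iff.2 (congrArg Subtype.val h1)
    exact hgood _ (fun s hs => Subgroup.mem_centralizer_singleton_iff.2 (hzc s hs)) hmove
      ⟨A₀, n₀, fun x hx => (hA₀ hx).1, hMC hn₀, fun x hx => (hn₀A hx).1, hbad₀⟩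
  obtain ⟨⟨y, hy, hy1, hyp, g, c, hc, hgy⟩, hF⟩ :=
    hasGenFusion_of_quadratic hp2 R' (E.subgroupOf M) Rl
    (fun A n c h₁ h₂ => by
      have h₂' : Real H (cimg (n : Q) ((M.subtype : M → Q) '' A)) (c : Q) := hcimg n A ▸ h₂
      exact h₁.comp h₂')
    (fun A g h hA x hx => by
      have h1 := hImg _ _ h (Set.image_subset_iff.2 fun w hw => hA hw)
      rw [← hcimg] at h1
      exact h1 ⟨x, hx, rfl⟩)
    (fun L' hRL hL' A g hA hg hgA => by
      by_contra hn
      set L := L'.map M.subtype with hL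
      have hLM : L ≤ M := Subgroup.map_subtype_le L'
      have hRL' : R ≤ L := fun r hr => ⟨⟨r, hr.2⟩, hRL (show (⟨r, hr.2⟩ : M) ∈ _ from hr), rfl⟩
      have hSL : Sg ⊓ L = R := le_antisymm (inf_le_inf_left _ hLM) (le_inf inf_le_left hRL')
      have hLB : IsBadLocal p H Sg z L := by
        refine ⟨⟨(M.subtype : M → Q) '' A, g, ?_, ⟨g, hg, rfl⟩, ?_, hn⟩, ?_,
          ⟨PM, hPMR.trans hRL', hR.isP.to_le hPMR, hLM.trans hMPM, hzPM⟩, T₀, by rw [hSL]; exact hT₀,
          hT₀c⟩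
        · rw [hSL]; exact hsub A hA
        · rw [hSL, ← hcimg]; exact hsub _ hgA
        · rw [hSL]; exact hR.mono hRL' hLM
      have h1 := hMmin L ⟨hLB, by rw [hSL]; exact hMeq⟩
      refine hL' (Subgroup.map_injective M.subtype_injective ?_)
      rw [← MonoidHom.range_eq_map, Subgroup.range_subtype]
      exact Subgroup.eq_of_le_of_card_ge hLM h1)
    ⟨(M.subtype : M → Q) ⁻¹' A₀, ⟨n₀, hn₀⟩, fun x hx => hA₀ hx,
      by rintro _ ⟨x, hx, rfl⟩; exact hn₀A (mem_cimg hx),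
      fun hr => hbad₀ (Real.mono hr fun x hx => ⟨⟨x, (hA₀ hx).2⟩, hx, rfl⟩)⟩
    (z := ⟨z, hUM hzU⟩) (Subgroup.mem_subgroupOf.2 hzE)
    (by obtain ⟨w, hw, he⟩ := hzPM
        rwa [show (⟨z, hUM hzU⟩ : M) = w from Subtype.ext he.symm])
    (Subtype.ext hzp) (fun r hr => Subtype.ext (hzc _ (show (r : Q) ∈ R from hr).1)) hmoveM
    (a := ⟨a, haR.2⟩) (show a ∈ R from haR) (fun h => haP ⟨_, h, rfl⟩)
    (fun v hv => by
      have hv' : (v : Q) ∈ PM ⊓ Subgroup.centralizer (PM : Set Q) := by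
        haveI := Quadratic.centralOmega_normal (p := p)
          (inferInstance : (Cfsg.pCore p M).Normal)
        have hzΩ : (⟨z, hUM hzU⟩ : M) ∈ Quadratic.centralOmega p (Cfsg.pCore p M) := by
          refine ⟨?_, fun w hw => Subtype.ext (hzc _ (hPMR ⟨w, hw, rfl⟩).1).symm, Subtype.ext hzp⟩
          obtain ⟨w, hw, he⟩ := hzPM
          rwa [show (⟨z, hUM hzU⟩ : M) = w from Subtype.ext he.symm]
        have hvΩ := Subgroup.normalClosure_le_normal (Set.singleton_subset_iff.2 hzΩ) hv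
        refine ⟨⟨v, hvΩ.1, rfl⟩, Subgroup.mem_centralizer_iff.2 ?_⟩
        rintro _ ⟨w, hw, rfl⟩
        exact congrArg Subtype.val (hvΩ.2.1 w hw).symm
      exact Subtype.ext (hq _ hv'))
  refine ⟨⟨(y : Q), hy, fun h => hy1 (Subtype.ext h), congrArg Subtype.val hyp, (g : Q), c, hc,
    congrArg Subtype.val hgy⟩, involves_of_fusionF hp2 M.subtype M.subtype_injective ?_ ?_ hF⟩
  · rintro _ ⟨r, hr, rfl⟩
    exact hSH (show (r : Q) ∈ R from hr).1
  · rintro A g ⟨x, hx, ex⟩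
    exact ⟨x, hx, fun a ha => by rw [ex _ ⟨a, ha, rfl⟩]; simp⟩

end Cfsg.Agent.Lib.GlaubermanGlobal
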